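import Cfsg.Agent.Lib.ConjFunctor.Basic

/-!
# Alperin's fusion theorem for families of representatives, and well placed subgroups
-/

set_option autoImplicit false

namespace CfsgLib.ConjFunctor

variable {G : Type*} [Group G] [Finite G] {p : ℕ} [Fact p.Prime]

/-- Alperin's fusion theorem as an induction principle: a property of moves `(D, g)` (`D` and
`g D g⁻¹` in `S`) which passes to subgroups, composites and inverses holds for all of them as soon as
it holds for the moves `g ∈ N(U)`, `D ≤ U`, `U` in a family `𝓕` of fully normalized representatives. -/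
theorem alperin_induction (S : Sylow p G) (𝓕 : Set (Subgroup G))
    (h𝓕 : ∀ T : Subgroup G, T ≤ (S : Subgroup G) → ∃ U ∈ 𝓕,
      (∃ g : G, cj g T = U) ∧ FullyNorm p (S : Subgroup G) U)
    (P : Subgroup G → G → Prop)
    (hmono : ∀ (D D' : Subgroup G) (g : G), D' ≤ D → D ≤ (S : Subgroup G) →
      cj g D ≤ (S : Subgroup G) → P D g → P D' g)
    (hcomp : ∀ (D : Subgroup G) (g h : G), D ≤ (S : Subgroup G) → cj g D ≤ (S : Subgroup G) →
      cj h (cj g D) ≤ (S : Subgroup G) → P D g → P (cj g D) h → P D (h * g))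
    (hinv : ∀ (D : Subgroup G) (g : G), D ≤ (S : Subgroup G) → cj g D ≤ (S : Subgroup G) →
      P D g → P (cj g D) g⁻¹)
    (hstep : ∀ U ∈ 𝓕, FullyNorm p (S : Subgroup G) U → ∀ (D : Subgroup G) (n : G), D ≤ U →
      n ∈ Subgroup.normalizer (U : Set G) → P D n) :
    ∀ (D : Subgroup G) (g : G), D ≤ (S : Subgroup G) → cj g D ≤ (S : Subgroup G) → P D g := by
  suffices H : ∀ (k : ℕ) (D : Subgroup G) (g : G), Nat.card G - Nat.card ↥D ≤ k →
      D ≤ (S : Subgroup G) → cj g D ≤ (S : Subgroup G) → P D g from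
    fun D g => H _ D g le_rfl
  intro k
  induction k using Nat.strong_induction_on with
  | _ k ih =>
    intro D g hk hD hg
    obtain ⟨U, hU𝓕, ⟨a, ha⟩, hUfn⟩ := h𝓕 D hD
    by_cases hDS : D = (S : Subgroup G)
    · have hUS : U = (S : Subgroup G) := by
        refine Subgroup.eq_of_le_of_card_ge hUfn.1 ?_
        rw [← ha, card_cj, hDS]
      have hgS : cj g (S : Subgroup G) = (S : Subgroup G) :=
        Subgroup.eq_of_le_of_card_ge (by rw [← hDS]; exact hg.trans hDS.ge) (card_cj g _).ge
      exact hstep U hU𝓕 hUfn D g (by rw [hDS, hUS]) (by rw [hUS]; exact cj_eq_self_iff.1 hgS)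
    have hext : ∀ E : Subgroup G, E ≤ (S : Subgroup G) → Nat.card ↥E = Nat.card ↥D →
        (∃ b : G, cj b E = U) → ∃ h : G, cj h E = U ∧ P E h := by
      intro E hE hcard ⟨b, hb⟩
      have hEN : IsPGroup p ↥(cj b ((S : Subgroup G) ⊓ Subgroup.normalizer (E : Set G))) :=
        isPGroup_cj (S.isPGroup'.to_le inf_le_left)
      have hle : cj b ((S : Subgroup G) ⊓ Subgroup.normalizer (E : Set G)) ≤
          Subgroup.normalizer (U : Set G) := by
        rw [← hb, ← cj_normalizer]; exact cj_mono inf_le_right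
      obtain ⟨n, hn, hnle⟩ := hUfn.2.exists_cj_le hEN hle
      refine ⟨n * b, by rw [cj_mul, hb, cj_eq_self_iff.2 hn], ?_⟩
      have hES : E < (S : Subgroup G) := by
        refine lt_of_le_of_ne hE fun h => hDS ?_
        exact Subgroup.eq_of_le_of_card_ge hD (by rw [← hcard, h])
      have hlt : Nat.card ↥D < Nat.card ↥((S : Subgroup G) ⊓ Subgroup.normalizer (E : Set G)) := by
        rw [← hcard]
        refine (Subgroup.card_le_of_le (lt_inf_normalizer S.isPGroup' hES).le).lt_of_ne fun h => ?_
        exact (lt_inf_normalizer S.isPGroup' hES).ne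
          (Subgroup.eq_of_le_of_card_ge (lt_inf_normalizer S.isPGroup' hES).le h.ge)
      have hG : Nat.card ↥((S : Subgroup G) ⊓ Subgroup.normalizer (E : Set G)) ≤ Nat.card G :=
        Subgroup.card_le_card_group _
      have himg : cj (n * b) ((S : Subgroup G) ⊓ Subgroup.normalizer (E : Set G)) ≤
          (S : Subgroup G) := by
        rw [cj_mul]; exact hnle.trans inf_le_left
      exact hmono _ _ _ (le_inf hE Subgroup.le_normalizer) inf_le_left himg
        (ih _ (by omega) _ _ le_rfl inf_le_left himg)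
    obtain ⟨h, hhU, hPh⟩ := hext D hD rfl ⟨a, ha⟩
    obtain ⟨l, hlU, hPl⟩ := hext (cj g D) hg (card_cj g D)
      ⟨a * g⁻¹, by rw [cj_mul, cj_inv_cj, ha]⟩
    have hUS : U ≤ (S : Subgroup G) := hUfn.1
    have hn : l * g * h⁻¹ ∈ Subgroup.normalizer (U : Set G) := by
      rw [← cj_eq_self_iff, cj_mul, cj_mul]
      conv_lhs => rw [← hhU, cj_inv_cj, hlU]
    have h1 : cj (l * g * h⁻¹) U = U := cj_eq_self_iff.2 hn
    have h2 : P D (l * g * h⁻¹ * h) :=
      hcomp D h _ hD (hhU.le.trans hUS) (by rw [hhU, h1]; exact hUS) hPh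
        (by rw [hhU]; exact hstep U hU𝓕 hUfn U _ le_rfl hn)
    rw [inv_mul_cancel_right] at h2
    have h3 : P U l⁻¹ := by
      have := hinv _ l hg (hlU.le.trans hUS) hPl
      rwa [hlU] at this
    have h4 : P D (l⁻¹ * (l * g)) :=
      hcomp D (l * g) _ hD (by rw [cj_mul, hlU]; exact hUS)
        (by rw [← cj_mul, inv_mul_cancel_left]; exact hg) h2 (by rw [cj_mul, hlU]; exact h3)
    rwa [inv_mul_cancel_left] at h4

/-- The fully normalized subgroups form a family of representatives. -/
theorem exists_rep_fullyNorm (S : Sylow p G) (T : Subgroup G) (hT : T ≤ (S : Subgroup G)) :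
    ∃ U ∈ {U : Subgroup G | FullyNorm p (S : Subgroup G) U},
      (∃ g : G, cj g T = U) ∧ FullyNorm p (S : Subgroup G) U := by
  obtain ⟨g, -, hfn⟩ := exists_fullyNorm_cj S hT
  exact ⟨_, hfn, ⟨g, rfl⟩, hfn⟩

/-! ### Towers and well placed subgroups -/

section Tower

variable {W : Subgroup G → Subgroup G} {S T : Subgroup G}

omit [Finite G] [Fact p.Prime] in
theorem tower_le (hW : Cfsg.IsConjugacyFunctor p W) (hS : IsPGroup p ↥S) (hT : T ≤ S) (i : ℕ) :
    Cfsg.functorTower W S T i ≤ S := by
  cases i with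
  | zero => exact hT
  | succ n => exact (functor_le hW (hS.to_le inf_le_left)).trans inf_le_left

omit [Finite G] [Fact p.Prime] in
theorem tower_shift (i j : ℕ) :
    Cfsg.functorTower W S (Cfsg.functorTower W S T i) j = Cfsg.functorTower W S T (i + j) := by
  induction j with
  | zero => rfl
  | succ j ih => show W _ = W _; rw [ih]; rfl

omit [Finite G] [Fact p.Prime] in
theorem tower_inf_mono (hW : Cfsg.IsConjugacyFunctor p W) (hS : IsPGroup p ↥S) {i j : ℕ}
    (h : i ≤ j) :
    S ⊓ Subgroup.normalizer ((Cfsg.functorTower W S T i : Subgroup G) : Set G) ≤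
      S ⊓ Subgroup.normalizer ((Cfsg.functorTower W S T j : Subgroup G) : Set G) := by
  induction j, h using Nat.le_induction with
  | base => exact le_rfl
  | succ n _ ih => exact ih.trans (inf_normalizer_le_functor hW hS)

theorem IsWellPlaced.fullyNorm (hS : IsPGroup p ↥S) (h : Cfsg.IsWellPlaced p W S T) :
    FullyNorm p S T :=
  (fullyNorm_iff hS).2 ⟨h.1, h.2 0⟩

omit [Finite G] [Fact p.Prime] in
theorem IsWellPlaced.tower (hW : Cfsg.IsConjugacyFunctor p W) (hS : IsPGroup p ↥S)
    (h : Cfsg.IsWellPlaced p W S T) (i : ℕ) :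
    Cfsg.IsWellPlaced p W S (Cfsg.functorTower W S T i) :=
  ⟨tower_le hW hS h.1 i, fun j => by rw [tower_shift]; exact h.2 _⟩

end Tower

/-- Every subgroup of `S` has a well placed conjugate. -/
theorem exists_wellPlaced_cj (S : Sylow p G) {W : Subgroup G → Subgroup G}
    (hW : Cfsg.IsConjugacyFunctor p W) {T : Subgroup G} (hT : T ≤ (S : Subgroup G)) :
    ∃ g : G, Cfsg.IsWellPlaced p W (S : Subgroup G) (cj g T) := by
  have hS := S.isPGroup'
  have hstage : ∀ n : ℕ, ∃ g : G, cj g T ≤ (S : Subgroup G) ∧ ∀ i < n,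
      IsSyl p ((S : Subgroup G) ⊓ Subgroup.normalizer
          ((Cfsg.functorTower W (S : Subgroup G) (cj g T) i : Subgroup G) : Set G))
        (Subgroup.normalizer
          ((Cfsg.functorTower W (S : Subgroup G) (cj g T) i : Subgroup G) : Set G)) := by
    intro n
    induction n with
    | zero => exact ⟨1, by rw [cj_one]; exact hT, fun i hi => absurd hi (Nat.not_lt_zero i)⟩
    | succ n ih =>
      obtain ⟨g, hgS, hg⟩ := ih
      obtain ⟨a, ha, hafn⟩ := exists_fullyNorm_cj S (tower_le hW hS hgS n)
      have hR : ∀ i ≤ n, cj a ((S : Subgroup G) ⊓ Subgroup.normalizer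
          ((Cfsg.functorTower W (S : Subgroup G) (cj g T) i : Subgroup G) : Set G)) ≤ S :=
        fun i hi => (cj_mono (tower_inf_mono hW hS hi)).trans ha
      have hbase : cj g T ≤ (S : Subgroup G) ⊓ Subgroup.normalizer
          ((Cfsg.functorTower W (S : Subgroup G) (cj g T) 0 : Subgroup G) : Set G) :=
        le_inf hgS Subgroup.le_normalizer
      have heq : ∀ i ≤ n, Cfsg.functorTower W (S : Subgroup G) (cj (a * g) T) i =
          cj a (Cfsg.functorTower W (S : Subgroup G) (cj g T) i) := by
        intro i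
        induction i with
        | zero => intro _; exact cj_mul a g T
        | succ i ihi =>
          intro hi
          have hsyl := (hg i (by omega)).conj a
          rw [cj_normalizer] at hsyl
          show W _ = cj a (W _)
          rw [ihi (by omega), ← functor_cj hW (hS.to_le inf_le_left)]
          refine congrArg W ?_
          exact (hsyl.eq_of_le (hS.to_le inf_le_left) inf_le_right
            (le_inf (hR i (by omega)) hsyl.le)).symm
      refine ⟨a * g, by rw [cj_mul]; exact (cj_mono hbase).trans (hR 0 (by omega)), ?_⟩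
      intro i hi
      rw [heq i (by omega)]
      rcases Nat.lt_or_ge i n with hin | hin
      · have hsyl := (hg i hin).conj a
        rw [cj_normalizer] at hsyl
        rwa [hsyl.eq_of_le (hS.to_le inf_le_left) inf_le_right
            (le_inf (hR i (by omega)) hsyl.le)] at hsyl
      · obtain rfl : i = n := by omega
        exact hafn.2
  obtain ⟨g, hgS, hg⟩ := hstage (Nat.card G + 2)
  refine ⟨g, hgS, ?_⟩
  set U := Cfsg.functorTower W (S : Subgroup G) (cj g T) with hU
  let R : ℕ → Subgroup G := fun i => (S : Subgroup G) ⊓ Subgroup.normalizer ((U i : Subgroup G) : Set G)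
  obtain ⟨j, hj, hjeq⟩ : ∃ j ≤ Nat.card G, R j = R (j + 1) := by
    by_contra hne
    have hne' : ∀ j ≤ Nat.card G, R j < R (j + 1) := fun j hj =>
      lt_of_le_of_ne (tower_inf_mono hW hS (Nat.le_succ j)) fun h => hne ⟨j, hj, h⟩
    have hcard : ∀ j ≤ Nat.card G + 1, j + 1 ≤ Nat.card ↥(R j) := by
      intro j
      induction j with
      | zero => intro _; exact Nat.card_pos
      | succ j ihj =>
        intro hj
        have h1 := ihj (by omega)
        have h2 := hne' j (by omega)
        have h3 : Nat.card ↥(R j) < Nat.card ↥(R (j + 1)) :=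
          (Subgroup.card_le_of_le h2.le).lt_of_ne fun h =>
            h2.ne (Subgroup.eq_of_le_of_card_ge h2.le h.ge)
        omega
    have h4 := hcard (Nat.card G + 1) le_rfl
    have h5 := Subgroup.card_le_card_group (R (Nat.card G + 1))
    omega
  have hconst : ∀ k, U (j + 1 + k) = U (j + 1) := by
    intro k
    induction k with
    | zero => rfl
    | succ k ihk =>
      show W ((S : Subgroup G) ⊓ Subgroup.normalizer ((U (j + 1 + k) : Subgroup G) : Set G)) = _
      rw [ihk]
      exact (congrArg W hjeq).symm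
  intro i
  rcases Nat.lt_or_ge i (Nat.card G + 2) with hi | hi
  · exact (hg i hi).not_dvd
  · obtain ⟨k, rfl⟩ := Nat.exists_eq_add_of_le (show j + 1 ≤ i by omega)
    show ¬ p ∣ ((S : Subgroup G) ⊓ Subgroup.normalizer ((U (j + 1 + k) : Subgroup G) : Set G)).relIndex
      (Subgroup.normalizer ((U (j + 1 + k) : Subgroup G) : Set G))
    rw [hconst k]
    exact (hg (j + 1) (by omega)).not_dvd

/-- The well placed subgroups form a family of representatives. -/
theorem exists_rep_wellPlaced (S : Sylow p G) {W : Subgroup G → Subgroup G}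
    (hW : Cfsg.IsConjugacyFunctor p W) (T : Subgroup G) (hT : T ≤ (S : Subgroup G)) :
    ∃ U ∈ {U : Subgroup G | Cfsg.IsWellPlaced p W (S : Subgroup G) U},
      (∃ g : G, cj g T = U) ∧ FullyNorm p (S : Subgroup G) U := by
  obtain ⟨g, hg⟩ := exists_wellPlaced_cj S hW hT
  exact ⟨_, hg, ⟨g, rfl⟩, IsWellPlaced.fullyNorm S.isPGroup' hg⟩

end CfsgLib.ConjFunctor
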