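import Cfsg.Agent.Lib.ConjFunctor.EngelFix
import Cfsg.Agent.Lib.ConjFunctor.Alperin
import Cfsg.Prelude.Def_Amalgam

/-!
# Weak closure of central elements controlled by a conjugacy functor
-/

set_option autoImplicit false
set_option linter.style.haveILetI false

open scoped commutatorElement

namespace CfsgLib.ConjFunctor

variable {G : Type*} [Group G] [Finite G] {p : ℕ} [Fact p.Prime]

theorem isSyl_inf_normal (S : Sylow p G) (C : Subgroup G) [C.Normal] :
    IsSyl p ((S : Subgroup G) ⊓ C) C := by
  obtain ⟨T, hT, hle⟩ := exists_isSyl_ge (p := p) (P := (S : Subgroup G) ⊓ C)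
    (S.isPGroup'.to_le inf_le_left) inf_le_right
  obtain ⟨g, -, hg⟩ := (isSyl_top S).exists_cj_le hT.isPGroup le_top
  have h1 : cj g T ≤ (S : Subgroup G) ⊓ C :=
    le_inf hg ((cj_mono hT.le).trans (cj_eq_self_of_normal g C).le)
  have h2 : (S : Subgroup G) ⊓ C = T :=
    Subgroup.eq_of_le_of_card_ge hle (by rw [← card_cj g T]; exact Subgroup.card_le_of_le h1)
  rw [h2]
  exact hT

theorem frattini_argument (S : Sylow p G) (C : Subgroup G) [C.Normal] (g : G) :
    ∃ c ∈ C, c * g ∈ Subgroup.normalizer (((S : Subgroup G) ⊓ C : Subgroup G) : Set G) := by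
  obtain ⟨c, hc, hle⟩ := (isSyl_inf_normal S C).exists_cj_le
    (isPGroup_cj (g := g) (S.isPGroup'.to_le inf_le_left))
    ((cj_mono inf_le_right).trans (cj_eq_self_of_normal g C).le)
  refine ⟨c, hc, cj_eq_self_iff.1 (Subgroup.eq_of_le_of_card_ge ?_ (card_cj _ _).ge)⟩
  rw [cj_mul]; exact hle

/-- The kernel of the chief factors inside a normal p-group fixes the fixed points of a Sylow
subgroup. -/
theorem commute_of_mem_chiefKernel (S : Sylow p G) {A : Subgroup G} [A.Normal]
    (hA : IsPGroup p ↥A) {v : G} (hv : v ∈ A) (hS : ∀ s ∈ (S : Subgroup G), Commute s v) {x : G}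
    (hx : x ∈ chiefKernel A) : Commute x v := by
  haveI := chiefKernel_normal A
  set X := chiefKernel A ⊓ Subgroup.centralizer {v} with hX
  suffices h : X.relIndex (chiefKernel A) = 1 by
    exact (Subgroup.mem_centralizer_singleton_iff.1 ((Subgroup.relIndex_eq_one.1 h hx).2))
  refine Nat.eq_one_iff_not_exists_prime_dvd.2 fun q hq hdvd => ?_
  haveI := Fact.mk hq
  by_cases hqp : q = p
  · subst hqp
    refine (isSyl_inf_normal S (chiefKernel A)).not_dvd (hdvd.trans ?_)
    refine Subgroup.relIndex_dvd_of_le_left _ (le_inf inf_le_right fun s hs => ?_)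
    exact Subgroup.mem_centralizer_singleton_iff.2 (hS s hs.1)
  · obtain ⟨Q, hQ, -⟩ := exists_isSyl_ge (p := q) (IsPGroup.of_bot (p := q) (G := G))
      (bot_le (a := chiefKernel A))
    refine hQ.not_dvd (hdvd.trans (Subgroup.relIndex_dvd_of_le_left _ (le_inf hQ.le fun s hs => ?_)))
    refine Subgroup.mem_centralizer_singleton_iff.2 ?_
    obtain ⟨k, hk⟩ := hQ.isPGroup ⟨s, hs⟩
    have hcop : (orderOf s).Coprime p := by
      refine Nat.Coprime.coprime_dvd_left (orderOf_dvd_of_pow_eq_one
        (by simpa using congrArg Subtype.val hk)) (Nat.Coprime.pow_left k ?_)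
      exact (Nat.coprime_primes hq Fact.out).2 hqp
    exact (Subgroup.mem_centralizer_iff.1
      (mem_centralizer_of_chiefKernel hA (hQ.le hs) hcop) v hv).symm

/-- A quadratic element outside `O_p(G)` on the abelian normal p-subgroup `V`: the p-th powers of
the fixed points of a Sylow subgroup are controlled by a proper overgroup of it. -/
theorem quad_fixed (S : Sylow p G) {V : Subgroup G} [V.Normal] (hV : V ≤ Cfsg.pCore p G)
    (hab : ∀ a ∈ V, ∀ b ∈ V, Commute a b) {g : G} (hgS : g ∈ (S : Subgroup G))
    (hgP : g ∉ Cfsg.pCore p G) (hg : ∀ u ∈ V, ⁅g, ⁅g, u⁆⁆ = 1) :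
    ∃ N : Subgroup G, (S : Subgroup G) ≤ N ∧ N < ⊤ ∧ ∀ A K : Subgroup G,
      (∀ a ∈ A, ∃ v ∈ V, (∀ s ∈ (S : Subgroup G), Commute s v) ∧ a = v ^ p) →
      Subgroup.centralizer (A : Set G) ≤ K → N ≤ K → ∀ h : G, h ∈ K := by
  set E : Set G := {e | ∀ u ∈ V, ⁅e, ⁅e, u⁆⁆ = 1} with hE
  have hEconj : ∀ (a : G), ∀ e ∈ E, a * e * a⁻¹ ∈ E := by
    intro a e he u hu
    have h1 := he (a⁻¹ * u * a) (by simpa using Subgroup.Normal.conj_mem ‹V.Normal› u hu a⁻¹)
    calc ⁅a * e * a⁻¹, ⁅a * e * a⁻¹, u⁆⁆ = a * ⁅e, ⁅e, a⁻¹ * u * a⁆⁆ * a⁻¹ := by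
          simp only [commutatorElement_def]; group
      _ = 1 := by rw [h1, mul_one, mul_inv_cancel]
  set H0 := Subgroup.closure E with hH0
  haveI hH0n : H0.Normal := by
    refine ⟨fun x hx a => ?_⟩
    have h1 : cj a H0 ≤ H0 := by
      show H0.map _ ≤ H0
      rw [hH0, MonoidHom.map_closure, Subgroup.closure_le]
      rintro _ ⟨e, he, rfl⟩
      exact Subgroup.subset_closure (hEconj a e he)
    exact h1 (conj_mem_cj hx)
  refine ⟨Subgroup.normalizer (((S : Subgroup G) ⊓ H0 : Subgroup G) : Set G), ?_, ?_, ?_⟩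
  · intro s hs
    refine cj_eq_self_iff.1 ?_
    rw [cj_inf, cj_eq_self_of_mem hs, cj_eq_self_of_normal]
  · refine lt_top_iff_ne_top.2 fun h => hgP ?_
    haveI : ((S : Subgroup G) ⊓ H0).Normal := Subgroup.normalizer_eq_top_iff.1 h
    exact CfsgLib.Solvable.le_pCore inferInstance (S.isPGroup'.to_le inf_le_left)
      ⟨hgS, Subgroup.subset_closure (show g ∈ E from hg)⟩
  intro A K hA hAK hNK h
  have hconjpow : ∀ e ∈ E, ∀ u ∈ V, ∀ n : ℕ, e ^ n * u * (e ^ n)⁻¹ = ⁅e, u⁆ ^ n * u := by
    intro e he u hu n
    have hc : Commute e ⁅e, u⁆ := commutatorElement_eq_one_iff_mul_comm.1 (he u hu)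
    induction n with
    | zero => simp
    | succ n ih =>
      calc e ^ (n + 1) * u * (e ^ (n + 1))⁻¹ = e * (e ^ n * u * (e ^ n)⁻¹) * e⁻¹ := by
            rw [pow_succ']; group
        _ = e * ⁅e, u⁆ ^ n * e⁻¹ * (e * u * e⁻¹) := by rw [ih]; group
        _ = ⁅e, u⁆ ^ n * (e * u * e⁻¹) := by rw [(hc.pow_right n).eq, mul_inv_cancel_right]
        _ = ⁅e, u⁆ ^ (n + 1) * u := by
            rw [pow_succ, mul_assoc (⁅e, u⁆ ^ n)]
            congr 1
            rw [commutatorElement_def, inv_mul_cancel_right]
  have hH0A : H0 ≤ Subgroup.centralizer (A : Set G) := by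
    refine (Subgroup.closure_le _).2 fun e he => Subgroup.mem_centralizer_iff.2 fun a ha => ?_
    obtain ⟨v, hv, hvS, rfl⟩ := hA a ha
    have hker : e ^ p ∈ chiefKernel V := by
      intro U V' hc hU u hu
      haveI := hc.2.1
      haveI := hc.2.2.1
      have hcU : ⁅e, u⁆ ∈ U := Subgroup.commutator_le_right ⊤ U
        (Subgroup.commutator_mem_commutator (Subgroup.mem_top e) hu)
      have habU : ⁅U, U⁆ ≤ V' := by
        rw [Subgroup.commutator_le]
        intro a ha b hb
        rw [commutatorElement_eq_one_iff_mul_comm.2 (hab a (hU ha) b (hU hb)).eq]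
        exact one_mem _
      have h1 : ⁅e ^ p, u⁆ = ⁅e, u⁆ ^ p := by
        rw [commutatorElement_def, hconjpow e he u (hU hu), mul_inv_cancel_right]
      rw [← commutatorElement_inv, h1]
      exact inv_mem (pow_mem_of_chiefFactor hc (hU.trans hV) habU hcU)
    have h2 : Commute (e ^ p) v := commute_of_mem_chiefKernel S
      ((CfsgLib.Solvable.pCore_isPGroup p G).to_le hV) hv hvS hker
    have h3 : ⁅e, v⁆ ^ p = 1 := by
      have := hconjpow e he v hv p
      rw [h2.eq, mul_inv_cancel_right] at this
      simpa using this.symm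
    have h4 : e * v ^ p * e⁻¹ = v ^ p := by
      have hcV : ⁅e, v⁆ ∈ V := Subgroup.commutator_le_right ⊤ V
        (Subgroup.commutator_mem_commutator (Subgroup.mem_top e) hv)
      rw [← conj_pow, show e * v * e⁻¹ = ⁅e, v⁆ * v by
        rw [commutatorElement_def, inv_mul_cancel_right], (hab _ hcV v hv).mul_pow, h3, one_mul]
    exact (mul_inv_eq_iff_eq_mul.1 h4).symm
  obtain ⟨c, hc, hch⟩ := frattini_argument S H0 h
  have := K.mul_mem (K.inv_mem (hAK (hH0A hc))) (hNK hch)
  simpa using this

/-! ### Local to global -/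

omit [Finite G] [Fact p.Prime] in
theorem mem_normalizer_map_iff {L : Type*} [Group L] {f : L →* G} (hf : Function.Injective f)
    {U : Subgroup L} {x : L} :
    f x ∈ Subgroup.normalizer ((U.map f : Subgroup G) : Set G) ↔
      x ∈ Subgroup.normalizer (U : Set L) := by
  have e : cj (f x) (U.map f) = (cj x U).map f := by
    show (U.map f).map _ = (U.map _).map f
    rw [Subgroup.map_map, Subgroup.map_map]
    exact congrArg (fun k => U.map k) (MonoidHom.ext fun y => by simp)
  rw [← cj_eq_self_iff, ← cj_eq_self_iff, e, (Subgroup.map_injective hf).eq_iff]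

/-- The restriction of a conjugacy functor to a subgroup. -/
def restrictFunctor (W : Subgroup G → Subgroup G) (H : Subgroup G) : Subgroup ↥H → Subgroup ↥H :=
  fun P => (W (P.map H.subtype)).subgroupOf H

omit [Finite G] [Fact p.Prime] in
theorem map_restrictFunctor {W : Subgroup G → Subgroup G} (hW : Cfsg.IsConjugacyFunctor p W)
    {H : Subgroup G} {P : Subgroup ↥H} (hP : IsPGroup p ↥P) :
    (restrictFunctor W H P).map H.subtype = W (P.map H.subtype) := by
  refine (Subgroup.subgroupOf_map_subtype _ _).trans (inf_eq_left.2 ?_)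
  exact (hW _ (hP.map _)).1.trans (Subgroup.map_subtype_le _)

omit [Finite G] [Fact p.Prime] in
theorem isConjugacyFunctor_restrict {W : Subgroup G → Subgroup G}
    (hW : Cfsg.IsConjugacyFunctor p W) (H : Subgroup G) :
    Cfsg.IsConjugacyFunctor p (restrictFunctor W H) := by
  intro P hP
  have hsub := H.subtype_injective
  refine ⟨?_, fun hne h => ?_, fun g => Subgroup.map_injective hsub ?_⟩
  · rw [← Subgroup.map_le_map_iff_of_injective hsub, map_restrictFunctor hW hP]
    exact (hW _ (hP.map _)).1
  · have h1 := map_restrictFunctor hW hP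
    rw [h, Subgroup.map_bot] at h1
    exact (hW _ (hP.map _)).2.1 (fun h2 => hne ((Subgroup.map_eq_bot_iff_of_injective _ hsub).1 h2))
      h1.symm
  · have e : H.subtype.comp (MulAut.conj g).toMonoidHom =
        (MulAut.conj (g : G)).toMonoidHom.comp H.subtype := MonoidHom.ext fun x => by simp
    rw [map_restrictFunctor hW (hP.map _), Subgroup.map_map, e, ← Subgroup.map_map,
      (hW _ (hP.map H.subtype)).2.2 g, ← map_restrictFunctor hW hP, Subgroup.map_map _ H.subtype,
      Subgroup.map_map, e]

/-- The local input: the stabilizer `K` of `A` swallows `H` as soon as it contains the proper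
overgroups of a Sylow subgroup. -/
def FixLocal (p : ℕ) (W : Subgroup G → Subgroup G) (A K : Subgroup G) (Adm : Subgroup G → Prop) :
    Prop :=
  ∀ H T : Subgroup G, IsSyl p T H → A ≤ T → Adm T →
    ¬ H ≤ Subgroup.normalizer ((W T : Subgroup G) : Set G) → A ≤ Cfsg.pCoreOf p H →
    (∀ M : Subgroup G, T ≤ M → M < H → M ≤ K) → H ≤ K

theorem pCoreOf_le_isSyl {H T : Subgroup G} (hT : IsSyl p T H) : Cfsg.pCoreOf p H ≤ T := by
  let S : Sylow p H := IsPGroup.toSylow (hT.isPGroup.comap_of_injective H.subtype
    (Subgroup.subtype_injective H)) hT.not_dvd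
  have hS : (S : Subgroup H) = T.subgroupOf H := IsPGroup.toSylow_coe _ _
  refine (Subgroup.map_mono ((CfsgLib.Solvable.pCore_le_sylow S).trans hS.le)).trans ?_
  rw [Subgroup.subgroupOf_map_subtype]
  exact inf_le_left

/-- Weak closure is local. -/
theorem weakClosure_of_local {W : Subgroup G → Subgroup G} (hW : Cfsg.IsConjugacyFunctor p W)
    (hWZ : ∀ P : Subgroup G, IsPGroup p ↥P → P ⊓ Subgroup.centralizer (P : Set G) ≤ W P)
    {A K : Subgroup G} (hKA : K ≤ Subgroup.normalizer (A : Set G)) {Adm : Subgroup G → Prop}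
    (hZ : ∀ T : Subgroup G, Adm T → A ≤ Subgroup.centralizer (T : Set G))
    (hAdm : ∀ T R : Subgroup G, R ≤ T → T ⊓ Subgroup.centralizer (T : Set G) ≤ R → Adm T → Adm R)
    (hloc : FixLocal p W A K Adm) :
    ∀ H T : Subgroup G, IsSyl p T H → A ≤ T → Adm T →
      H ⊓ Subgroup.normalizer ((W T : Subgroup G) : Set G) ≤ K →
      ∀ h ∈ H, cj h A ≤ T → h ∈ K := by
  suffices main : ∀ (c : ℕ) (H : Subgroup G), Nat.card ↥H ≤ c → ∀ T : Subgroup G, IsSyl p T H →
      A ≤ T → Adm T → H ⊓ Subgroup.normalizer ((W T : Subgroup G) : Set G) ≤ K →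
      ∀ h ∈ H, cj h A ≤ T → h ∈ K from fun H => main _ H le_rfl
  intro c
  induction c with
  | zero => intro H hH; exact absurd hH (Nat.not_le.2 Nat.card_pos)
  | succ c ih =>
    intro H hc T hT hAT hAd hN
    have hlt : ∀ L : Subgroup G, L < H → Nat.card ↥L ≤ c := fun L hL => by
      have := (Subgroup.card_le_of_le hL.le).lt_of_ne fun h =>
        hL.ne (Subgroup.eq_of_le_of_card_ge hL.le h.ge)
      omega
    by_cases hAP : A ≤ Cfsg.pCoreOf p H
    · intro h hh _
      refine (?_ : H ≤ K) hh
      by_cases hn : H ≤ Subgroup.normalizer ((W T : Subgroup G) : Set G)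
      · exact (le_inf le_rfl hn).trans hN
      refine hloc H T hT hAT hAd hn hAP fun M hTM hMH m hm => ?_
      have hTsyl : IsSyl p T M := ⟨hTM, hT.isPGroup, fun hd => hT.not_dvd
        (hd.trans (Dvd.intro _ (Subgroup.relIndex_mul_relIndex T M H hTM hMH.le)))⟩
      refine ih M (hlt M hMH) T hTsyl hAT hAd ((inf_le_inf_right _ hMH.le).trans hN) m hm ?_
      intro y hy
      obtain ⟨a, ha, rfl⟩ := hy
      obtain ⟨a', ha', rfl⟩ := hAP ha
      refine pCoreOf_le_isSyl hT ⟨⟨m, hMH.le hm⟩ * a' * ⟨m, hMH.le hm⟩⁻¹, ?_, rfl⟩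
      exact (CfsgLib.Solvable.pCore_normal p ↥H).conj_mem a' ha' _
    -- the fusion is generated inside proper normalizers
    let S : Sylow p H := IsPGroup.toSylow (hT.isPGroup.comap_of_injective H.subtype
      (Subgroup.subtype_injective H)) hT.not_dvd
    have hST : (S : Subgroup H).map H.subtype = T := by
      rw [show (S : Subgroup H) = T.subgroupOf H from IsPGroup.toSylow_coe _ _,
        Subgroup.subgroupOf_map_subtype, inf_eq_left.2 hT.le]
    have hW' := isConjugacyFunctor_restrict hW H
    have hstep : ∀ (k : ℕ) (U : Subgroup H),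
        Nat.card H - Nat.card ↥((S : Subgroup H) ⊓ Subgroup.normalizer (U : Set H)) ≤ k →
        Cfsg.IsWellPlaced p (restrictFunctor W H) (S : Subgroup H) U → A ≤ U.map H.subtype →
        (Subgroup.normalizer (U : Set H)).map H.subtype ≤ K := by
      intro k
      induction k using Nat.strong_induction_on with
      | _ k ihk =>
        intro U hk hU hAU
        have hfn := IsWellPlaced.fullyNorm S.isPGroup' hU
        set L := (Subgroup.normalizer (U : Set H)).map H.subtype with hL
        set R := ((S : Subgroup H) ⊓ Subgroup.normalizer (U : Set H)).map H.subtype with hR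
        have hsyl : IsSyl p R L := ⟨Subgroup.map_mono inf_le_right,
          (S.isPGroup'.to_le inf_le_left).map _, by
            rw [hR, hL, Subgroup.relIndex_map_map_of_injective _ _ H.subtype_injective]
            exact hfn.2.not_dvd⟩
        have hLH : L < H := by
          refine lt_of_le_of_ne (Subgroup.map_subtype_le _) fun h => hAP ?_
          have htop : Subgroup.normalizer (U : Set H) = ⊤ := by
            refine eq_top_iff.2 fun x _ => ?_
            obtain ⟨y, hy, he⟩ := h.ge x.2
            rwa [show x = y from Subtype.ext he.symm]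
          haveI := Subgroup.normalizer_eq_top_iff.1 htop
          exact hAU.trans (Subgroup.map_mono
            (CfsgLib.Solvable.le_pCore inferInstance (S.isPGroup'.to_le hU.1)))
        have hAR : A ≤ R := hAU.trans (Subgroup.map_mono hfn.self_le)
        have hRT : R ≤ T := hST ▸ Subgroup.map_mono inf_le_left
        have hZR : T ⊓ Subgroup.centralizer (T : Set G) ≤ R := by
          intro z hz
          refine ⟨⟨z, hT.le hz.1⟩, ⟨?_, ?_⟩, rfl⟩
          · rw [show (S : Subgroup H) = T.subgroupOf H from IsPGroup.toSylow_coe _ _]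
            exact hz.1
          · refine Subgroup.centralizer_le_normalizer (U : Set H)
              (Subgroup.mem_centralizer_iff.2 fun u hu => Subtype.ext ?_)
            exact Subgroup.mem_centralizer_iff.1 hz.2 _ (hST ▸ ⟨u, hU.1 hu, rfl⟩)
        have hAdR := hAdm T R hRT hZR hAd
        have hNR : L ⊓ Subgroup.normalizer ((W R : Subgroup G) : Set G) ≤ K := by
          rcases eq_or_lt_of_le (inf_le_left :
            (S : Subgroup H) ⊓ Subgroup.normalizer (U : Set H) ≤ S) with heq | hlt'
          · rw [hR, heq, hST]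
            exact (inf_le_inf_right _ hLH.le).trans hN
          have hlt2 := inf_normalizer_lt_functor hW' S.isPGroup' hlt'
          have hU1 := IsWellPlaced.tower hW' S.isPGroup' hU 1
          have hcard : Nat.card ↥((S : Subgroup H) ⊓ Subgroup.normalizer (U : Set H)) <
              Nat.card ↥((S : Subgroup H) ⊓ Subgroup.normalizer ((restrictFunctor W H
                ((S : Subgroup H) ⊓ Subgroup.normalizer (U : Set H)) : Subgroup H) : Set H)) :=
            (Subgroup.card_le_of_le hlt2.le).lt_of_ne fun h =>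
              hlt2.ne (Subgroup.eq_of_le_of_card_ge hlt2.le h.ge)
          have hG := Subgroup.card_le_card_group ((S : Subgroup H) ⊓ Subgroup.normalizer
            ((restrictFunctor W H ((S : Subgroup H) ⊓ Subgroup.normalizer (U : Set H)) :
              Subgroup H) : Set H))
          have hmap := map_restrictFunctor hW (H := H)
            (P := (S : Subgroup H) ⊓ Subgroup.normalizer (U : Set H))
            (S.isPGroup'.to_le inf_le_left)
          rintro l ⟨hl, hlW⟩
          obtain ⟨l', hl', rfl⟩ := hl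
          refine ihk _ ?_ _ le_rfl hU1 ?_ (Subgroup.mem_map_of_mem _ ?_)
          · show Nat.card H - Nat.card ↥((S : Subgroup H) ⊓ Subgroup.normalizer
              ((restrictFunctor W H ((S : Subgroup H) ⊓ Subgroup.normalizer (U : Set H)) :
                Subgroup H) : Set H)) < k
            omega
          · show A ≤ (restrictFunctor W H _).map H.subtype
            rw [Cfsg.functorTower, hmap]
            exact (le_inf hAR (hZ R hAdR)).trans (hWZ R hsyl.isPGroup)
          · show l' ∈ Subgroup.normalizer ((restrictFunctor W H _ : Subgroup H) : Set H)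
            rw [Cfsg.functorTower, ← mem_normalizer_map_iff H.subtype_injective, hmap]
            exact hlW
        intro l hl
        refine ih L (hlt L hLH) R hsyl hAR hAdR hNR l hl ?_
        obtain ⟨l', hl', rfl⟩ := hl
        refine (cj_mono hAU).trans ?_
        rw [cj_eq_self_iff.2 ((mem_normalizer_map_iff H.subtype_injective).2 hl')]
        exact Subgroup.map_mono hfn.self_le
    have halp := alperin_induction S _ (exists_rep_wellPlaced S hW')
      (fun D g => A ≤ D.map H.subtype ∨ A ≤ (cj g D).map H.subtype → (g : G) ∈ K)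
      (fun D D' g hle _ _ h hA => h (hA.imp (·.trans (Subgroup.map_mono hle))
        (·.trans (Subgroup.map_mono (cj_mono hle)))))
      (fun D g k _ _ _ h₁ h₂ hA => ?_) (fun D g _ _ h hA => ?_)
      (fun U hU _ D n hD hn hA => ?_)
    · intro h hh hhA
      have h1 : cj (⟨h, hh⟩ : H) (A.subgroupOf H) ≤ (S : Subgroup H) := by
        rw [← Subgroup.map_le_map_iff_of_injective H.subtype_injective, hST]
        rintro _ ⟨_, ⟨a, ha, rfl⟩, rfl⟩
        exact hhA ⟨a, ha, rfl⟩
      refine halp (A.subgroupOf H) ⟨h, hh⟩ ?_ h1 (Or.inl ?_)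
      · rw [← Subgroup.map_le_map_iff_of_injective H.subtype_injective, hST,
          Subgroup.subgroupOf_map_subtype]
        exact inf_le_left.trans hAT
      · rw [Subgroup.subgroupOf_map_subtype, inf_eq_left.2 (hAT.trans hT.le)]
    · -- composites
      have hmove : ∀ (E : Subgroup H) (y : H), (y : G) ∈ K →
          (A ≤ (cj y E).map H.subtype ↔ A ≤ E.map H.subtype) := by
        intro E y hy
        have e : (cj y E).map H.subtype = cj (y : G) (E.map H.subtype) := by
          show (E.map _).map _ = (E.map _).map _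
          rw [Subgroup.map_map, Subgroup.map_map]
          exact congrArg (fun q => E.map q) (MonoidHom.ext fun z => by simp)
        have hfix : cj (y : G) A = A := cj_eq_self_iff.2 (hKA hy)
        rw [e]
        constructor
        · intro h
          have := cj_mono (g := (y : G)⁻¹) h
          rwa [cj_inv_cj, ← hfix, cj_inv_cj] at this
        · intro h
          rw [← hfix]; exact cj_mono h
      rw [Subgroup.coe_mul]
      rcases hA with hA | hA
      · have hg := h₁ (Or.inl hA)
        exact K.mul_mem (h₂ (Or.inl ((hmove D g hg).2 hA))) hg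
      · rw [cj_mul] at hA
        have hk := h₂ (Or.inr hA)
        exact K.mul_mem hk (h₁ (Or.inr ((hmove _ k hk).1 hA)))
    · rw [cj_inv_cj] at hA
      rw [Subgroup.coe_inv]
      exact K.inv_mem (h hA.symm)
    · refine hstep _ U le_rfl hU ?_ (Subgroup.mem_map_of_mem _ hn)
      rcases hA with hA | hA
      · exact hA.trans (Subgroup.map_mono hD)
      · exact hA.trans (Subgroup.map_mono ((cj_mono hD).trans (cj_eq_self_iff.2 hn).le))

end CfsgLib.ConjFunctor
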