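import Cfsg.Agent.Lib.Fusion.AlperinGroup
import Cfsg.Agent.Lib.ConjFunctor.WeakClosure

/-!
# Alperin's fusion theorem with p-elements
-/

set_option autoImplicit false
set_option linter.style.haveILetI false

namespace CfsgLib.AlperinRefined

open CfsgLib.AlperinGroup CfsgLib.ConjFunctor

variable {G : Type*} [Group G] {p : ℕ}

/-- A chain whose conjugating elements are p-elements unless the intersection is the whole Sylow
subgroup. -/
inductive PChain (P : Sylow p G) : Set G → G → Prop
  | one (A : Set G) : PChain P A 1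
  | cons (A : Set G) (x h : G) (Q : Sylow p G)
      (hA : A ⊆ (((P : Subgroup G) ⊓ (Q : Subgroup G) : Subgroup G) : Set G)) (ht : Tame P Q)
      (hx : x ∈ Subgroup.normalizer
        ((((P : Subgroup G) ⊓ (Q : Subgroup G)) : Subgroup G) : Set G))
      (hp : (Q : Subgroup G) = (P : Subgroup G) ∨ ∃ k : ℕ, orderOf x = p ^ k)
      (hh : PChain P ((fun a => x⁻¹ * a * x) '' A) h) : PChain P A (x * h)

theorem PChain.mono {P : Sylow p G} {A : Set G} {g : G} (h : PChain P A g) :
    ∀ {B : Set G}, B ⊆ A → PChain P B g := by
  induction h with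
  | one A => intro B _; exact PChain.one B
  | cons A x h Q hA ht hx hp _ ih =>
    intro B hB
    exact PChain.cons B x h Q (hB.trans hA) ht hx hp (ih (Set.image_mono hB))

theorem PChain.append {P : Sylow p G} {A : Set G} {g : G} (h₁ : PChain P A g) :
    ∀ {h : G}, PChain P ((fun a => g⁻¹ * a * g) '' A) h → PChain P A (g * h) := by
  induction h₁ with
  | one A => intro h h₂; simpa using h₂
  | cons A x k Q hA ht hx hp _ ih =>
    intro h h₂
    rw [mul_assoc]
    refine PChain.cons A x (k * h) Q hA ht hx hp (ih ?_)
    rwa [image_conj_conj]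

theorem PChain.exists_seq {P : Sylow p G} {A : Set G} {g : G} (h : PChain P A g) :
    ∃ (n : ℕ) (Q : Fin n → Sylow p G) (x : Fin n → G), (List.ofFn x).prod = g ∧
      (∀ i : Fin n,
        x i ∈ Subgroup.normalizer
          ((((P : Subgroup G) ⊓ (Q i : Subgroup G)) : Subgroup G) : Set G) ∧
        Tame P (Q i) ∧ ((Q i : Subgroup G) = (P : Subgroup G) ∨ ∃ k : ℕ, orderOf (x i) = p ^ k)) ∧
      (∀ h : 0 < n, A ⊆ (((P : Subgroup G) ⊓ (Q ⟨0, h⟩ : Subgroup G) : Subgroup G) : Set G)) ∧
      ∀ i : Fin n, ∀ h : i.val + 1 < n,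
        (fun a => (((List.ofFn x).take (i.val + 1)).prod)⁻¹ * a * ((List.ofFn x).take (i.val + 1)).prod) '' A ⊆
          (((P : Subgroup G) ⊓ (Q ⟨i.val + 1, h⟩ : Subgroup G) : Subgroup G) : Set G) := by
  induction h with
  | one A =>
    exact ⟨0, Fin.elim0, Fin.elim0, by simp, fun i => i.elim0, fun h => absurd h (Nat.lt_irrefl 0),
      fun i => i.elim0⟩
  | cons A x h Q hA ht hx hp _ ih =>
    obtain ⟨n, Qs, xs, hprod, hnorm, hfirst, hnext⟩ := ih
    refine ⟨n + 1, Fin.cons Q Qs, Fin.cons x xs, ?_, ?_, ?_, ?_⟩
    · rw [List.ofFn_succ]; simp [hprod]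
    · intro i
      induction i using Fin.cases with
      | zero => simpa using ⟨hx, ht, hp⟩
      | succ j => simpa using hnorm j
    · intro _; exact hA
    · intro i hi
      induction i using Fin.cases with
      | zero =>
        have hn : 0 < n := by simp at hi; omega
        have hidx : (⟨((0 : Fin (n + 1)) : ℕ) + 1, hi⟩ : Fin (n + 1)) = Fin.succ ⟨0, hn⟩ := rfl
        rw [hidx, Fin.cons_succ, List.ofFn_succ]
        simpa using hfirst hn
      | succ j =>
        have hj : j.val + 1 < n := by simp at hi; omega
        have hidx : (⟨(j.succ : ℕ) + 1, hi⟩ : Fin (n + 1)) = Fin.succ ⟨j.val + 1, hj⟩ := rfl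
        rw [hidx, Fin.cons_succ, List.ofFn_succ]
        have hkey := hnext j hj
        rw [image_conj_conj] at hkey
        simpa using hkey

variable [Finite G] [Fact p.Prime]

theorem image_conj_of_mem_normalizer {D : Subgroup G} {x : G}
    (hx : x ∈ Subgroup.normalizer (D : Set G)) :
    (fun a => x⁻¹ * a * x) '' (D : Set G) = (D : Set G) := by
  ext b
  constructor
  · rintro ⟨a, ha, rfl⟩
    simpa using (Subgroup.mem_normalizer_iff.1 (inv_mem hx) a).1 ha
  · intro hb
    exact ⟨x * b * x⁻¹, (Subgroup.mem_normalizer_iff.1 hx b).1 hb, by group⟩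

/-- Chains can be refined to chains of p-elements. -/
theorem pChain_of_chain (P : Sylow p G) : ∀ (k : ℕ) (A : Set G) (g : G),
    Chain P A g → Nat.card ↥(P : Subgroup G) - Nat.card ↥A ≤ k → PChain P A g := by
  intro k
  induction k using Nat.strong_induction_on with
  | _ k ih =>
    intro A g hch
    induction hch with
    | one A => exact fun _ => PChain.one A
    | cons A x h Q hA ht hx _ ihc =>
      intro hk
      have hcard : Nat.card ↥((fun a => x⁻¹ * a * x) '' A : Set G) = Nat.card ↥A :=
        Nat.card_image_of_injective (fun a b hab => by simpa using hab) A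
      have hstep : PChain P A x := by
        set D := (P : Subgroup G) ⊓ (Q : Subgroup G) with hD
        have hAD : Nat.card ↥A ≤ Nat.card ↥D := Nat.card_mono (Set.toFinite _) hA
        rcases eq_or_lt_of_le (inf_le_left : D ≤ (P : Subgroup G)) with heq | hlt
        · have hQ : (Q : Subgroup G) = (P : Subgroup G) :=
            (Subgroup.eq_of_le_of_card_ge (fun z hz => (heq.ge hz).2)
              (Nat.card_congr (Q.equiv P).toEquiv).le).symm
          rw [← mul_one x]
          exact PChain.cons A x 1 Q hA ht hx (Or.inl hQ) (PChain.one _)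
        set N := Subgroup.normalizer (D : Set G) with hN
        set R := (P : Subgroup G) ⊓ N with hR
        have hDR : Nat.card ↥D < Nat.card ↥R := by
          have hlt' : D < R := lt_inf_normalizer P.isPGroup' hlt
          exact (Subgroup.card_le_of_le hlt'.le).lt_of_ne fun h =>
            hlt'.ne (Subgroup.eq_of_le_of_card_ge hlt'.le h.ge)
        let M : Subgroup ↥N := Subgroup.closure {n : ↥N | ∃ j : ℕ, orderOf n = p ^ j}
        haveI hMn : M.Normal := by
          refine ⟨fun m hm n => ?_⟩
          induction hm using Subgroup.closure_induction with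
          | mem y hy =>
            refine Subgroup.subset_closure ?_
            show ∃ j, orderOf (n * y * n⁻¹) = p ^ j
            rw [show n * y * n⁻¹ = MulAut.conj n y from rfl, MulEquiv.orderOf_eq]; exact hy
          | one => simp
          | mul y z _ _ hy hz => rw [← conj_mul]; exact mul_mem hy hz
          | inv y _ hy => rw [← conj_inv]; exact inv_mem hy
        have hgen : ∀ m : ↥N, m ∈ M → PChain P (D : Set G) (m : G) := by
          intro m hm
          have hmul : ∀ a b : ↥N, PChain P (D : Set G) (a : G) → PChain P (D : Set G) (b : G) →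
              PChain P (D : Set G) ((a * b : ↥N) : G) := fun a b ha hb => ha.append (by
            rw [image_conj_of_mem_normalizer a.2]; exact hb)
          have hone : ∀ a : ↥N, (∃ j : ℕ, orderOf a = p ^ j) → PChain P (D : Set G) (a : G) := by
            rintro a ⟨j, hj⟩
            rw [← mul_one (a : G)]
            exact PChain.cons _ _ 1 Q le_rfl ht a.2
              (Or.inr ⟨j, by rw [Subgroup.orderOf_coe, hj]⟩) (PChain.one _)
          suffices PChain P (D : Set G) (m : G) ∧ PChain P (D : Set G) ((m⁻¹ : ↥N) : G) from this.1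
          induction hm using Subgroup.closure_induction with
          | mem y hy => exact ⟨hone y hy, hone _ (by rw [orderOf_inv]; exact hy)⟩
          | one => simpa using PChain.one (P := P) (D : Set G)
          | mul y z _ _ hy hz =>
            exact ⟨hmul y z hy.1 hz.1, by rw [mul_inv_rev]; exact hmul _ _ hz.2 hy.2⟩
          | inv y _ hy => exact ⟨hy.2, by rw [inv_inv]; exact hy.1⟩
        obtain ⟨T, hT⟩ : ∃ T : Sylow p ↥N, (T : Subgroup ↥N) = R.subgroupOf N := by
          refine ⟨((P.isPGroup'.to_le (inf_le_left : R ≤ _)).comap_of_injective _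
            N.subtype_injective).toSylow ?_, IsPGroup.toSylow_coe _ _⟩
          exact ht.1
        have hTM : (T : Subgroup ↥N) ⊓ M = (T : Subgroup ↥N) := by
          refine inf_eq_left.2 fun t htT => Subgroup.subset_closure ?_
          obtain ⟨j, hj⟩ := T.isPGroup' ⟨t, htT⟩
          obtain ⟨i, -, hi⟩ := (Nat.dvd_prime_pow Fact.out).1
            (orderOf_dvd_of_pow_eq_one (show t ^ p ^ j = 1 by simpa using congrArg Subtype.val hj))
          exact ⟨i, hi⟩
        obtain ⟨c, hc, hcx⟩ := frattini_argument T M ⟨x, hx⟩
        rw [hTM, hT] at hcx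
        set y : ↥N := c * ⟨x, hx⟩ with hy
        have hxy : x = ((c⁻¹ : ↥N) : G) * (y : G) := by
          rw [hy, Subgroup.coe_mul, Subgroup.coe_inv, inv_mul_cancel_left]
        rw [hxy]
        refine PChain.mono (B := A) (PChain.append (hgen c⁻¹ (inv_mem hc)) ?_) hA
        rw [image_conj_of_mem_normalizer (c⁻¹ : ↥N).2]
        refine PChain.mono (ih (Nat.card ↥(P : Subgroup G) - Nat.card ↥R) ?_ (R : Set G) (y : G) ?_
          le_rfl) (SetLike.coe_subset_coe.2 (le_inf inf_le_left Subgroup.le_normalizer))
        · have : Nat.card ↥R ≤ Nat.card ↥(P : Subgroup G) := Subgroup.card_le_of_le inf_le_left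
          omega
        · refine CfsgLib.AlperinGroup.alperin P _ _ (fun z hz => hz.1) ?_
          rintro _ ⟨z, hz, rfl⟩
          have h1 := (Subgroup.mem_normalizer_iff.1 (inv_mem hcx) ⟨z, hz.2⟩).1 hz
          simp only [Subgroup.mem_subgroupOf, Subgroup.coe_mul, Subgroup.coe_inv, inv_inv] at h1
          exact h1.1
      exact hstep.append (ihc (by omega))

end CfsgLib.AlperinRefined
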