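import Mathlib.GroupTheory.Sylow
import Mathlib.GroupTheory.Nilpotent
import Mathlib.GroupTheory.Focal
import Cfsg.Prelude.Def_ConjugacyFunctors

/-!
# Basic tools for conjugacy functors

`cj g H` is `g H g⁻¹`; `IsSyl p T H` says that `T` is a `p`-subgroup of `H` of index prime to `p`.
-/

set_option autoImplicit false

namespace CfsgLib.ConjFunctor

variable {G : Type*} [Group G] {p : ℕ}

/-- `g H g⁻¹`. -/
abbrev cj (g : G) (H : Subgroup G) : Subgroup G := H.map (MulAut.conj g).toMonoidHom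

theorem mem_cj {g x : G} {H : Subgroup G} : x ∈ cj g H ↔ g⁻¹ * x * g ∈ H := by
  rw [Subgroup.mem_map]
  constructor
  · rintro ⟨y, hy, rfl⟩
    simpa [mul_assoc] using hy
  · intro h
    exact ⟨_, h, by simp [mul_assoc]⟩

theorem conj_mem_cj {g x : G} {H : Subgroup G} (hx : x ∈ H) : g * x * g⁻¹ ∈ cj g H :=
  mem_cj.2 (by simpa [mul_assoc] using hx)

theorem conj_mem_cj_iff {g x : G} {H : Subgroup G} : g * x * g⁻¹ ∈ cj g H ↔ x ∈ H := by
  simp [mem_cj, mul_assoc]

theorem cj_one (H : Subgroup G) : cj 1 H = H := by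
  ext x; simp [mem_cj]

theorem cj_mul (g h : G) (H : Subgroup G) : cj (g * h) H = cj g (cj h H) := by
  ext x; simp [mem_cj, mul_assoc]

theorem cj_inv_cj (g : G) (H : Subgroup G) : cj g⁻¹ (cj g H) = H := by
  rw [← cj_mul, inv_mul_cancel, cj_one]

theorem cj_cj_inv (g : G) (H : Subgroup G) : cj g (cj g⁻¹ H) = H := by
  rw [← cj_mul, mul_inv_cancel, cj_one]

theorem cj_mono {g : G} {H K : Subgroup G} (h : H ≤ K) : cj g H ≤ cj g K :=
  Subgroup.map_mono h

theorem cj_le_iff {g : G} {H K : Subgroup G} : cj g H ≤ K ↔ H ≤ cj g⁻¹ K := by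
  constructor
  · intro h
    simpa [cj_inv_cj] using cj_mono (g := g⁻¹) h
  · intro h
    simpa [cj_cj_inv] using cj_mono (g := g) h

theorem cj_inj {g : G} {H K : Subgroup G} (h : cj g H = cj g K) : H = K := by
  rw [← cj_inv_cj g H, h, cj_inv_cj]

theorem cj_inf (g : G) (H K : Subgroup G) : cj g (H ⊓ K) = cj g H ⊓ cj g K :=
  Subgroup.map_inf H K _ (MulAut.conj g).injective

theorem cj_bot (g : G) : cj g (⊥ : Subgroup G) = ⊥ := Subgroup.map_bot _

theorem cj_eq_bot_iff {g : G} {H : Subgroup G} : cj g H = ⊥ ↔ H = ⊥ := by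
  constructor
  · intro h; rw [← cj_inv_cj g H, h, cj_bot]
  · rintro rfl; exact cj_bot g

theorem card_cj (g : G) (H : Subgroup G) : Nat.card ↥(cj g H) = Nat.card ↥H :=
  Subgroup.card_map_of_injective (MulAut.conj g).injective

theorem cj_normalizer (g : G) (H : Subgroup G) :
    cj g (Subgroup.normalizer (H : Set G)) = Subgroup.normalizer ((cj g H : Subgroup G) : Set G) :=
  Subgroup.map_equiv_normalizer_eq H (MulAut.conj g)

theorem cj_eq_self_iff {g : G} {H : Subgroup G} :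
    cj g H = H ↔ g ∈ Subgroup.normalizer (H : Set G) := by
  constructor
  · intro h
    refine Subgroup.mem_normalizer_iff.2 fun x => ?_
    conv_rhs => rw [← h]
    exact conj_mem_cj_iff.symm
  · intro h
    ext x
    rw [mem_cj]
    have := Subgroup.mem_normalizer_iff.1 h (g⁻¹ * x * g)
    simpa [mul_assoc] using this

theorem cj_eq_self_of_mem {g : G} {H : Subgroup G} (hg : g ∈ H) : cj g H = H :=
  cj_eq_self_iff.2 (Subgroup.le_normalizer hg)

theorem cj_eq_self_of_normal (g : G) (H : Subgroup G) [H.Normal] : cj g H = H :=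
  cj_eq_self_iff.2 (by rw [Subgroup.normalizer_eq_top]; exact Subgroup.mem_top g)

theorem cj_le_of_mem {g : G} {H K : Subgroup G} (hH : H ≤ K) (hg : g ∈ K) : cj g H ≤ K :=
  (cj_mono hH).trans (cj_eq_self_of_mem hg).le

theorem cj_relIndex (g : G) (H K : Subgroup G) : (cj g H).relIndex (cj g K) = H.relIndex K :=
  Subgroup.relIndex_map_map_of_injective H K (MulAut.conj g).injective

theorem isPGroup_cj {g : G} {H : Subgroup G} (h : IsPGroup p ↥H) : IsPGroup p ↥(cj g H) :=
  h.map _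

theorem image_subset_iff {g : G} {A : Set G} {H : Subgroup G} :
    (fun a => g * a * g⁻¹) '' A ⊆ (H : Set G) ↔ cj g (Subgroup.closure A) ≤ H := by
  rw [cj_le_iff, Subgroup.closure_le, Set.image_subset_iff]
  refine forall₂_congr fun a _ => ?_
  show _ ↔ a ∈ cj g⁻¹ H
  rw [mem_cj]
  simp [mul_assoc]

/-- Two elements inducing the same conjugation on `A` carry its closure to the same subgroup. -/
theorem cj_congr {g h : G} {H : Subgroup G} (hgh : ∀ a ∈ H, g * a * g⁻¹ = h * a * h⁻¹) :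
    cj g H = cj h H := by
  ext x
  simp only [Subgroup.mem_map]
  constructor <;> rintro ⟨a, ha, rfl⟩ <;> refine ⟨a, ha, ?_⟩ <;>
    simp [MulAut.conj_apply, hgh a ha]

/-- Agreement of two conjugations on a set extends to the subgroup it generates. -/
theorem agree_closure {g h : G} {A : Set G} (hgh : ∀ a ∈ A, g * a * g⁻¹ = h * a * h⁻¹) :
    ∀ a ∈ Subgroup.closure A, g * a * g⁻¹ = h * a * h⁻¹ := by
  intro a ha
  have := MonoidHom.eqOn_closure (f := (MulAut.conj g).toMonoidHom)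
    (g := (MulAut.conj h).toMonoidHom) (s := A) (fun b hb => hgh b hb) ha
  simpa [MulAut.conj_apply] using this

/-! ### Sylow subgroups of a subgroup -/

/-- `T` is a Sylow `p`-subgroup of the subgroup `H`. -/
structure IsSyl (p : ℕ) (T H : Subgroup G) : Prop where
  le : T ≤ H
  isPGroup : IsPGroup p ↥T
  not_dvd : ¬ p ∣ T.relIndex H

theorem IsSyl.conj {T H : Subgroup G} (h : IsSyl p T H) (g : G) : IsSyl p (cj g T) (cj g H) :=
  ⟨cj_mono h.le, isPGroup_cj h.isPGroup, by rw [cj_relIndex]; exact h.not_dvd⟩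

theorem isSyl_top [Finite G] [Fact p.Prime] (S : Sylow p G) :
    IsSyl p (S : Subgroup G) ⊤ :=
  ⟨le_top, S.isPGroup', by rw [Subgroup.relIndex_top_right]; exact S.not_dvd_index⟩

variable [Finite G] [Fact p.Prime]

theorem exists_isSyl_ge {P H : Subgroup G} (hP : IsPGroup p ↥P) (hPH : P ≤ H) :
    ∃ T : Subgroup G, IsSyl p T H ∧ P ≤ T := by
  obtain ⟨Q, hQ⟩ := IsPGroup.exists_le_sylow (p := p) (P := P.subgroupOf H)
    (hP.comap_of_injective H.subtype (Subgroup.subtype_injective H))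
  refine ⟨(Q : Subgroup H).map H.subtype, ⟨Subgroup.map_subtype_le _, Q.isPGroup'.map _, ?_⟩, ?_⟩
  · rw [Subgroup.relIndex, Subgroup.subgroupOf, Subgroup.comap_map_eq_self_of_injective
      (Subgroup.subtype_injective H)]
    exact Q.not_dvd_index
  · refine le_trans ?_ (Subgroup.map_mono hQ)
    rw [Subgroup.subgroupOf_map_subtype, inf_eq_left.2 hPH]

theorem IsSyl.exists_cj_le {T H P : Subgroup G} (hT : IsSyl p T H) (hP : IsPGroup p ↥P)
    (hPH : P ≤ H) : ∃ h ∈ H, cj h P ≤ T := by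
  obtain ⟨Q, hQ⟩ := IsPGroup.exists_le_sylow (p := p) (P := P.subgroupOf H)
    (hP.comap_of_injective H.subtype (Subgroup.subtype_injective H))
  let T' : Sylow p H := IsPGroup.toSylow (hT.isPGroup.comap_of_injective H.subtype
    (Subgroup.subtype_injective H)) hT.not_dvd
  have hT' : (T' : Subgroup H) = T.subgroupOf H := IsPGroup.toSylow_coe _ _
  obtain ⟨h, hh⟩ := MulAction.exists_smul_eq H Q T'
  refine ⟨h, h.2, ?_⟩
  intro x hx
  rw [mem_cj] at hx
  have h1 : (⟨(h : G)⁻¹ * x * h, hPH hx⟩ : H) ∈ (Q : Subgroup H) := hQ (by exact hx)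
  have h2 : h * (⟨(h : G)⁻¹ * x * h, hPH hx⟩ : H) * h⁻¹ ∈ (T' : Subgroup H) := by
    rw [← hh, Sylow.coe_subgroup_smul, Subgroup.mem_pointwise_smul_iff_inv_smul_mem]
    simpa [mul_assoc] using h1
  rw [hT'] at h2
  have h3 : ((h * (⟨(h : G)⁻¹ * x * h, hPH hx⟩ : H) * h⁻¹ : H) : G) ∈ T := h2
  simpa [mul_assoc] using h3

theorem IsSyl.card_le {T H P : Subgroup G} (hT : IsSyl p T H) (hP : IsPGroup p ↥P)
    (hPH : P ≤ H) : Nat.card ↥P ≤ Nat.card ↥T := by
  obtain ⟨h, -, hle⟩ := hT.exists_cj_le hP hPH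
  rw [← card_cj h P]
  exact Subgroup.card_le_of_le hle

theorem IsSyl.eq_of_le {T H P : Subgroup G} (hT : IsSyl p T H) (hP : IsPGroup p ↥P)
    (hPH : P ≤ H) (hTP : T ≤ P) : T = P :=
  Subgroup.eq_of_le_of_card_ge hTP (hT.card_le hP hPH)

theorem IsSyl.exists_cj_eq {T T' H : Subgroup G} (hT : IsSyl p T H) (hT' : IsSyl p T' H) :
    ∃ h ∈ H, cj h T = T' := by
  obtain ⟨h, hh, hle⟩ := hT'.exists_cj_le hT.isPGroup hT.le
  refine ⟨h, hh, Subgroup.eq_of_le_of_card_ge hle ?_⟩
  rw [card_cj]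
  exact hT.card_le hT'.isPGroup hT'.le

/-! ### Fully normalized subgroups -/

/-- `N_S(D)` is a Sylow `p`-subgroup of `N_G(D)`, and `D ≤ S`. -/
def FullyNorm (p : ℕ) (S D : Subgroup G) : Prop :=
  D ≤ S ∧ IsSyl p (S ⊓ Subgroup.normalizer (D : Set G)) (Subgroup.normalizer (D : Set G))

theorem fullyNorm_iff {S D : Subgroup G} (hS : IsPGroup p ↥S) :
    FullyNorm p S D ↔ D ≤ S ∧
      ¬ p ∣ (S ⊓ Subgroup.normalizer (D : Set G)).relIndex (Subgroup.normalizer (D : Set G)) :=
  ⟨fun h => ⟨h.1, h.2.not_dvd⟩, fun h => ⟨h.1, inf_le_right, hS.to_le inf_le_left, h.2⟩⟩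

theorem FullyNorm.self_le {S D : Subgroup G} (h : FullyNorm p S D) :
    D ≤ S ⊓ Subgroup.normalizer (D : Set G) :=
  le_inf h.1 Subgroup.le_normalizer

theorem exists_fullyNorm_cj (S : Sylow p G) {D : Subgroup G} (hD : D ≤ S) :
    ∃ g : G, cj g ((S : Subgroup G) ⊓ Subgroup.normalizer (D : Set G)) ≤ S ∧
      FullyNorm p (S : Subgroup G) (cj g D) := by
  obtain ⟨R, hR, hle⟩ := exists_isSyl_ge (S.isPGroup'.to_le inf_le_left)
    (inf_le_right : (S : Subgroup G) ⊓ Subgroup.normalizer (D : Set G) ≤ _)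
  obtain ⟨g, -, hgR⟩ := (isSyl_top S).exists_cj_le hR.isPGroup le_top
  refine ⟨g, (cj_mono hle).trans hgR,
    (cj_mono ((le_inf hD Subgroup.le_normalizer).trans hle)).trans hgR, ?_⟩
  have hR' : IsSyl p (cj g R) (Subgroup.normalizer ((cj g D : Subgroup G) : Set G)) := by
    rw [← cj_normalizer]; exact hR.conj g
  have heq : cj g R = (S : Subgroup G) ⊓ Subgroup.normalizer ((cj g D : Subgroup G) : Set G) :=
    hR'.eq_of_le (S.isPGroup'.to_le inf_le_left) inf_le_right (le_inf hgR hR'.le)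
  rw [← heq]
  exact hR'

/-- A proper subgroup of a `p`-subgroup is properly contained in its normalizer there. -/
theorem lt_inf_normalizer {S D : Subgroup G} (hS : IsPGroup p ↥S) (hD : D < S) :
    D < S ⊓ Subgroup.normalizer (D : Set G) := by
  have : Group.IsNilpotent S := hS.isNilpotent
  have hne : D.subgroupOf S < ⊤ := by
    refine lt_top_iff_ne_top.2 fun h => hD.not_ge (Subgroup.subgroupOf_eq_top.1 h)
  obtain ⟨x, hx, hxD⟩ := SetLike.exists_of_lt (Group.normalizerCondition_of_isNilpotent _ hne)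
  refine lt_of_le_of_ne (le_inf hD.le Subgroup.le_normalizer) fun heq => hxD ?_
  refine Subgroup.mem_subgroupOf.2 ?_
  rw [heq]
  refine ⟨x.2, Subgroup.mem_normalizer_iff.2 fun y => ?_⟩
  constructor
  · intro hy
    have := (Subgroup.mem_normalizer_iff.1 hx ⟨y, hD.le hy⟩).1 (Subgroup.mem_subgroupOf.2 hy)
    simpa [Subgroup.mem_subgroupOf] using this
  · intro hy
    have hyS : y ∈ S := by
      have := S.mul_mem (S.mul_mem (S.inv_mem x.2) (hD.le hy)) x.2
      simpa [mul_assoc] using this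
    have := (Subgroup.mem_normalizer_iff.1 hx ⟨y, hyS⟩).2
      (Subgroup.mem_subgroupOf.2 (by simpa using hy))
    exact Subgroup.mem_subgroupOf.1 this

/-! ### Conjugacy functors -/

variable {W : Subgroup G → Subgroup G}

omit [Finite G] [Fact p.Prime] in
theorem functor_le (hW : Cfsg.IsConjugacyFunctor p W) {P : Subgroup G} (hP : IsPGroup p ↥P) :
    W P ≤ P := (hW P hP).1

omit [Finite G] [Fact p.Prime] in
theorem functor_cj (hW : Cfsg.IsConjugacyFunctor p W) {P : Subgroup G} (hP : IsPGroup p ↥P)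
    (g : G) : W (cj g P) = cj g (W P) := (hW P hP).2.2 g

omit [Finite G] [Fact p.Prime] in
theorem normalizer_le_functor (hW : Cfsg.IsConjugacyFunctor p W) {P : Subgroup G}
    (hP : IsPGroup p ↥P) :
    Subgroup.normalizer (P : Set G) ≤ Subgroup.normalizer ((W P : Subgroup G) : Set G) := by
  intro g hg
  rw [← cj_eq_self_iff] at hg ⊢
  rw [← functor_cj hW hP, hg]

omit [Finite G] [Fact p.Prime] in
theorem functor_bot (hW : Cfsg.IsConjugacyFunctor p W) : W ⊥ = ⊥ :=
  le_bot_iff.1 (functor_le hW IsPGroup.of_bot)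

omit [Finite G] [Fact p.Prime] in
theorem inf_normalizer_le_functor (hW : Cfsg.IsConjugacyFunctor p W) {S D : Subgroup G}
    (hS : IsPGroup p ↥S) :
    S ⊓ Subgroup.normalizer (D : Set G) ≤
      S ⊓ Subgroup.normalizer ((W (S ⊓ Subgroup.normalizer (D : Set G)) : Subgroup G) : Set G) :=
  le_inf inf_le_left
    (Subgroup.le_normalizer.trans (normalizer_le_functor hW (hS.to_le inf_le_left)))

theorem inf_normalizer_lt_functor (hW : Cfsg.IsConjugacyFunctor p W) {S D : Subgroup G}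
    (hS : IsPGroup p ↥S) (hlt : S ⊓ Subgroup.normalizer (D : Set G) < S) :
    S ⊓ Subgroup.normalizer (D : Set G) <
      S ⊓ Subgroup.normalizer ((W (S ⊓ Subgroup.normalizer (D : Set G)) : Subgroup G) : Set G) :=
  (lt_inf_normalizer hS hlt).trans_le
    (inf_le_inf_left _ (normalizer_le_functor hW (hS.to_le inf_le_left)))

end CfsgLib.ConjFunctor
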