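import Cfsg.Agent.Lib.ConjFunctor.FusionMain
import Cfsg.Agent.Lib.ConjFunctor.WeakClosure
import Cfsg.Prelude.Def_TwoFusion
import Cfsg.Prelude.Def_PLocal
import Cfsg.Prelude.Def_Transfer

/-!
# The closure of the central elements of order `p` under two functor normalizers
-/

set_option autoImplicit false
set_option linter.style.haveILetI false

open scoped commutatorElement

namespace CfsgLib.ConjFunctor

universe u

variable {p : ℕ}

/-- `Ω₁(Z(T))`. -/
abbrev zOmega (p : ℕ) {H : Type u} [Group H] (T : Subgroup H) : Subgroup H :=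
  Cfsg.omegaOne p (T ⊓ Subgroup.centralizer (T : Set H))

theorem zOmega_le {H : Type u} [Group H] (T : Subgroup H) : zOmega p T ≤ T :=
  (Subgroup.closure_le _).2 fun _ hx => hx.1.1

theorem zOmega_le_centralizer {H : Type u} [Group H] (T : Subgroup H) :
    zOmega p T ≤ Subgroup.centralizer (T : Set H) :=
  (Subgroup.closure_le _).2 fun _ hx => hx.1.2

theorem pow_eq_one_of_mem_zOmega {H : Type u} [Group H] {T : Subgroup H} {z : H}
    (hz : z ∈ zOmega p T) : z ^ p = 1 := by
  refine (?_ : z ∈ zOmega p T ∧ z ^ p = 1).2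
  induction hz using Subgroup.closure_induction with
  | mem x hx => exact ⟨Subgroup.subset_closure hx, hx.2⟩
  | one => exact ⟨one_mem _, one_pow p⟩
  | mul x y _ _ hx hy =>
    have hc : Commute x y :=
      Subgroup.mem_centralizer_iff.1 (zOmega_le_centralizer T hy.1) x (zOmega_le T hx.1)
    exact ⟨mul_mem hx.1 hy.1, by rw [hc.mul_pow, hx.2, hy.2, one_mul]⟩
  | inv x _ hx => exact ⟨inv_mem hx.1, by rw [inv_pow, hx.2, inv_one]⟩

theorem map_zOmega {H K : Type u} [Group H] [Group K] (f : H →* K) {T : Subgroup H}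
    (hf : Set.InjOn f (T : Set H)) : (zOmega p T).map f = zOmega p (T.map f) := by
  unfold zOmega Cfsg.omegaOne
  rw [MonoidHom.map_closure]
  congr 1
  ext y
  constructor
  · rintro ⟨x, ⟨⟨hxT, hxC⟩, hxp⟩, rfl⟩
    refine ⟨⟨⟨x, hxT, rfl⟩, Subgroup.mem_centralizer_iff.2 ?_⟩, by rw [← map_pow, hxp, map_one]⟩
    rintro _ ⟨t, ht, rfl⟩
    rw [← map_mul, ← map_mul, Subgroup.mem_centralizer_iff.1 hxC t ht]
  · rintro ⟨⟨⟨x, hxT, rfl⟩, hxC⟩, hxp⟩
    refine ⟨x, ⟨⟨hxT, Subgroup.mem_centralizer_iff.2 fun t ht => ?_⟩, ?_⟩, rfl⟩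
    · refine hf (mul_mem ht hxT) (mul_mem hxT ht) ?_
      rw [map_mul, map_mul]
      exact Subgroup.mem_centralizer_iff.1 hxC _ ⟨t, ht, rfl⟩
    · refine hf (pow_mem hxT p) (one_mem T) ?_
      rw [map_pow, map_one]
      exact hxp

variable [Fact p.Prime] {G : Type u} [Group G]

/-- `H = C(Ω₁(Z(T))) N(W T)`. -/
def CentralFactor (p : ℕ) (W : ∀ (Q : Type u) [Group Q], Subgroup Q) {H : Type u} [Group H]
    (T : Subgroup H) : Prop :=
  ∀ x : H, ∃ a ∈ Subgroup.centralizer ((zOmega p T : Subgroup H) : Set H),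
    ∃ b ∈ Subgroup.normalizer ((Cfsg.inducedFunctor (G := H) W T : Subgroup H) : Set H), x = a * b

/-- The factorization passes from the constrained sections to those with `Ω₁(Z(T)) ≤ O_p`. -/
theorem centralFactor_of_le_pCore {W : ∀ (Q : Type u) [Group Q], Subgroup Q}
    (hW : Cfsg.IsCharPFunctor.{u} p W)
    (hin : ∀ (H : Type u) [Group H] [Finite H], IsSec G H → Constrained p H →
      ∀ T : Sylow p H, CentralFactor p W (T : Subgroup H))
    (H : Type u) [Group H] [Finite H] (hsec : IsSec G H) (T : Sylow p H)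
    (hZ : zOmega p (T : Subgroup H) ≤ Cfsg.pCore p H) : CentralFactor p W (T : Subgroup H) := by
  suffices main : ∀ (c : ℕ) (H : Type u) [Group H] [Finite H], Nat.card H ≤ c → IsSec G H →
      ∀ T : Sylow p H, zOmega p (T : Subgroup H) ≤ Cfsg.pCore p H →
        CentralFactor p W (T : Subgroup H) from main _ H le_rfl hsec T hZ
  intro c
  induction c with
  | zero => intro H _ _ hH; exact absurd hH (Nat.not_le.2 Nat.card_pos)
  | succ c ih =>
    intro H _ _ hc hsec T hZ x
    by_cases hcon : Constrained p H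
    · exact hin H hsec hcon T x
    haveI hPn := CfsgLib.Solvable.pCore_normal p H
    set P := Cfsg.pCore p H with hP
    have hPT : P ≤ (T : Subgroup H) := CfsgLib.Solvable.pCore_le_sylow T
    set Z := zOmega p (T : Subgroup H) with hZdef
    set C := Subgroup.centralizer (P : Set H) with hC
    haveI : C.Normal := by rw [hC]; infer_instance
    have hCZ : C ≤ Subgroup.centralizer (Z : Set H) := Subgroup.centralizer_le hZ
    set N := Subgroup.normalizer (((T : Subgroup H) ⊓ C : Subgroup H) : Set H) with hN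
    have hTN : (T : Subgroup H) ≤ N := le_normalizer_inf_normal _ C
    by_cases htop : N = ⊤
    · -- a nontrivial `O_{p'}`
      have hQ0 := pPrimeCore_ne_bot_of_inf_le T hcon (inf_le_pCore_of_normal T C htop)
      set Q := Cfsg.pPrimeCore p H
      haveI := CfsgLib.Solvable.pPrimeCore_normal p H
      set f := QuotientGroup.mk' Q with hf
      have hsurj : Function.Surjective f := QuotientGroup.mk'_surjective Q
      have hQc : (Nat.card ↥Q).Coprime p := CfsgLib.Solvable.pPrimeCore_card_coprime p H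
      have hker : (Nat.card ↥f.ker).Coprime p := by rw [hf, QuotientGroup.ker_mk']; exact hQc
      have hcard : Nat.card (H ⧸ Q) ≤ c := by
        have h1 := Subgroup.card_eq_card_quotient_mul_card_subgroup Q
        have h2 : 1 < Nat.card ↥Q := (Subgroup.one_lt_card_iff_ne_bot Q).2 hQ0
        have h3 : 0 < Nat.card (H ⧸ Q) := Nat.card_pos
        have : Nat.card (H ⧸ Q) < Nat.card H := by rw [h1]; exact lt_mul_of_one_lt_right h3 h2
        omega
      have hdis : ∀ y ∈ (T : Subgroup H), y ∈ Q → y = 1 := by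
        intro y hy hyQ
        obtain ⟨n, hn⟩ := T.isPGroup' ⟨y, hy⟩
        exact orderOf_eq_one_iff.1 (Nat.eq_one_of_dvd_coprimes (hQc.pow_right n)
          (Subgroup.orderOf_dvd_natCard Q hyQ)
          (orderOf_dvd_of_pow_eq_one (by simpa using congrArg Subtype.val hn)))
      have hinj : Set.InjOn f ((T : Subgroup H) : Set H) := fun a ha b hb hab =>
        inv_mul_eq_one.1 (hdis _ (mul_mem (inv_mem ha) hb) (QuotientGroup.eq.1 hab))
      have hZb : zOmega p ((T : Subgroup H).map f) ≤ Cfsg.pCore p (H ⧸ Q) := by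
        rw [← map_zOmega f hinj]
        exact (Subgroup.map_mono hZ).trans (CfsgLib.Solvable.le_pCore (hPn.map f hsurj)
          ((CfsgLib.Solvable.pCore_isPGroup p H).map f))
      obtain ⟨a, ha, b, hb, hab⟩ := ih (H ⧸ Q) hcard (hsec.of_surjective hsurj) (T.mapSurjective hsurj)
        (by rw [Sylow.coe_mapSurjective]; exact hZb) (f x)
      rw [Sylow.coe_mapSurjective] at ha hb
      rw [inducedFunctor_map hW f _ T.isPGroup' hinj,
        ← map_normalizer_pPrime hsurj hker (T.isPGroup'.to_le (inducedFunctor_le _))] at hb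
      obtain ⟨n, hn, rfl⟩ := hb
      refine ⟨x * n⁻¹, Subgroup.mem_centralizer_iff.2 fun z hz => ?_, n, hn,
        (inv_mul_cancel_right x n).symm⟩
      have hfa : f (x * n⁻¹) = a := by rw [map_mul, map_inv, hab, mul_inv_cancel_right]
      have h1 : ⁅z, x * n⁻¹⁆ ∈ Q := by
        refine (QuotientGroup.eq_one_iff _).1 ?_
        show f ⁅z, x * n⁻¹⁆ = 1
        rw [map_commutatorElement, hfa, commutatorElement_eq_one_iff_mul_comm]
        refine Subgroup.mem_centralizer_iff.1 ha (f z) ?_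
        rw [SetLike.mem_coe, ← map_zOmega f hinj]
        exact Subgroup.mem_map_of_mem f hz
      have h2 : ⁅z, x * n⁻¹⁆ ∈ P := Subgroup.commutator_le_left P ⊤
        (Subgroup.commutator_mem_commutator (hZ hz) (Subgroup.mem_top _))
      exact commutatorElement_eq_one_iff_mul_comm.1 (hdis _ (hPT h2) h1)
    · -- inside the normalizer
      obtain ⟨k, hk, hkx⟩ := frattini_argument T C x
      have hsyl : IsSyl p (T : Subgroup H) N := ⟨hTN, T.isPGroup', fun hd =>
        T.not_dvd_index (hd.trans (Subgroup.relIndex_dvd_index_of_le hTN))⟩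
      obtain ⟨T', hT'T, -⟩ := exists_sylow_map hsyl
      have hcard : Nat.card ↥N ≤ c := by
        have : Nat.card ↥N < Nat.card H :=
          (Subgroup.card_le_card_group N).lt_of_ne fun h => htop (Subgroup.eq_top_of_card_eq N h)
        omega
      have hmapZ : (zOmega p (T' : Subgroup ↥N)).map N.subtype = Z := by
        rw [map_zOmega N.subtype N.subtype_injective.injOn, hT'T]
      obtain ⟨a, ha, b, hb, hab⟩ := ih ↥N hcard (hsec.subgroup N) T' (by
        haveI : (P.subgroupOf N).Normal := inferInstance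
        refine le_trans ?_ (CfsgLib.Solvable.le_pCore (inferInstance : (P.subgroupOf N).Normal)
          ((CfsgLib.Solvable.pCore_isPGroup p H).comap_of_injective _ N.subtype_injective))
        exact Subgroup.map_le_iff_le_comap.1 (hmapZ.le.trans hZ)) ⟨k * x, hkx⟩
      refine ⟨k⁻¹ * (a : H), mul_mem (inv_mem (hCZ hk)) ?_, (b : H), ?_, ?_⟩
      · rw [← hmapZ]
        refine Subgroup.mem_centralizer_iff.2 ?_
        rintro _ ⟨z, hz, rfl⟩
        exact congrArg Subtype.val (Subgroup.mem_centralizer_iff.1 ha z hz)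
      · have h3 := Subgroup.le_normalizer_map N.subtype (Subgroup.mem_map_of_mem N.subtype hb)
        rwa [← inducedFunctor_subtype hW N _ T'.isPGroup', hT'T] at h3
      · have h4 : k * x = (a : H) * b := congrArg Subtype.val hab
        rw [mul_assoc, ← h4, inv_mul_cancel_left]

variable [Finite G]

/-- The conjugates of `Ω₁(Z(S))` under a subgroup. -/
def zConjugates (p : ℕ) (S N : Subgroup G) : Set G :=
  {y | ∃ n ∈ N, ∃ z ∈ zOmega p S, y = n * z * n⁻¹}

theorem zConjugates_subset {W₁ W₂ : ∀ (Q : Type u) [Group Q], Subgroup Q}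
    (hW₁ : Cfsg.IsCharPFunctor.{u} p W₁) (hW₂ : Cfsg.IsCharPFunctor.{u} p W₂)
    (hin : ∀ (H : Type u) [Group H] [Finite H], IsSec G H → Constrained p H →
      ∀ T : Sylow p H, CentralFactor p W₁ (T : Subgroup H)) (S : Sylow p G)
    (hZ : zOmega p (S : Subgroup G) ≤ Cfsg.inducedFunctor (G := G) W₂ (S : Subgroup G)) :
    zConjugates p (S : Subgroup G) (Subgroup.normalizer
        ((Cfsg.inducedFunctor (G := G) W₂ (S : Subgroup G) : Subgroup G) : Set G)) ⊆
      zConjugates p (S : Subgroup G) (Subgroup.normalizer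
        ((Cfsg.inducedFunctor (G := G) W₁ (S : Subgroup G) : Subgroup G) : Set G)) := by
  rintro _ ⟨n, hn, z, hz, rfl⟩
  set N := Subgroup.normalizer
    ((Cfsg.inducedFunctor (G := G) W₂ (S : Subgroup G) : Subgroup G) : Set G) with hN
  have hSN : (S : Subgroup G) ≤ N := (normalizer_le_functor
    (isConjugacyFunctor_inducedFunctor hW₂) S.isPGroup').trans' Subgroup.le_normalizer
  have hsyl : IsSyl p (S : Subgroup G) N := ⟨hSN, S.isPGroup', fun hd =>
    S.not_dvd_index (hd.trans (Subgroup.relIndex_dvd_index_of_le hSN))⟩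
  obtain ⟨T, hTS, -⟩ := exists_sylow_map hsyl
  have hmapZ : (zOmega p (T : Subgroup ↥N)).map N.subtype = zOmega p (S : Subgroup G) := by
    rw [map_zOmega N.subtype N.subtype_injective.injOn, hTS]
  set X := Cfsg.inducedFunctor (G := G) W₂ (S : Subgroup G)
  haveI : (X.subgroupOf N).Normal :=
    (Subgroup.normal_subgroupOf_iff_le_normalizer Subgroup.le_normalizer).2 le_rfl
  obtain ⟨a, ha, b, hb, hab⟩ := centralFactor_of_le_pCore hW₁ hin ↥N (isSec_self.subgroup N) T
    (le_trans (Subgroup.map_le_iff_le_comap.1 (hmapZ.le.trans hZ))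
      (CfsgLib.Solvable.le_pCore (inferInstance : (X.subgroupOf N).Normal)
        ((S.isPGroup'.to_le (inducedFunctor_le _)).comap_of_injective _ N.subtype_injective)))
    (⟨n, hn⟩ : ↥N)⁻¹
  have hab' : n⁻¹ = (a : G) * b := congrArg Subtype.val hab
  refine ⟨(b : G)⁻¹, inv_mem ?_, z, hz, ?_⟩
  · have h3 := Subgroup.le_normalizer_map N.subtype (Subgroup.mem_map_of_mem N.subtype hb)
    rwa [← inducedFunctor_subtype hW₁ N _ T.isPGroup', hTS] at h3
  · rw [← hmapZ] at hz
    obtain ⟨z', hz', rfl⟩ := hz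
    have hc : (z' : G) * a = a * z' :=
      congrArg Subtype.val (Subgroup.mem_centralizer_iff.1 ha z' hz')
    rw [Subgroup.coe_subtype, ← inv_inv n, hab', inv_inv, mul_inv_rev]
    calc (b : G)⁻¹ * (a : G)⁻¹ * z' * (a * b) = (b : G)⁻¹ * (a : G)⁻¹ * (z' * a) * b := by group
      _ = (b : G)⁻¹ * z' * ((b : G)⁻¹)⁻¹ := by rw [hc]; group

theorem closure_zConjugates_facts {W₁ W₂ : ∀ (Q : Type u) [Group Q], Subgroup Q}
    (hW₁ : Cfsg.IsCharPFunctor.{u} p W₁) (hW₂ : Cfsg.IsCharPFunctor.{u} p W₂)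
    (hin₁ : ∀ (H : Type u) [Group H] [Finite H], IsSec G H → Constrained p H →
      ∀ T : Sylow p H, CentralFactor p W₁ (T : Subgroup H))
    (hin₂ : ∀ (H : Type u) [Group H] [Finite H], IsSec G H → Constrained p H →
      ∀ T : Sylow p H, CentralFactor p W₂ (T : Subgroup H))
    (S : Sylow p G)
    (hfus : ∀ (D : Subgroup G) (g : G), D ≤ (S : Subgroup G) → cj g D ≤ (S : Subgroup G) →
      Fused ({W₁, W₂} : Set (∀ (Q : Type u) [Group Q], Subgroup Q)) (S : Subgroup G) D g)
    (hZ₁ : zOmega p (S : Subgroup G) ≤ Cfsg.inducedFunctor (G := G) W₁ (S : Subgroup G))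
    (hZ₂ : zOmega p (S : Subgroup G) ≤ Cfsg.inducedFunctor (G := G) W₂ (S : Subgroup G))
    (A : Subgroup G)
    (hA : A = Subgroup.closure (zConjugates p (S : Subgroup G) (Subgroup.normalizer
        ((Cfsg.inducedFunctor (G := G) W₁ (S : Subgroup G) : Subgroup G) : Set G)))) :
    A ≤ (S : Subgroup G) ∧ Cfsg.IsElementaryAbelian p A ∧
      Cfsg.IsStronglyClosed A (S : Subgroup G) ∧ Cfsg.ControlsStrongFusion p A := by
  set Z := zOmega p (S : Subgroup G)
  set X := Cfsg.inducedFunctor (G := G) W₁ (S : Subgroup G)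
  have hgX : ∀ y ∈ zConjugates p (S : Subgroup G) (Subgroup.normalizer (X : Set G)), y ∈ X := by
    rintro _ ⟨n, hn, z, hz, rfl⟩
    exact (Subgroup.mem_normalizer_iff.1 hn z).1 (hZ₁ hz)
  have hAS : A ≤ (S : Subgroup G) := hA ▸ (Subgroup.closure_le _).2 fun y hy =>
    inducedFunctor_le _ (hgX y hy)
  have hcomm : ∀ y ∈ zConjugates p (S : Subgroup G) (Subgroup.normalizer (X : Set G)),
      ∀ w ∈ zConjugates p (S : Subgroup G) (Subgroup.normalizer (X : Set G)), Commute y w := by
    rintro _ ⟨n, hn, z, hz, rfl⟩ w hw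
    have hw' : n⁻¹ * w * n ∈ (S : Subgroup G) := by
      have h1 := (Subgroup.mem_normalizer_iff.1 (inv_mem hn) w).1 (hgX w hw)
      rw [inv_inv] at h1
      exact inducedFunctor_le _ h1
    have h2 := Subgroup.mem_centralizer_iff.1 (zOmega_le_centralizer _ hz) _ hw'
    show n * z * n⁻¹ * w = w * (n * z * n⁻¹)
    calc n * z * n⁻¹ * w = n * (z * (n⁻¹ * w * n)) * n⁻¹ := by group
      _ = n * ((n⁻¹ * w * n) * z) * n⁻¹ := by rw [h2]
      _ = w * (n * z * n⁻¹) := by group
  have hAc : A ≤ Subgroup.centralizer (A : Set G) := by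
    rw [hA, Subgroup.closure_le]
    intro y hy
    have h1 : Subgroup.closure (zConjugates p (S : Subgroup G) (Subgroup.normalizer (X : Set G))) ≤
        Subgroup.centralizer {y} := (Subgroup.closure_le _).2 fun w hw =>
      Subgroup.mem_centralizer_singleton_iff.2 (hcomm w hw y hy)
    exact Subgroup.mem_centralizer_iff.2 fun w hw =>
      Subgroup.mem_centralizer_singleton_iff.1 (h1 hw)
  have hpow : ∀ a ∈ A, a ^ p = 1 := by
    intro a ha
    refine (?_ : a ∈ A ∧ a ^ p = 1).2
    rw [hA] at ha ⊢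
    induction ha using Subgroup.closure_induction with
    | mem y hy =>
      obtain ⟨n, hn, z, hz, rfl⟩ := hy
      refine ⟨Subgroup.subset_closure ⟨n, hn, z, hz, rfl⟩, ?_⟩
      rw [conj_pow, pow_eq_one_of_mem_zOmega hz, mul_one, mul_inv_cancel]
    | one => exact ⟨one_mem _, one_pow p⟩
    | mul x y _ _ hx hy =>
      have hc : Commute x y := by
        have := hA ▸ hAc
        exact Subgroup.mem_centralizer_iff.1 (this hy.1) x hx.1
      exact ⟨mul_mem hx.1 hy.1, by rw [hc.mul_pow, hx.2, hy.2, one_mul]⟩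
    | inv x _ hx => exact ⟨inv_mem hx.1, by rw [inv_pow, hx.2, inv_one]⟩
  have hsym : zConjugates p (S : Subgroup G) (Subgroup.normalizer (X : Set G)) =
      zConjugates p (S : Subgroup G) (Subgroup.normalizer
        ((Cfsg.inducedFunctor (G := G) W₂ (S : Subgroup G) : Subgroup G) : Set G)) :=
    Set.Subset.antisymm (zConjugates_subset hW₂ hW₁ hin₂ S hZ₁)
      (zConjugates_subset hW₁ hW₂ hin₁ S hZ₂)
  have hnormal : ∀ N : Subgroup G, A = Subgroup.closure (zConjugates p (S : Subgroup G) N) →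
      N ≤ Subgroup.normalizer (A : Set G) := by
    intro N hAN x hx
    have key : ∀ y ∈ N, cj y A ≤ A := by
      intro y hy
      show A.map _ ≤ A
      rw [hAN, MonoidHom.map_closure, Subgroup.closure_le]
      rintro _ ⟨_, ⟨n, hn, z, hz, rfl⟩, rfl⟩
      refine Subgroup.subset_closure ⟨y * n, mul_mem hy hn, z, hz, ?_⟩
      show y * (n * z * n⁻¹) * y⁻¹ = y * n * z * (y * n)⁻¹
      group
    refine cj_eq_self_iff.1 (le_antisymm (key x hx) ?_)
    have := key x⁻¹ (inv_mem hx)
    rwa [cj_le_iff, inv_inv] at this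
  have hN₁ := hnormal _ hA
  have hN₂ := hnormal _ (hA.trans (congrArg Subgroup.closure hsym))
  have hagree : ∀ (D : Subgroup G) (g : G), D ≤ (S : Subgroup G) → cj g D ≤ (S : Subgroup G) →
      ∃ x ∈ Subgroup.normalizer (A : Set G), ∀ a ∈ D, g * a * g⁻¹ = x * a * x⁻¹ := by
    intro D g hD hgD
    obtain ⟨y, hr, hag⟩ := hfus D g hD hgD
    refine ⟨y, ?_, fun a ha => (hag a ha).symm⟩
    clear hag hD hgD
    induction hr with
    | refl _ => exact one_mem _
    | step hx _ _ ih =>
      obtain ⟨_, ⟨V, hV, rfl⟩, hxN⟩ := hx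
      rcases hV with hV | hV
      · subst hV; exact mul_mem ih (hN₁ hxN)
      · rw [Set.mem_singleton_iff] at hV; subst hV; exact mul_mem ih (hN₂ hxN)
  refine ⟨hAS, ⟨Subgroup.le_centralizer_iff_isMulCommutative.1 hAc, hpow⟩,
    ⟨hAS, fun x hx g hgx => ?_⟩, S, hAS, fun B hB => ⟨hB, fun g hg => ?_⟩⟩
  · obtain ⟨y, hy, hag⟩ := hagree (Subgroup.zpowers x) g (Subgroup.zpowers_le.2 (hAS hx)) (by
      show (Subgroup.zpowers x).map _ ≤ _
      rw [MonoidHom.map_zpowers, Subgroup.zpowers_le]; exact hgx)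
    rw [hag x (Subgroup.mem_zpowers x)]
    exact (Subgroup.mem_normalizer_iff.1 hy x).1 hx
  · obtain ⟨y, hy, hag⟩ :=
      hagree (Subgroup.closure B) g ((Subgroup.closure_le _).2 hB) (image_subset_iff.1 hg)
    exact ⟨y, hy, fun a ha => hag a (Subgroup.subset_closure ha)⟩

end CfsgLib.ConjFunctor
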