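import Cfsg.Agent.Lib.ConjFunctor.Reach

/-!
# Local-to-global control of strong fusion by conjugacy functors
-/

set_option autoImplicit false

namespace CfsgLib.ConjFunctor

variable {G : Type*} [Group G] [Finite G] {p : ℕ} [Fact p.Prime]

/-- Some element of `M` induces the conjugation by `g` on `D`. -/
def AgreeIn (M D : Subgroup G) (g : G) : Prop :=
  ∃ y ∈ M, ∀ a ∈ D, y * a * y⁻¹ = g * a * g⁻¹

omit [Finite G] in
theorem AgreeIn.mono {M D D' : Subgroup G} {g : G} (hle : D' ≤ D) (h : AgreeIn M D g) :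
    AgreeIn M D' g := by
  obtain ⟨y, hy, hag⟩ := h
  exact ⟨y, hy, fun a ha => hag a (hle ha)⟩

omit [Finite G] in
theorem AgreeIn.comp {M D : Subgroup G} {g h : G} (h₁ : AgreeIn M D g)
    (h₂ : AgreeIn M (cj g D) h) : AgreeIn M D (h * g) := by
  obtain ⟨y, hy, hag⟩ := h₁
  obtain ⟨z, hz, hag'⟩ := h₂
  refine ⟨z * y, mul_mem hz hy, fun a ha => ?_⟩
  have := hag' _ (conj_mem_cj (g := g) ha)
  rw [← hag a ha] at this
  calc z * y * a * (z * y)⁻¹ = z * (y * a * y⁻¹) * z⁻¹ := by simp [mul_assoc]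
    _ = h * (y * a * y⁻¹) * h⁻¹ := this
    _ = h * g * a * (h * g)⁻¹ := by rw [hag a ha]; simp [mul_assoc]

omit [Finite G] in
theorem AgreeIn.symm {M D : Subgroup G} {g : G} (h : AgreeIn M D g) :
    AgreeIn M (cj g D) g⁻¹ := by
  obtain ⟨y, hy, hag⟩ := h
  refine ⟨y⁻¹, inv_mem hy, fun b hb => ?_⟩
  rw [mem_cj] at hb
  have hb' : y * (g⁻¹ * b * g) * y⁻¹ = b := by simpa [mul_assoc] using hag _ hb
  calc y⁻¹ * b * y⁻¹⁻¹ = y⁻¹ * (y * (g⁻¹ * b * g) * y⁻¹) * y⁻¹⁻¹ := by rw [hb']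
    _ = g⁻¹ * b * g⁻¹⁻¹ := by simp [mul_assoc]

/-- Control of strong fusion in `H` can be read in any Sylow subgroup of `H`, on subgroups. -/
theorem agree_of_controls {W : Subgroup G → Subgroup G} {H : Subgroup G}
    (hW : Cfsg.IsConjugacyFunctor p W) (h : Cfsg.ControlsStrongFusionIn p W H)
    {T : Subgroup G} (hT : IsSyl p T H) {D : Subgroup G} {x : G} (hx : x ∈ H) (hD : D ≤ T)
    (hxD : cj x D ≤ T) :
    AgreeIn (H ⊓ Subgroup.normalizer ((W T : Subgroup G) : Set G)) D x := by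
  obtain ⟨T₀, hle, hP, hdvd, hctl⟩ := h
  obtain ⟨a, ha, rfl⟩ := (IsSyl.mk hle hP hdvd).exists_cj_eq hT
  have hD₀ : cj a⁻¹ D ≤ T₀ := by simpa [cj_inv_cj] using cj_mono (g := a⁻¹) hD
  have hxD₀ : cj (a⁻¹ * x * a) (cj a⁻¹ D) ≤ T₀ := by
    rw [← cj_mul, mul_assoc, mul_inv_cancel, mul_one, cj_mul]
    simpa [cj_inv_cj] using cj_mono (g := a⁻¹) hxD
  obtain ⟨y, hy, hag⟩ := hctl ((cj a⁻¹ D : Subgroup G) : Set G) (a⁻¹ * x * a)
    (mul_mem (mul_mem (inv_mem ha) hx) ha) hD₀
    (image_subset_iff.2 (by rw [Subgroup.closure_eq]; exact hxD₀))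
  refine ⟨a * y * a⁻¹, ?_, fun d hd => ?_⟩
  · rw [functor_cj hW hP, ← cj_normalizer]
    exact ⟨H.mul_mem (H.mul_mem ha hy.1) (H.inv_mem ha), conj_mem_cj hy.2⟩
  · have := hag _ (conj_mem_cj (g := a⁻¹) hd)
    rw [inv_inv] at this
    calc a * y * a⁻¹ * d * (a * y * a⁻¹)⁻¹ = a * (y * (a⁻¹ * d * a) * y⁻¹) * a⁻¹ := by
          simp [mul_assoc]
      _ = x * d * x⁻¹ := by rw [this]; simp [mul_assoc]

/-- From agreement on subgroups to the definition of control of strong fusion. -/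
theorem controls_of_agree {W : Subgroup G → Subgroup G} {H T : Subgroup G} (hT : IsSyl p T H)
    (h : ∀ (D : Subgroup G) (x : G), x ∈ H → D ≤ T → cj x D ≤ T →
      AgreeIn (H ⊓ Subgroup.normalizer ((W T : Subgroup G) : Set G)) D x) :
    Cfsg.ControlsStrongFusionIn p W H := by
  refine ⟨T, hT.le, hT.isPGroup, hT.not_dvd, fun A x hx hA hxA => ?_⟩
  obtain ⟨y, hy, hag⟩ := h (Subgroup.closure A) x hx ((Subgroup.closure_le _).2 hA)
    (image_subset_iff.1 hxA)
  exact ⟨y, hy, fun a ha => hag a (Subgroup.subset_closure ha)⟩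

/-- Climbing the tower of a well placed subgroup. -/
theorem agree_of_wellPlaced (S : Sylow p G) {W : Subgroup G → Subgroup G}
    (hW : Cfsg.IsConjugacyFunctor p W)
    (hloc : ∀ T : Subgroup G, T ≠ ⊥ → Cfsg.IsWellPlaced p W (S : Subgroup G) T →
      Cfsg.ControlsStrongFusionIn p W (Subgroup.normalizer (T : Set G))) :
    ∀ U : Subgroup G, Cfsg.IsWellPlaced p W (S : Subgroup G) U → U ≠ ⊥ →
      ∀ (D : Subgroup G) (n : G),
        D ≤ (S : Subgroup G) ⊓ Subgroup.normalizer (U : Set G) →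
        cj n D ≤ (S : Subgroup G) ⊓ Subgroup.normalizer (U : Set G) →
        n ∈ Subgroup.normalizer (U : Set G) →
        AgreeIn (Subgroup.normalizer ((W (S : Subgroup G) : Subgroup G) : Set G)) D n := by
  suffices H : ∀ (k : ℕ) (U : Subgroup G),
      Nat.card G - Nat.card ↥((S : Subgroup G) ⊓ Subgroup.normalizer (U : Set G)) ≤ k →
      Cfsg.IsWellPlaced p W (S : Subgroup G) U → U ≠ ⊥ → ∀ (D : Subgroup G) (n : G),
        D ≤ (S : Subgroup G) ⊓ Subgroup.normalizer (U : Set G) →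
        cj n D ≤ (S : Subgroup G) ⊓ Subgroup.normalizer (U : Set G) →
        n ∈ Subgroup.normalizer (U : Set G) →
        AgreeIn (Subgroup.normalizer ((W (S : Subgroup G) : Subgroup G) : Set G)) D n from
    fun U => H _ U le_rfl
  intro k
  induction k using Nat.strong_induction_on with
  | _ k ih =>
    intro U hk hU hne D n hD hnD hn
    have hS := S.isPGroup'
    have hfn := IsWellPlaced.fullyNorm hS hU
    obtain ⟨y, hy, hag⟩ := agree_of_controls hW (hloc U hne hU) hfn.2 hn hD hnD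
    rcases eq_or_lt_of_le (inf_le_left :
      (S : Subgroup G) ⊓ Subgroup.normalizer (U : Set G) ≤ S) with heq | hlt
    · exact ⟨y, by have h2 := hy.2; rwa [heq] at h2, hag⟩
    · have hlt' := inf_normalizer_lt_functor hW hS hlt
      have hU1 : Cfsg.IsWellPlaced p W (S : Subgroup G)
          (W ((S : Subgroup G) ⊓ Subgroup.normalizer (U : Set G))) :=
        IsWellPlaced.tower hW hS hU 1
      have hne1 : W ((S : Subgroup G) ⊓ Subgroup.normalizer (U : Set G)) ≠ ⊥ :=
        (hW _ (hS.to_le inf_le_left)).2.1 fun h => hne (le_bot_iff.1 (hfn.self_le.trans h.le))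
      have hcard : Nat.card ↥((S : Subgroup G) ⊓ Subgroup.normalizer (U : Set G)) <
          Nat.card ↥((S : Subgroup G) ⊓ Subgroup.normalizer
            ((W ((S : Subgroup G) ⊓ Subgroup.normalizer (U : Set G)) : Subgroup G) : Set G)) :=
        (Subgroup.card_le_of_le hlt'.le).lt_of_ne fun h =>
          hlt'.ne (Subgroup.eq_of_le_of_card_ge hlt'.le h.ge)
      have hG : Nat.card ↥((S : Subgroup G) ⊓ Subgroup.normalizer
            ((W ((S : Subgroup G) ⊓ Subgroup.normalizer (U : Set G)) : Subgroup G) : Set G)) ≤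
          Nat.card G := Subgroup.card_le_card_group _
      obtain ⟨z, hz, hag'⟩ := ih _ (by omega) _ le_rfl hU1 hne1 D y (hD.trans hlt'.le)
        (by rw [cj_congr hag]; exact hnD.trans hlt'.le) hy.2
      exact ⟨z, hz, fun a ha => (hag' a ha).trans (hag a ha)⟩

/-- Control of strong fusion is local: it suffices to have it in the normalizers of well placed
subgroups. -/
theorem agree_local_to_global (S : Sylow p G) {W : Subgroup G → Subgroup G}
    (hW : Cfsg.IsConjugacyFunctor p W)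
    (hloc : ∀ T : Subgroup G, T ≠ ⊥ → Cfsg.IsWellPlaced p W (S : Subgroup G) T →
      Cfsg.ControlsStrongFusionIn p W (Subgroup.normalizer (T : Set G))) :
    ∀ (D : Subgroup G) (g : G), D ≤ (S : Subgroup G) → cj g D ≤ (S : Subgroup G) →
      AgreeIn (Subgroup.normalizer ((W (S : Subgroup G) : Subgroup G) : Set G)) D g := by
  refine alperin_induction S _ (exists_rep_wellPlaced S hW) _
    (fun _ _ _ hle _ _ h => h.mono hle) (fun _ _ _ _ _ _ => AgreeIn.comp)
    (fun _ _ _ _ => AgreeIn.symm) (fun U hU hfn D n hD hn => ?_)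
  rcases eq_or_ne U ⊥ with rfl | hne
  · refine ⟨1, one_mem _, fun a ha => ?_⟩
    rw [Subgroup.mem_bot.1 (hD ha)]
    simp
  · exact agree_of_wellPlaced S hW hloc U hU hne D n (hD.trans hfn.self_le)
      ((cj_mono hD).trans ((cj_eq_self_iff.2 hn).le.trans hfn.self_le)) hn

theorem controlsStrongFusionIn_of_local (S : Sylow p G) {W : Subgroup G → Subgroup G}
    (hW : Cfsg.IsConjugacyFunctor p W)
    (hloc : ∀ T : Subgroup G, T ≠ ⊥ → Cfsg.IsWellPlaced p W (S : Subgroup G) T →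
      Cfsg.ControlsStrongFusionIn p W (Subgroup.normalizer (T : Set G))) :
    Cfsg.ControlsStrongFusionIn p W ⊤ :=
  controls_of_agree (isSyl_top S) fun D x _ hD hx => by
    rw [top_inf_eq]; exact agree_local_to_global S hW hloc D x hD hx

/-! ### Families of functors -/

/-- The elementary moves of a family of functors at `S`. -/
def functorOk (𝓦 : Set (Subgroup G → Subgroup G)) (S : Subgroup G) (_D : Subgroup G) (x : G) :
    Prop :=
  ∃ W ∈ 𝓦, x ∈ Subgroup.normalizer ((W S : Subgroup G) : Set G)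

/-- A chain for the moves of the family inducing `g` on `D`. -/
def Chained (𝓦 : Set (Subgroup G → Subgroup G)) (S D : Subgroup G) (g : G) : Prop :=
  ∃ g', Reach S (functorOk 𝓦 S) D g' ∧ ∀ a ∈ D, g' * a * g'⁻¹ = g * a * g⁻¹

omit [Finite G] in
theorem Chained.mono {𝓦 : Set (Subgroup G → Subgroup G)} {S D D' : Subgroup G} {g : G}
    (hle : D' ≤ D) (h : Chained 𝓦 S D g) : Chained 𝓦 S D' g := by
  obtain ⟨g', hr, hag⟩ := h
  exact ⟨g', hr.mono (fun _ _ _ _ h => h) _ hle, fun a ha => hag a (hle ha)⟩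

omit [Finite G] in
theorem Chained.comp {𝓦 : Set (Subgroup G → Subgroup G)} {S D : Subgroup G} {g h : G}
    (h₁ : Chained 𝓦 S D g) (h₂ : Chained 𝓦 S (cj g D) h) : Chained 𝓦 S D (h * g) := by
  obtain ⟨g', hr, hag⟩ := h₁
  obtain ⟨h', hr', hag'⟩ := h₂
  refine ⟨h' * g', hr.trans (by rw [cj_congr hag]; exact hr'), fun a ha => ?_⟩
  calc h' * g' * a * (h' * g')⁻¹ = h' * (g' * a * g'⁻¹) * h'⁻¹ := by simp [mul_assoc]
    _ = h' * (g * a * g⁻¹) * h'⁻¹ := by rw [hag a ha]
    _ = h * (g * a * g⁻¹) * h⁻¹ := hag' _ (conj_mem_cj ha)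
    _ = h * g * a * (h * g)⁻¹ := by simp [mul_assoc]

omit [Finite G] in
theorem Chained.symm {𝓦 : Set (Subgroup G → Subgroup G)} {S D : Subgroup G} {g : G}
    (h : Chained 𝓦 S D g) : Chained 𝓦 S (cj g D) g⁻¹ := by
  obtain ⟨g', hr, hag⟩ := h
  refine ⟨g'⁻¹, ?_, fun b hb => ?_⟩
  · rw [← cj_congr hag]
    exact hr.symm fun _ x ⟨W, hW, hx⟩ => ⟨W, hW, inv_mem hx⟩
  · rw [mem_cj] at hb
    have hb' : g' * (g⁻¹ * b * g) * g'⁻¹ = b := by simpa [mul_assoc] using hag _ hb
    calc g'⁻¹ * b * g'⁻¹⁻¹ = g'⁻¹ * (g' * (g⁻¹ * b * g) * g'⁻¹) * g'⁻¹⁻¹ := by rw [hb']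
      _ = g⁻¹ * b * g⁻¹⁻¹ := by simp [mul_assoc]

/-- Control by a family in `H` can be read in any Sylow subgroup of `H`. -/
theorem reach_of_familyControls {𝓦 : Set (Subgroup G → Subgroup G)} {H : Subgroup G}
    (h𝓦 : ∀ W ∈ 𝓦, Cfsg.IsConjugacyFunctor p W)
    (h : Cfsg.FamilyControlsStrongFusionIn p 𝓦 H) {T : Subgroup G} (hT : IsSyl p T H)
    {D : Subgroup G} {x : G} (hx : x ∈ H) (hD : D ≤ T) (hxD : cj x D ≤ T) :
    ∃ x', Reach T (fun _ y => ∃ W ∈ 𝓦,
        y ∈ H ⊓ Subgroup.normalizer ((W T : Subgroup G) : Set G)) D x' ∧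
      ∀ a ∈ D, x' * a * x'⁻¹ = x * a * x⁻¹ := by
  obtain ⟨T₀, hle, hP, hdvd, hctl⟩ := h
  obtain ⟨a, ha, rfl⟩ := (IsSyl.mk hle hP hdvd).exists_cj_eq hT
  have hD₀ : cj a⁻¹ D ≤ T₀ := by simpa [cj_inv_cj] using cj_mono (g := a⁻¹) hD
  have hxD₀ : cj (a⁻¹ * x * a) (cj a⁻¹ D) ≤ T₀ := by
    rw [← cj_mul, mul_assoc, mul_inv_cancel, mul_one, cj_mul]
    simpa [cj_inv_cj] using cj_mono (g := a⁻¹) hxD
  obtain ⟨n, c, hc0, hstep, himg, hag⟩ := hctl ((cj a⁻¹ D : Subgroup G) : Set G) (a⁻¹ * x * a)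
    (mul_mem (mul_mem (inv_mem ha) hx) ha) hD₀
    (image_subset_iff.2 (by rw [Subgroup.closure_eq]; exact hxD₀))
  have himg' : ∀ i, cj (a * c i * a⁻¹) D ≤ cj a T₀ := fun i => by
    rw [mul_assoc, cj_mul, cj_mul]
    refine cj_mono ?_
    have := image_subset_iff.1 (himg i)
    rwa [Subgroup.closure_eq] at this
  refine ⟨a * c (Fin.last n) * a⁻¹, ?_, fun d hd => ?_⟩
  · have key : ∀ i : Fin (n + 1), Reach (cj a T₀) (fun _ y => ∃ W ∈ 𝓦,
        y ∈ H ⊓ Subgroup.normalizer ((W (cj a T₀) : Subgroup G) : Set G)) D (a * c i * a⁻¹) := by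
      intro i
      induction i using Fin.induction with
      | zero => rw [hc0, mul_one, mul_inv_cancel]; exact .refl hD
      | succ i ih =>
        obtain ⟨W, hW, hy⟩ := hstep i
        have hy' : a * (c i.succ * (c i.castSucc)⁻¹) * a⁻¹ ∈
            H ⊓ Subgroup.normalizer ((W (cj a T₀) : Subgroup G) : Set G) := by
          rw [functor_cj (h𝓦 W hW) hP, ← cj_normalizer]
          exact ⟨H.mul_mem (H.mul_mem ha hy.1) (H.inv_mem ha), conj_mem_cj hy.2⟩
        have hmul : a * (c i.succ * (c i.castSucc)⁻¹) * a⁻¹ * (a * c i.castSucc * a⁻¹) =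
            a * c i.succ * a⁻¹ := by simp [mul_assoc]
        rw [← hmul]
        exact ih.trans (Reach.single ⟨W, hW, hy'⟩ (himg' _)
          (by rw [← cj_mul, hmul]; exact himg' _))
    exact key _
  · have := hag _ (conj_mem_cj (g := a⁻¹) hd)
    rw [inv_inv] at this
    calc a * c (Fin.last n) * a⁻¹ * d * (a * c (Fin.last n) * a⁻¹)⁻¹ =
          a * (c (Fin.last n) * (a⁻¹ * d * a) * (c (Fin.last n))⁻¹) * a⁻¹ := by simp [mul_assoc]
      _ = x * d * x⁻¹ := by rw [this]; simp [mul_assoc]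

/-- The chains of the family reach all fusion of `S`. -/
theorem chained_local_to_global (S : Sylow p G) (𝓦 : Set (Subgroup G → Subgroup G))
    (h𝓦 : ∀ W ∈ 𝓦, Cfsg.IsConjugacyFunctor p W)
    (hloc : ∀ T : Subgroup G, T ≠ ⊥ → FullyNorm p (S : Subgroup G) T →
      Cfsg.FamilyControlsStrongFusionIn p 𝓦 (Subgroup.normalizer (T : Set G))) :
    ∀ (D : Subgroup G) (g : G), D ≤ (S : Subgroup G) → cj g D ≤ (S : Subgroup G) →
      Chained 𝓦 (S : Subgroup G) D g := by
  have hS := S.isPGroup'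
  have hbot : ∀ (U D : Subgroup G) (n : G), U = ⊥ → D ≤ U → D ≤ (S : Subgroup G) →
      Chained 𝓦 (S : Subgroup G) D n := by
    rintro U D n rfl hD hDS
    refine ⟨1, .refl hDS, fun a ha => ?_⟩
    rw [Subgroup.mem_bot.1 (hD ha)]
    simp
  have hstep : ∀ (k : ℕ) (U : Subgroup G),
      Nat.card G - Nat.card ↥((S : Subgroup G) ⊓ Subgroup.normalizer (U : Set G)) ≤ k →
      FullyNorm p (S : Subgroup G) U → U ≠ ⊥ → ∀ (D : Subgroup G) (n : G),
        D ≤ (S : Subgroup G) ⊓ Subgroup.normalizer (U : Set G) →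
        cj n D ≤ (S : Subgroup G) ⊓ Subgroup.normalizer (U : Set G) →
        n ∈ Subgroup.normalizer (U : Set G) → Chained 𝓦 (S : Subgroup G) D n := by
    intro k
    induction k using Nat.strong_induction_on with
    | _ k ih =>
      intro U hk hfn hne D n hD hnD hn
      obtain ⟨x', hr, hag⟩ := reach_of_familyControls h𝓦 (hloc U hne hfn) hfn.2 hn hD hnD
      suffices hgood : Chained 𝓦 (S : Subgroup G) D x' by
        obtain ⟨y, hy, hag'⟩ := hgood
        exact ⟨y, hy, fun a ha => (hag' a ha).trans (hag a ha)⟩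
      clear hag hnD hn
      induction hr with
      | refl hDR => exact ⟨1, .refl (hDR.trans inf_le_left), fun _ _ => rfl⟩
      | @step D y g hy hDR hr ihr =>
        refine Chained.comp ?_ (ihr hr.le)
        obtain ⟨W, hW, -, hyW⟩ := hy
        have hyD : cj y D ≤ (S : Subgroup G) ⊓ Subgroup.normalizer (U : Set G) := hr.le
        rcases eq_or_lt_of_le (inf_le_left :
          (S : Subgroup G) ⊓ Subgroup.normalizer (U : Set G) ≤ S) with heq | hlt
        · exact ⟨y, Reach.single ⟨W, hW, by rwa [heq] at hyW⟩ (hDR.trans inf_le_left)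
            (hyD.trans inf_le_left), fun _ _ => rfl⟩
        have hW' := h𝓦 W hW
        have hlt' := inf_normalizer_lt_functor hW' hS hlt
        set R := (S : Subgroup G) ⊓ Subgroup.normalizer (U : Set G) with hR
        set R1 := (S : Subgroup G) ⊓ Subgroup.normalizer ((W R : Subgroup G) : Set G) with hR1
        have hRne : R ≠ ⊥ := fun h => hne (le_bot_iff.1 (hfn.self_le.trans h.le))
        obtain ⟨b, hb, hbfn⟩ := exists_fullyNorm_cj S (D := W R)
          ((functor_le hW' (hS.to_le inf_le_left)).trans inf_le_left)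
        have hcard : Nat.card ↥R < Nat.card ↥R1 :=
          (Subgroup.card_le_of_le hlt'.le).lt_of_ne fun h =>
            hlt'.ne (Subgroup.eq_of_le_of_card_ge hlt'.le h.ge)
        have hbig : ∀ (E : Subgroup G) (g : G), E ≤ (S : Subgroup G) → cj g E ≤ (S : Subgroup G) →
            Nat.card ↥R < Nat.card ↥E → Chained 𝓦 (S : Subgroup G) E g := by
          intro E g hE hgE hlt
          refine alperin_induction S _ (exists_rep_fullyNorm S)
            (fun E g => Nat.card ↥R < Nat.card ↥E → Chained 𝓦 (S : Subgroup G) E g)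
            (fun _ _ _ hle _ _ h hlt => (h (hlt.trans_le (Subgroup.card_le_of_le hle))).mono hle)
            (fun E g h _ _ _ h₁ h₂ hlt => (h₁ hlt).comp (h₂ (by rwa [card_cj])))
            (fun E g _ _ h hlt => (h (by rwa [card_cj] at hlt)).symm)
            (fun V hV hVfn E m hEV hm hlt => ?_) E g hE hgE hlt
          rcases eq_or_ne V ⊥ with hV0 | hV0
          · exact hbot V E m hV0 hEV (hEV.trans hVfn.1)
          have h1 := Subgroup.card_le_of_le (hEV.trans hVfn.self_le)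
          have h2 : Nat.card ↥((S : Subgroup G) ⊓ Subgroup.normalizer (V : Set G)) ≤ Nat.card G :=
            Subgroup.card_le_card_group _
          exact ih _ (by omega) V le_rfl hVfn hV0 E m (hEV.trans hVfn.self_le)
            ((cj_mono hEV).trans ((cj_eq_self_iff.2 hm).le.trans hVfn.self_le)) hm
        have hbR1 : cj b R1 ≤ (S : Subgroup G) ⊓
            Subgroup.normalizer ((cj b (W R) : Subgroup G) : Set G) := by
          rw [← cj_normalizer]; exact le_inf hb (cj_mono inf_le_right)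
        have hVne : cj b (W R) ≠ ⊥ := fun h =>
          (hW' _ (hS.to_le inf_le_left)).2.1 hRne (cj_eq_bot_iff.1 h)
        have hcard' : Nat.card ↥R < Nat.card ↥((S : Subgroup G) ⊓
            Subgroup.normalizer ((cj b (W R) : Subgroup G) : Set G)) :=
          lt_of_lt_of_le (by rwa [card_cj]) (Subgroup.card_le_of_le hbR1)
        have hG : Nat.card ↥((S : Subgroup G) ⊓
            Subgroup.normalizer ((cj b (W R) : Subgroup G) : Set G)) ≤ Nat.card G :=
          Subgroup.card_le_card_group _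
        have e1 : cj (b * y * b⁻¹) (cj b D) = cj b (cj y D) := by
          rw [← cj_mul, inv_mul_cancel_right, cj_mul]
        have hmid : Chained 𝓦 (S : Subgroup G) (cj b D) (b * y * b⁻¹) := by
          refine ih _ (by omega) _ le_rfl hbfn hVne (cj b D) (b * y * b⁻¹)
            ((cj_mono (hDR.trans hlt'.le)).trans hbR1) ?_ ?_
          · rw [e1]; exact (cj_mono (hyD.trans hlt'.le)).trans hbR1
          · rw [← cj_normalizer]; exact conj_mem_cj hyW
        have hgb : Chained 𝓦 (S : Subgroup G) R1 b := hbig R1 b inf_le_left hb hcard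
        have hgo := ((hgb.mono (hDR.trans hlt'.le)).comp hmid).comp
          (h := b⁻¹) (by
            rw [inv_mul_cancel_right, cj_mul]
            exact (hgb.mono (hyD.trans hlt'.le)).symm)
        rwa [inv_mul_cancel_right, inv_mul_cancel_left] at hgo
  intro D g hD hg
  refine alperin_induction S _ (exists_rep_fullyNorm S) (fun D g => Chained 𝓦 (S : Subgroup G) D g)
    (fun _ _ _ hle _ _ h => h.mono hle) (fun _ _ _ _ _ _ => Chained.comp)
    (fun _ _ _ _ => Chained.symm) (fun U hU hfn D n hD hn => ?_) D g hD hg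
  rcases eq_or_ne U ⊥ with h0 | h0
  · exact hbot U D n h0 hD (hD.trans hfn.1)
  · exact hstep _ U le_rfl hfn h0 D n (hD.trans hfn.self_le)
      ((cj_mono hD).trans ((cj_eq_self_iff.2 hn).le.trans hfn.self_le)) hn

theorem familyControls_of_local (S : Sylow p G) (𝓦 : Set (Subgroup G → Subgroup G))
    (h𝓦 : ∀ W ∈ 𝓦, Cfsg.IsConjugacyFunctor p W)
    (hloc : ∀ T : Subgroup G, T ≠ ⊥ → FullyNorm p (S : Subgroup G) T →
      Cfsg.FamilyControlsStrongFusionIn p 𝓦 (Subgroup.normalizer (T : Set G))) :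
    Cfsg.FamilyControlsStrongFusionIn p 𝓦 ⊤ := by
  refine ⟨S, le_top, S.isPGroup', (isSyl_top S).not_dvd, fun A h _ hA hh => ?_⟩
  obtain ⟨g, hr, hag⟩ := chained_local_to_global S 𝓦 h𝓦 hloc (Subgroup.closure A) h
    ((Subgroup.closure_le _).2 hA) (image_subset_iff.1 hh)
  obtain ⟨n, c, hc0, hstep, himg, hlast⟩ := hr.exists_seq
  refine ⟨n, c, hc0, fun i => ?_, fun i => image_subset_iff.2 (himg i), fun a ha => ?_⟩
  · obtain ⟨W, hW, hx⟩ := hstep i
    exact ⟨W, hW, Subgroup.mem_top _, hx⟩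
  · rw [hlast]; exact hag a (Subgroup.subset_closure ha)

end CfsgLib.ConjFunctor
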