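import Cfsg.Agent.Lib.ConjFunctor.CentralLocal
import Cfsg.Agent.Lib.ConjFunctor.Fusion

/-!
# Fusion by moves normalizing `W(S)` or centralizing `V(S)`
-/

set_option autoImplicit false
set_option linter.style.haveILetI false

namespace CfsgLib.ConjFunctor

variable {G : Type*} [Group G]

/-- `g` agrees on `D` with a chain of moves in `𝒳`, all intermediate images in `S`. -/
def Linked (𝒳 : Set G) (S D : Subgroup G) (g : G) : Prop :=
  ∃ g', Reach S (fun _ x => x ∈ 𝒳) D g' ∧ ∀ a ∈ D, g' * a * g'⁻¹ = g * a * g⁻¹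

variable {𝒳 : Set G} {S D : Subgroup G}

theorem Linked.mono {D' : Subgroup G} {g : G} (hle : D' ≤ D) (h : Linked 𝒳 S D g) :
    Linked 𝒳 S D' g := by
  obtain ⟨g', hr, hag⟩ := h
  exact ⟨g', hr.mono (fun _ _ _ _ h => h) _ hle, fun a ha => hag a (hle ha)⟩

theorem Linked.comp {g h : G} (h₁ : Linked 𝒳 S D g) (h₂ : Linked 𝒳 S (cj g D) h) :
    Linked 𝒳 S D (h * g) := by
  obtain ⟨g', hr, hag⟩ := h₁
  obtain ⟨h', hr', hag'⟩ := h₂
  refine ⟨h' * g', hr.trans (by rw [cj_congr hag]; exact hr'), fun a ha => ?_⟩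
  calc h' * g' * a * (h' * g')⁻¹ = h' * (g' * a * g'⁻¹) * h'⁻¹ := by simp [mul_assoc]
    _ = h' * (g * a * g⁻¹) * h'⁻¹ := by rw [hag a ha]
    _ = h * (g * a * g⁻¹) * h⁻¹ := hag' _ (conj_mem_cj ha)
    _ = h * g * a * (h * g)⁻¹ := by simp [mul_assoc]

theorem Linked.symm (hinv : ∀ x ∈ 𝒳, x⁻¹ ∈ 𝒳) {g : G} (h : Linked 𝒳 S D g) :
    Linked 𝒳 S (cj g D) g⁻¹ := by
  obtain ⟨g', hr, hag⟩ := h
  refine ⟨g'⁻¹, ?_, fun b hb => ?_⟩
  · rw [← cj_congr hag]
    exact hr.symm fun _ x hx => hinv x hx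
  · rw [mem_cj] at hb
    have hb' : g' * (g⁻¹ * b * g) * g'⁻¹ = b := by simpa [mul_assoc] using hag _ hb
    calc g'⁻¹ * b * g'⁻¹⁻¹ = g'⁻¹ * (g' * (g⁻¹ * b * g) * g'⁻¹) * g'⁻¹⁻¹ := by rw [hb']
      _ = g⁻¹ * b * g⁻¹⁻¹ := by simp [mul_assoc]

theorem Linked.congr {g g' : G} (h : Linked 𝒳 S D g')
    (hag : ∀ a ∈ D, g' * a * g'⁻¹ = g * a * g⁻¹) : Linked 𝒳 S D g := by
  obtain ⟨y, hy, hy'⟩ := h
  exact ⟨y, hy, fun a ha => (hy' a ha).trans (hag a ha)⟩

theorem Linked.of_mem {g : G} (hg : g ∈ 𝒳) (hD : D ≤ S) (hgD : cj g D ≤ S) : Linked 𝒳 S D g :=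
  ⟨g, Reach.single hg hD hgD, fun _ _ => rfl⟩

/-- A list of right moves gives a chain. -/
theorem reach_of_list (hinv : ∀ x ∈ 𝒳, x⁻¹ ∈ 𝒳) :
    ∀ (l : List G) (D : Subgroup G), (∀ x ∈ l, x ∈ 𝒳) →
      (∀ k ≤ l.length, cj ((l.take k).prod)⁻¹ D ≤ S) → Reach S (fun _ x => x ∈ 𝒳) D l.prod⁻¹ := by
  intro l
  induction l with
  | nil =>
    intro D _ h
    have h0 := h 0 le_rfl
    simp only [List.take_nil, List.prod_nil, inv_one, cj_one] at h0
    simpa using Reach.refl (ok := fun _ x => x ∈ 𝒳) h0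
  | cons b l ih =>
    intro D hl h
    rw [List.prod_cons, mul_inv_rev]
    refine Reach.step (hinv b (hl b (List.mem_cons_self ..))) ?_ (ih _ (fun x hx =>
      hl x (List.mem_cons_of_mem _ hx)) fun k hk => ?_)
    · simpa [cj_one] using h 0 (Nat.zero_le _)
    · rw [← cj_mul, ← mul_inv_rev, ← List.prod_cons, ← List.take_succ_cons]
      exact h (k + 1) (by simpa using hk)

/-- A chain gives a list of right moves. -/
theorem list_of_reach (hinv : ∀ x ∈ 𝒳, x⁻¹ ∈ 𝒳) {g : G} (h : Reach S (fun _ x => x ∈ 𝒳) D g) :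
    ∃ l : List G, (∀ x ∈ l, x ∈ 𝒳) ∧ l.prod⁻¹ = g ∧
      ∀ k ≤ l.length, cj ((l.take k).prod)⁻¹ D ≤ S := by
  induction h with
  | refl hD => exact ⟨[], by simp, by simp, fun k _ => by simpa [cj_one] using hD⟩
  | @step D x g hx hD _ ih =>
    obtain ⟨l, hl, hprod, him⟩ := ih
    refine ⟨x⁻¹ :: l, ?_, ?_, ?_⟩
    · intro y hy
      rcases List.mem_cons.1 hy with rfl | hy
      · exact hinv x hx
      · exact hl y hy
    · rw [List.prod_cons, mul_inv_rev, hprod, inv_inv]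
    · intro k hk
      cases k with
      | zero => simpa [cj_one] using hD
      | succ k =>
        rw [List.take_succ_cons, List.prod_cons, mul_inv_rev, inv_inv, cj_mul]
        exact him k (by simpa using hk)

variable [Finite G] {p : ℕ} [Fact p.Prime] {W V : Subgroup G → Subgroup G}

/-- The local hypothesis at `H` for one Sylow subgroup of `N(H)`. -/
def LinkedIn (N R X : Subgroup G) : Prop :=
  ∀ (D : Subgroup G) (n : G), D ≤ R → n ∈ N → cj n D ≤ R → Linked (X : Set G) R D n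

/-- Fusion: the local chains give global ones. -/
theorem central_fusion (S : Sylow p G) (hdiv : p ∣ Nat.card G)
    (hW : Cfsg.IsConjugacyFunctor p W) (hV : Cfsg.IsConjugacyFunctor p V)
    (hWZ : ∀ H : Subgroup G, IsPGroup p ↥H → H ⊓ Subgroup.centralizer (H : Set G) ≤ W H)
    (hVmono : ∀ H K : Subgroup G, IsPGroup p ↥H → IsPGroup p ↥K → H ≠ ⊥ → K ≠ ⊥ →
      H ⊓ Subgroup.centralizer (H : Set G) ≤ K ⊓ Subgroup.centralizer (K : Set G) → V H ≤ V K)
    (hloc : ∀ H : Subgroup G,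
      (S : Subgroup G) ⊓ Subgroup.centralizer ((S : Subgroup G) : Set G) ≤ H →
      H ≤ (S : Subgroup G) → ∃ Q : Subgroup G, IsSyl p Q (Subgroup.normalizer (H : Set G)) ∧
        ∀ (D : Subgroup G) (n : G), D ≤ Q → n ∈ Subgroup.normalizer (H : Set G) → cj n D ≤ Q →
          Linked ({x | x ∈ Subgroup.normalizer (H : Set G) ⊓
                Subgroup.normalizer ((W Q : Subgroup G) : Set G) ∨
              x ∈ Subgroup.normalizer (H : Set G) ⊓
                Subgroup.centralizer ((V Q : Subgroup G) : Set G)}) Q D n) :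
    ∀ (D : Subgroup G) (g : G), D ≤ (S : Subgroup G) → cj g D ≤ (S : Subgroup G) →
      Linked ({x | x ∈ Subgroup.normalizer ((W (S : Subgroup G) : Subgroup G) : Set G) ∨
        x ∈ Subgroup.centralizer ((V (S : Subgroup G) : Subgroup G) : Set G)}) (S : Subgroup G) D g := by
  set 𝒳 : Set G := {x | x ∈ Subgroup.normalizer ((W (S : Subgroup G) : Subgroup G) : Set G) ∨
    x ∈ Subgroup.centralizer ((V (S : Subgroup G) : Subgroup G) : Set G)}
  have hinv : ∀ x ∈ 𝒳, x⁻¹ ∈ 𝒳 := fun x hx => hx.imp inv_mem inv_mem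
  refine central_induction S (Linked 𝒳 (S : Subgroup G)) (fun _ _ _ hle h => h.mono hle)
    (fun _ _ _ => Linked.comp) (fun _ _ h => h.symm hinv) (fun _ _ _ hag h => h.congr hag)
    (fun H => ∀ (D : Subgroup G) (n : G),
      D ≤ (S : Subgroup G) ⊓ Subgroup.normalizer (H : Set G) → n ∈ Subgroup.normalizer (H : Set G) →
      cj n D ≤ (S : Subgroup G) ⊓ Subgroup.normalizer (H : Set G) →
      Linked 𝒳 (S : Subgroup G) D n)
    (fun U hfn hgd D n hD hn => hgd D n (hD.trans hfn.self_le) hn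
      ((cj_mono hD).trans ((cj_eq_self_iff.2 hn).le.trans hfn.self_le)))
    fun H hfn hZH hall hbig hnext => ?_
  obtain ⟨Q, hQ, hdec⟩ := hloc H hZH hfn.1
  obtain ⟨a, ha, hQR⟩ := hQ.exists_cj_eq hfn.2
  set N := Subgroup.normalizer (H : Set G) with hN
  set R := (S : Subgroup G) ⊓ N with hR
  have hle := centralizer_functor_le S hdiv hVmono (R := R) inf_le_left
    (le_inf inf_le_left (hZH.trans Subgroup.le_normalizer))
  -- a local move
  have hmove : ∀ (D : Subgroup G) (y : G), D ≤ R → cj y D ≤ R →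
      (y ∈ N ⊓ Subgroup.normalizer ((W R : Subgroup G) : Set G) ∨
        y ∈ N ⊓ Subgroup.centralizer ((V R : Subgroup G) : Set G)) →
      Linked 𝒳 (S : Subgroup G) D y := by
    intro D y hD hyD hy
    have hRS : R ≤ (S : Subgroup G) := inf_le_left
    rcases hy with hy | hy
    swap
    · exact Linked.of_mem (Or.inr (hle hy.2)) (hD.trans hRS) (hyD.trans hRS)
    rcases eq_or_lt_of_le hRS with heq | hlt
    · refine Linked.of_mem (Or.inl ?_) (hD.trans hRS) (hyD.trans hRS)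
      have h2 := hy.2
      rwa [heq] at h2
    have hgrow := inf_normalizer_lt_functor hW S.isPGroup' hlt
    obtain ⟨b, hb, hbfn, hZ', hall', hmain⟩ := climb_step S hW hWZ hlt hall hgrow
    have hc := (Subgroup.card_le_of_le hgrow.le).lt_of_ne fun h =>
      hgrow.ne (Subgroup.eq_of_le_of_card_ge hgrow.le h.ge)
    have hgd := hnext _ hbfn hZ' hall'
      (lt_of_lt_of_le (by rwa [card_cj]) (Subgroup.card_le_of_le hmain))
    have hgb := hbig _ b inf_le_left hb hc
    have e1 : cj (b * y * b⁻¹) (cj b D) = cj b (cj y D) := by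
      rw [← cj_mul, inv_mul_cancel_right, cj_mul]
    have hmid : Linked 𝒳 (S : Subgroup G) (cj b D) (b * y * b⁻¹) := by
      refine hgd (cj b D) (b * y * b⁻¹) ((cj_mono (hD.trans hgrow.le)).trans hmain) ?_ ?_
      · rw [← cj_normalizer]; exact conj_mem_cj hy.2
      · rw [e1]; exact (cj_mono (hyD.trans hgrow.le)).trans hmain
    have hgo := ((hgb.mono (hD.trans hgrow.le)).comp hmid).comp
      (h := b⁻¹) (by
        rw [inv_mul_cancel_right, cj_mul]
        exact (hgb.mono (hyD.trans hgrow.le)).symm hinv)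
    rwa [inv_mul_cancel_right, inv_mul_cancel_left] at hgo
  intro D n hD hn hnD
  have hD' : cj a⁻¹ D ≤ Q := by rw [cj_le_iff, inv_inv, hQR]; exact hD
  have hnD' : cj (a⁻¹ * n * a) (cj a⁻¹ D) ≤ Q := by
    rw [← cj_mul, mul_inv_cancel_right, cj_mul, cj_le_iff, inv_inv, hQR]; exact hnD
  obtain ⟨g', hr, hag⟩ := hdec (cj a⁻¹ D) (a⁻¹ * n * a) hD'
    (mul_mem (mul_mem (inv_mem ha) hn) ha) hnD'
  have key : ∀ (E : Subgroup G) (g : G),
      Reach Q (fun _ x => x ∈ {x | x ∈ N ⊓ Subgroup.normalizer ((W Q : Subgroup G) : Set G) ∨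
        x ∈ N ⊓ Subgroup.centralizer ((V Q : Subgroup G) : Set G)}) E g →
      Linked 𝒳 (S : Subgroup G) (cj a E) (a * g * a⁻¹) := by
    intro E g hr
    induction hr with
    | @refl E hE =>
      rw [mul_one, mul_inv_cancel]
      refine ⟨1, .refl ?_, fun _ _ => rfl⟩
      exact ((cj_mono hE).trans hQR.le).trans inf_le_left
    | @step E x g hx hE hr ihr =>
      have e : a * (g * x) * a⁻¹ = (a * g * a⁻¹) * (a * x * a⁻¹) := by group
      have e2 : cj (a * x * a⁻¹) (cj a E) = cj a (cj x E) := by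
        rw [← cj_mul, inv_mul_cancel_right, cj_mul]
      rw [e]
      refine Linked.comp (hmove (cj a E) (a * x * a⁻¹) ((cj_mono hE).trans hQR.le)
        (by rw [e2]; exact (cj_mono hr.le).trans hQR.le) ?_) (by rw [e2]; exact ihr)
      rcases hx with hx | hx
      · left
        have h1 := conj_mem_cj (g := a) hx
        rwa [cj_inf, cj_eq_self_of_mem ha, cj_normalizer, ← functor_cj hW hQ.isPGroup, hQR] at h1
      · right
        have h1 := conj_mem_cj (g := a) hx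
        rwa [cj_inf, cj_eq_self_of_mem ha, map_centralizer_conj, ← functor_cj hV hQ.isPGroup,
          hQR] at h1
  have h1 := key _ _ hr
  rw [cj_cj_inv] at h1
  refine h1.congr fun d hd => ?_
  have h2 := hag (a⁻¹ * d * a) (by simpa using conj_mem_cj (g := a⁻¹) hd)
  calc a * g' * a⁻¹ * d * (a * g' * a⁻¹)⁻¹ = a * (g' * (a⁻¹ * d * a) * g'⁻¹) * a⁻¹ := by group
    _ = n * d * n⁻¹ := by rw [h2]; group

end CfsgLib.ConjFunctor
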