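import Cfsg.Agent.Lib.ConjFunctor.Transfer
import Cfsg.Agent.Lib.ConjFunctor.WeakClosure
import Cfsg.Agent.Lib.Solvable.CoprimeAction

/-!
# Local-to-global principles for a pair of functors around the centre of a Sylow subgroup
-/

set_option autoImplicit false
set_option linter.style.haveILetI false

namespace CfsgLib.ConjFunctor

open scoped commutatorElement

variable {G : Type*} [Group G] [Finite G] {p : ℕ} [Fact p.Prime]

/-- Every conjugate of `X` inside `S` contains `Z(S)`. -/
def AllZ (S X : Subgroup G) : Prop :=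
  ∀ g : G, cj g X ≤ S → S ⊓ Subgroup.centralizer (S : Set G) ≤ cj g X

omit [Finite G] in
theorem AllZ.mono {S X Y : Subgroup G} (h : AllZ S X) (hXY : X ≤ Y) : AllZ S Y := fun g hg =>
  (h g ((cj_mono hXY).trans hg)).trans (cj_mono hXY)

omit [Finite G] in
theorem AllZ.conj {S X : Subgroup G} (h : AllZ S X) (b : G) : AllZ S (cj b X) := fun g hg => by
  rw [← cj_mul] at hg ⊢
  exact h _ hg

theorem allZ_of_centric (S : Sylow p G) {U : Subgroup G} (hfn : FullyNorm p (S : Subgroup G) U)
    (hc : (S : Subgroup G) ⊓ Subgroup.centralizer (U : Set G) ≤ U) :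
    AllZ (S : Subgroup G) U := by
  intro g hg z hz
  have hzU' : z ∈ Subgroup.centralizer ((cj g U : Subgroup G) : Set G) :=
    Subgroup.centralizer_le hg hz.2
  set w := g⁻¹ * z * g with hw
  have hwC : w ∈ Subgroup.centralizer (U : Set G) := by
    refine Subgroup.mem_centralizer_iff.2 fun u hu => ?_
    have h1 := Subgroup.mem_centralizer_iff.1 hzU' _ (conj_mem_cj (g := g) hu)
    calc u * w = g⁻¹ * (g * u * g⁻¹ * z) * g := by rw [hw]; group
      _ = g⁻¹ * (z * (g * u * g⁻¹)) * g := by rw [h1]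
      _ = w * u := by rw [hw]; group
  have hwp : IsPGroup p ↥(Subgroup.zpowers w) := by
    have h2 : Subgroup.zpowers w = (Subgroup.zpowers z).map (MulAut.conj g⁻¹).toMonoidHom := by
      rw [MonoidHom.map_zpowers, hw]
      congr 1
      simp
    rw [h2]
    exact (S.isPGroup'.to_le (Subgroup.zpowers_le.2 hz.1)).map _
  obtain ⟨n, hn, hle⟩ := hfn.2.exists_cj_le hwp
    (Subgroup.zpowers_le.2 (Subgroup.centralizer_le_normalizer _ hwC))
  have h3 : n * w * n⁻¹ ∈ U := by
    refine hc ⟨(hle (conj_mem_cj (Subgroup.mem_zpowers w))).1, Subgroup.mem_centralizer_iff.2 ?_⟩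
    intro u hu
    have hu' : n⁻¹ * u * n ∈ U := by
      simpa using (Subgroup.mem_normalizer_iff.1 (inv_mem hn) u).1 hu
    calc u * (n * w * n⁻¹) = n * ((n⁻¹ * u * n) * w) * n⁻¹ := by group
      _ = n * (w * (n⁻¹ * u * n)) * n⁻¹ := by rw [Subgroup.mem_centralizer_iff.1 hwC _ hu']
      _ = n * w * n⁻¹ * u := by group
  exact mem_cj.2 ((Subgroup.mem_normalizer_iff.1 hn w).2 h3)

/-- The induction: a property of moves holds everywhere if it can be established for the moves in
the normalizers of subgroups between `Z(S)` and `S`, given it for moves of larger subgroups. -/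
theorem central_induction (S : Sylow p G) (Φ : Subgroup G → G → Prop)
    (hmono : ∀ (D D' : Subgroup G) (g : G), D' ≤ D → Φ D g → Φ D' g)
    (hcomp : ∀ (D : Subgroup G) (g h : G), Φ D g → Φ (cj g D) h → Φ D (h * g))
    (hinv : ∀ (D : Subgroup G) (g : G), Φ D g → Φ (cj g D) g⁻¹)
    (hcongr : ∀ (D : Subgroup G) (g g' : G), (∀ a ∈ D, g' * a * g'⁻¹ = g * a * g⁻¹) →
      Φ D g' → Φ D g)
    (Good : Subgroup G → Prop)
    (hgood : ∀ U : Subgroup G, FullyNorm p (S : Subgroup G) U → Good U →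
      ∀ (D : Subgroup G) (n : G), D ≤ U → n ∈ Subgroup.normalizer (U : Set G) → Φ D n)
    (hclimb : ∀ H : Subgroup G, FullyNorm p (S : Subgroup G) H →
      (S : Subgroup G) ⊓ Subgroup.centralizer (((S : Subgroup G) : Set G)) ≤ H →
      AllZ (S : Subgroup G) ((S : Subgroup G) ⊓ Subgroup.normalizer (H : Set G)) →
      (∀ (E : Subgroup G) (g : G), E ≤ (S : Subgroup G) → cj g E ≤ (S : Subgroup G) →
        Nat.card ↥((S : Subgroup G) ⊓ Subgroup.normalizer (H : Set G)) < Nat.card ↥E → Φ E g) →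
      (∀ H' : Subgroup G, FullyNorm p (S : Subgroup G) H' →
        (S : Subgroup G) ⊓ Subgroup.centralizer (((S : Subgroup G) : Set G)) ≤ H' →
        AllZ (S : Subgroup G) ((S : Subgroup G) ⊓ Subgroup.normalizer (H' : Set G)) →
        Nat.card ↥((S : Subgroup G) ⊓ Subgroup.normalizer (H : Set G)) <
          Nat.card ↥((S : Subgroup G) ⊓ Subgroup.normalizer (H' : Set G)) → Good H') →
      Good H) :
    ∀ (D : Subgroup G) (g : G), D ≤ (S : Subgroup G) → cj g D ≤ (S : Subgroup G) → Φ D g := by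
  suffices main : ∀ (k : ℕ) (E : Subgroup G) (g : G), Nat.card G - Nat.card ↥E ≤ k →
      E ≤ (S : Subgroup G) → cj g E ≤ (S : Subgroup G) → Φ E g from fun D g => main _ D g le_rfl
  intro k
  induction k using Nat.strong_induction_on with
  | _ k ih =>
    intro E₀ g₀ hk hE₀ hg₀
    have hbig : ∀ (E : Subgroup G) (g : G), E ≤ (S : Subgroup G) → cj g E ≤ (S : Subgroup G) →
        Nat.card ↥E₀ < Nat.card ↥E → Φ E g := by
      intro E g hE hg hlt
      have := Subgroup.card_le_card_group E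
      exact ih _ (by omega) E g le_rfl hE hg
    refine alperin_induction S _ (exists_rep_fullyNorm S)
      (fun E g => Nat.card ↥E₀ ≤ Nat.card ↥E → Φ E g)
      (fun _ _ _ hle _ _ h hc => hmono _ _ _ hle (h (hc.trans (Subgroup.card_le_of_le hle))))
      (fun E g h _ _ _ h₁ h₂ hc => hcomp _ _ _ (h₁ hc) (h₂ (by rwa [card_cj])))
      (fun E g _ _ h hc => hinv _ _ (h (by rwa [card_cj] at hc)))
      (fun U _ hfn E n hEU hn hc => hmono U E n hEU ?_) E₀ g₀ hE₀ hg₀ le_rfl
    have hcU : Nat.card ↥E₀ ≤ Nat.card ↥U := hc.trans (Subgroup.card_le_of_le hEU)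
    by_cases hcen : (S : Subgroup G) ⊓ Subgroup.centralizer (U : Set G) ≤ U
    · have hall := allZ_of_centric S hfn hcen
      refine hgood U hfn ?_ U n le_rfl hn
      suffices climb : ∀ (j : ℕ) (H : Subgroup G),
          Nat.card G - Nat.card ↥((S : Subgroup G) ⊓ Subgroup.normalizer (H : Set G)) ≤ j →
          Nat.card ↥E₀ ≤ Nat.card ↥((S : Subgroup G) ⊓ Subgroup.normalizer (H : Set G)) →
          FullyNorm p (S : Subgroup G) H →
          (S : Subgroup G) ⊓ Subgroup.centralizer (((S : Subgroup G) : Set G)) ≤ H →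
          AllZ (S : Subgroup G) ((S : Subgroup G) ⊓ Subgroup.normalizer (H : Set G)) → Good H from
        climb _ U le_rfl (hcU.trans (Subgroup.card_le_of_le hfn.self_le)) hfn
          (by simpa [cj_one] using hall 1 (by rw [cj_one]; exact hfn.1)) (hall.mono hfn.self_le)
      intro j
      induction j using Nat.strong_induction_on with
      | _ j ihj =>
        intro H hj hcH hHfn hZH hallH
        refine hclimb H hHfn hZH hallH (fun E g hE hg hlt => hbig E g hE hg (by omega))
          fun H' hfn' hZ' hall' hlt => ?_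
        have := Subgroup.card_le_card_group ((S : Subgroup G) ⊓ Subgroup.normalizer (H' : Set G))
        exact ihj _ (by omega) H' le_rfl (by omega) hfn' hZ' hall'
    · -- extend the move to `U C_S(U)`
      set N := Subgroup.normalizer (U : Set G) with hN
      set C := Subgroup.centralizer (U : Set G) with hC
      have hinvC : ∀ m ∈ N, ∀ c ∈ C, m * c * m⁻¹ ∈ C := by
        intro m hm c hcC
        refine Subgroup.mem_centralizer_iff.2 fun u hu => ?_
        have hu' : m⁻¹ * u * m ∈ U := by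
          simpa using (Subgroup.mem_normalizer_iff.1 (inv_mem hm) u).1 hu
        calc u * (m * c * m⁻¹) = m * ((m⁻¹ * u * m) * c) * m⁻¹ := by group
          _ = m * (c * (m⁻¹ * u * m)) * m⁻¹ := by rw [Subgroup.mem_centralizer_iff.1 hcC _ hu']
          _ = m * c * m⁻¹ * u := by group
      haveI : (C.subgroupOf N).Normal := ⟨fun c hcC m => hinvC m m.2 c hcC⟩
      obtain ⟨T, hT⟩ : ∃ T : Sylow p ↥N,
          (T : Subgroup ↥N) = ((S : Subgroup G) ⊓ N).subgroupOf N :=
        ⟨(hfn.2.isPGroup.comap_of_injective _ N.subtype_injective).toSylow hfn.2.not_dvd,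
          IsPGroup.toSylow_coe _ _⟩
      obtain ⟨c, hcC, hcn⟩ := frattini_argument T (C.subgroupOf N) ⟨n, hn⟩
      set m : G := (c : G) * n with hm
      have hmN : m ∈ N := mul_mem c.2 hn
      set X := U ⊔ ((S : Subgroup G) ⊓ C) with hX
      have hXS : X ≤ (S : Subgroup G) := sup_le hfn.1 inf_le_left
      have hUX : U < X := lt_of_le_of_ne le_sup_left fun h => hcen (h ▸ le_sup_right)
      have hmX : cj m X ≤ X := by
        show X.map _ ≤ X
        rw [hX, Subgroup.map_sup]
        refine sup_le_sup (cj_eq_self_iff.2 hmN).le ?_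
        rintro _ ⟨x, hx, rfl⟩
        have hxN : x ∈ N := Subgroup.centralizer_le_normalizer _ hx.2
        have h1 := (Subgroup.mem_normalizer_iff.1 hcn ⟨x, hxN⟩).1
          ⟨by rw [hT]; exact ⟨hx.1, hxN⟩, hx.2⟩
        rw [hT] at h1
        exact ⟨h1.1.1, h1.2⟩
      have hlt : Nat.card ↥U < Nat.card ↥X :=
        (Subgroup.card_le_of_le hUX.le).lt_of_ne fun h =>
          hUX.ne (Subgroup.eq_of_le_of_card_ge hUX.le h.ge)
      refine hcongr U n m (fun a ha => ?_)
        (hmono X U m hUX.le (hbig X m hXS (hmX.trans hXS) (by omega)))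
      have h2 : n * a * n⁻¹ ∈ U := (Subgroup.mem_normalizer_iff.1 hn a).1 ha
      have h3 : n * a * n⁻¹ * c = c * (n * a * n⁻¹) := Subgroup.mem_centralizer_iff.1 hcC _ h2
      rw [hm, mul_inv_rev]
      calc (c : G) * n * a * (n⁻¹ * (c : G)⁻¹) = (c : G) * (n * a * n⁻¹) * (c : G)⁻¹ := by group
        _ = n * a * n⁻¹ := by rw [← h3, mul_inv_cancel_right]

omit [Finite G] [Fact p.Prime] in
theorem map_centralizer_conj (a : G) (X : Subgroup G) :
    cj a (Subgroup.centralizer (X : Set G)) =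
      Subgroup.centralizer ((cj a X : Subgroup G) : Set G) := by
  ext y
  rw [mem_cj, Subgroup.mem_centralizer_iff, Subgroup.mem_centralizer_iff]
  constructor
  · rintro h _ ⟨x, hx, rfl⟩
    have h1 := h x hx
    show a * x * a⁻¹ * y = y * (a * x * a⁻¹)
    calc a * x * a⁻¹ * y = a * (x * (a⁻¹ * y * a)) * a⁻¹ := by group
      _ = a * ((a⁻¹ * y * a) * x) * a⁻¹ := by rw [h1]
      _ = y * (a * x * a⁻¹) := by group
  · intro h x hx
    have h1 := h _ (conj_mem_cj (g := a) hx)
    calc x * (a⁻¹ * y * a) = a⁻¹ * (a * x * a⁻¹ * y) * a := by group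
      _ = a⁻¹ * (y * (a * x * a⁻¹)) * a := by rw [h1]
      _ = a⁻¹ * y * a * x := by group

variable {W V : Subgroup G → Subgroup G}

/-- The step upwards in the climb. -/
theorem climb_step (S : Sylow p G) (hW : Cfsg.IsConjugacyFunctor p W)
    (hWZ : ∀ H : Subgroup G, IsPGroup p ↥H → H ⊓ Subgroup.centralizer (H : Set G) ≤ W H)
    {R : Subgroup G} (hR : R < (S : Subgroup G)) (hall : AllZ (S : Subgroup G) R)
    (hgrow : R < (S : Subgroup G) ⊓ Subgroup.normalizer ((W R : Subgroup G) : Set G)) :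
    ∃ b : G, cj b ((S : Subgroup G) ⊓ Subgroup.normalizer ((W R : Subgroup G) : Set G)) ≤
        (S : Subgroup G) ∧
      FullyNorm p (S : Subgroup G) (cj b (W R)) ∧
      (S : Subgroup G) ⊓ Subgroup.centralizer ((S : Subgroup G) : Set G) ≤ cj b (W R) ∧
      AllZ (S : Subgroup G)
        ((S : Subgroup G) ⊓ Subgroup.normalizer ((cj b (W R) : Subgroup G) : Set G)) ∧
      cj b ((S : Subgroup G) ⊓ Subgroup.normalizer ((W R : Subgroup G) : Set G)) ≤
        (S : Subgroup G) ⊓ Subgroup.normalizer ((cj b (W R) : Subgroup G) : Set G) := by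
  have hRp : IsPGroup p ↥R := S.isPGroup'.to_le hR.le
  obtain ⟨b, hb, hbfn⟩ := exists_fullyNorm_cj S ((functor_le hW hRp).trans hR.le)
  have hbR : cj b R ≤ (S : Subgroup G) := (cj_mono hgrow.le).trans hb
  have hmain : cj b ((S : Subgroup G) ⊓ Subgroup.normalizer ((W R : Subgroup G) : Set G)) ≤
      (S : Subgroup G) ⊓ Subgroup.normalizer ((cj b (W R) : Subgroup G) : Set G) := by
    rw [← cj_normalizer]; exact le_inf hb (cj_mono inf_le_right)
  refine ⟨b, hb, hbfn, ?_, (hall.conj b).mono ((cj_mono hgrow.le).trans hmain), hmain⟩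
  rw [← functor_cj hW hRp]
  exact (le_inf (hall b hbR)
    (inf_le_right.trans (Subgroup.centralizer_le hbR))).trans (hWZ _ (isPGroup_cj hRp))

theorem centralizer_functor_le (S : Sylow p G) (hdiv : p ∣ Nat.card G)
    (hVmono : ∀ H K : Subgroup G, IsPGroup p ↥H → IsPGroup p ↥K → H ≠ ⊥ → K ≠ ⊥ →
      H ⊓ Subgroup.centralizer (H : Set G) ≤ K ⊓ Subgroup.centralizer (K : Set G) → V H ≤ V K)
    {R : Subgroup G} (hRS : R ≤ (S : Subgroup G))
    (hZR : (S : Subgroup G) ⊓ Subgroup.centralizer ((S : Subgroup G) : Set G) ≤ R) :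
    Subgroup.centralizer ((V R : Subgroup G) : Set G) ≤
      Subgroup.centralizer ((V (S : Subgroup G) : Subgroup G) : Set G) := by
  have hne : (S : Subgroup G) ≠ ⊥ := S.ne_bot_of_dvd_card hdiv
  refine Subgroup.centralizer_le (hVmono _ _ S.isPGroup' (S.isPGroup'.to_le hRS) hne (fun h => ?_)
    (le_inf hZR (inf_le_right.trans (Subgroup.centralizer_le hRS))))
  haveI : Nontrivial ↥(S : Subgroup G) := (Subgroup.nontrivial_iff_ne_bot _).2 hne
  haveI : Nontrivial ↥(Subgroup.center ↥(S : Subgroup G)) := S.isPGroup'.center_nontrivial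
  obtain ⟨z, hz1⟩ := exists_ne (α := ↥(Subgroup.center ↥(S : Subgroup G))) 1 |>.imp fun z hz => hz
  have hzR : ((z : ↥(S : Subgroup G)) : G) ∈ R := hZR ⟨(z : ↥(S : Subgroup G)).2,
    Subgroup.mem_centralizer_iff.2 fun y hy =>
      congrArg Subtype.val (Subgroup.mem_center_iff.1 z.2 ⟨y, hy⟩)⟩
  rw [h, Subgroup.mem_bot] at hzR
  exact hz1 (Subtype.ext (Subtype.ext hzR))

/-- Transfer: the local decompositions give the global one. -/
theorem central_transfer (S : Sylow p G) (hdiv : p ∣ Nat.card G)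
    (hW : Cfsg.IsConjugacyFunctor p W) (hV : Cfsg.IsConjugacyFunctor p V)
    (hWZ : ∀ H : Subgroup G, IsPGroup p ↥H → H ⊓ Subgroup.centralizer (H : Set G) ≤ W H)
    (hVmono : ∀ H K : Subgroup G, IsPGroup p ↥H → IsPGroup p ↥K → H ≠ ⊥ → K ≠ ⊥ →
      H ⊓ Subgroup.centralizer (H : Set G) ≤ K ⊓ Subgroup.centralizer (K : Set G) → V H ≤ V K)
    (hloc : ∀ H : Subgroup G,
      (S : Subgroup G) ⊓ Subgroup.centralizer ((S : Subgroup G) : Set G) ≤ H →
      H ≤ (S : Subgroup G) → ∃ Q : Subgroup G, IsSyl p Q (Subgroup.normalizer (H : Set G)) ∧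
        Q ⊓ ⁅Subgroup.normalizer (H : Set G), Subgroup.normalizer (H : Set G)⁆ ≤
          Q ⊓ ⁅Subgroup.normalizer (H : Set G) ⊓ Subgroup.normalizer ((W Q : Subgroup G) : Set G),
              Subgroup.normalizer (H : Set G) ⊓ Subgroup.normalizer ((W Q : Subgroup G) : Set G)⁆ ⊔
            Q ⊓ ⁅Subgroup.normalizer (H : Set G) ⊓ Subgroup.centralizer ((V Q : Subgroup G) : Set G),
              Subgroup.normalizer (H : Set G) ⊓
                Subgroup.centralizer ((V Q : Subgroup G) : Set G)⁆) :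
    (S : Subgroup G) ⊓ commutator G ≤
      (S : Subgroup G) ⊓ ⁅Subgroup.normalizer ((W (S : Subgroup G) : Subgroup G) : Set G),
          Subgroup.normalizer ((W (S : Subgroup G) : Subgroup G) : Set G)⁆ ⊔
        (S : Subgroup G) ⊓ ⁅Subgroup.centralizer ((V (S : Subgroup G) : Subgroup G) : Set G),
          Subgroup.centralizer ((V (S : Subgroup G) : Subgroup G) : Set G)⁆ := by
  set K := (S : Subgroup G) ⊓ ⁅Subgroup.normalizer ((W (S : Subgroup G) : Subgroup G) : Set G),
          Subgroup.normalizer ((W (S : Subgroup G) : Subgroup G) : Set G)⁆ ⊔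
        (S : Subgroup G) ⊓ ⁅Subgroup.centralizer ((V (S : Subgroup G) : Subgroup G) : Set G),
          Subgroup.centralizer ((V (S : Subgroup G) : Subgroup G) : Set G)⁆ with hK
  rw [commutator_def]
  refine inf_commutator_le S K (central_induction S (DiffIn K)
    (fun _ _ _ hle h a ha => h a (hle ha)) (fun _ _ _ => DiffIn.comp) (fun _ _ => DiffIn.symm)
    (fun D g g' hag h a ha => hag a ha ▸ h a ha)
    (fun H => (S : Subgroup G) ⊓ Subgroup.normalizer (H : Set G) ⊓
      ⁅Subgroup.normalizer (H : Set G), Subgroup.normalizer (H : Set G)⁆ ≤ K)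
    (fun U hfn hgd D n hD hn a ha => hgd ((inf_le_inf_right _ hfn.self_le) (diffIn_of_le hD hn a ha)))
    fun H hfn hZH hall hbig hnext => ?_)
  obtain ⟨Q, hQ, hdec⟩ := hloc H hZH hfn.1
  obtain ⟨a, ha, hQR⟩ := hQ.exists_cj_eq hfn.2
  set N := Subgroup.normalizer (H : Set G) with hN
  set R := (S : Subgroup G) ⊓ N with hR
  have h1 := cj_mono (g := a) hdec
  rw [show cj a (Q ⊓ ⁅N ⊓ Subgroup.normalizer ((W Q : Subgroup G) : Set G),
          N ⊓ Subgroup.normalizer ((W Q : Subgroup G) : Set G)⁆ ⊔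
        Q ⊓ ⁅N ⊓ Subgroup.centralizer ((V Q : Subgroup G) : Set G),
          N ⊓ Subgroup.centralizer ((V Q : Subgroup G) : Set G)⁆) =
      R ⊓ ⁅N ⊓ Subgroup.normalizer ((W R : Subgroup G) : Set G),
          N ⊓ Subgroup.normalizer ((W R : Subgroup G) : Set G)⁆ ⊔
        R ⊓ ⁅N ⊓ Subgroup.centralizer ((V R : Subgroup G) : Set G),
          N ⊓ Subgroup.centralizer ((V R : Subgroup G) : Set G)⁆ from by
    rw [show cj a (_ ⊔ _) = _ from Subgroup.map_sup _ _ _]
    show cj a _ ⊔ cj a _ = _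
    rw [cj_inf, cj_inf, cj_commutator, cj_commutator, cj_inf, cj_inf, cj_eq_self_of_mem ha,
      cj_normalizer, ← functor_cj hW hQ.isPGroup, hQR,
      show cj a (Subgroup.centralizer ((V Q : Subgroup G) : Set G)) =
        Subgroup.centralizer ((cj a (V Q) : Subgroup G) : Set G) from
        map_centralizer_conj a (V Q),
      ← functor_cj hV hQ.isPGroup, hQR], cj_inf, cj_commutator, cj_eq_self_of_mem ha, hQR] at h1
  refine h1.trans (sup_le ?_ ?_)
  · rcases eq_or_lt_of_le (inf_le_left : R ≤ (S : Subgroup G)) with heq | hlt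
    · rw [hR, heq]
      exact (inf_le_inf_left _ (Subgroup.commutator_mono inf_le_right inf_le_right)).trans le_sup_left
    have hgrow := inf_normalizer_lt_functor hW S.isPGroup' hlt
    obtain ⟨b, hb, hbfn, hZ', hall', hmain⟩ := climb_step S hW hWZ hlt hall hgrow
    have hc := (Subgroup.card_le_of_le hgrow.le).lt_of_ne fun h =>
      hgrow.ne (Subgroup.eq_of_le_of_card_ge hgrow.le h.ge)
    have hgd := hnext _ hbfn hZ' hall'
      (lt_of_lt_of_le (by rwa [card_cj]) (Subgroup.card_le_of_le hmain))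
    have hdiff := hbig _ b inf_le_left hb hc
    intro z hz
    have hzb : b * z * b⁻¹ ∈ K := by
      refine hgd ⟨hmain (conj_mem_cj (hgrow.le hz.1)), ?_⟩
      rw [← cj_normalizer, ← cj_commutator]
      exact conj_mem_cj (Subgroup.commutator_mono inf_le_right inf_le_right hz.2)
    have := K.mul_mem hzb (K.inv_mem (hdiff z (hgrow.le hz.1)))
    simpa [mul_assoc] using this
  · have hle := centralizer_functor_le S hdiv hVmono (R := R) inf_le_left
      (le_inf inf_le_left (hZH.trans Subgroup.le_normalizer))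
    refine le_trans (inf_le_inf inf_le_left ?_) le_sup_right
    exact Subgroup.commutator_mono (inf_le_right.trans hle) (inf_le_right.trans hle)

end CfsgLib.ConjFunctor
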