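import Cfsg.Prelude.Def_FusionSystem
import Cfsg.Prelude.Def_TwoFusion
import Cfsg.Agent.Lib.ConjFunctor.Basic
import Cfsg.Agent.Lib.Fusion.FrobeniusCriterion
import Cfsg.Agent.Lib.Solvable.Core
import Cfsg.Agent.Lib.Solvable.CoprimeAction

/-!
# Centric subgroups of a finite group
-/

set_option autoImplicit false
set_option linter.style.haveILetI false

namespace CfsgLib.CentricGroup

open CfsgLib.ConjFunctor
open scoped Pointwise

universe u

variable {G : Type u} [Group G] [Finite G] {p : ℕ} [Fact p.Prime]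

theorem isCentric_iff (P : Sylow p G) {Q : Subgroup G} (hQ : Q ≤ (P : Subgroup G)) :
    (Cfsg.groupFusionSystem (P : Subgroup G)).IsCentric Q ↔
      Cfsg.IsInternalDirectProduct (Q ⊓ Subgroup.centralizer (Q : Set G))
        ((Cfsg.pPrimeCore p ↥(Subgroup.centralizer (Q : Set G))).map
          (Subgroup.centralizer (Q : Set G)).subtype)
        (Subgroup.centralizer (Q : Set G)) := by
  set C := Subgroup.centralizer (Q : Set G) with hC
  set K := Cfsg.pPrimeCore p ↥C with hK
  have hKc : (Nat.card ↥K).Coprime p := CfsgLib.Solvable.pPrimeCore_card_coprime p ↥C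
  have hQp : IsPGroup p ↥Q := P.isPGroup'.to_le hQ
  have hdis : (Q ⊓ C) ⊓ K.map C.subtype = ⊥ := by
    rw [← disjoint_iff]
    refine Subgroup.disjoint_of_coprime_natCard ?_
    obtain ⟨n, hn⟩ := (hQp.to_le (inf_le_left : Q ⊓ C ≤ Q)).exists_card_eq
    rw [hn, Subgroup.card_map_of_injective C.subtype_injective]
    exact (hKc.symm).pow_left n
  constructor
  · intro hcen
    have hcenc : ∀ g : G, cj g Q ≤ (P : Subgroup G) →
        (P : Subgroup G) ⊓ Subgroup.centralizer ((cj g Q : Subgroup G) : Set G) ≤ cj g Q := by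
      intro g hg
      refine hcen.2 _ ⟨(MulAut.conj g).toMonoidHom.comp Q.subtype,
        ⟨hQ, fun x => hg (Subgroup.mem_map_of_mem _ x.2), g, fun x => rfl⟩, ?_⟩
      rw [MonoidHom.range_comp, Subgroup.range_subtype]
    have hp' : ∀ X : Subgroup G, X ≤ C → IsPGroup p ↥X → X ≤ Q := by
      intro X hX hXp
      have hnorm : X ≤ Subgroup.normalizer (Q : Set G) :=
        hX.trans (Subgroup.centralizer_le_normalizer _)
      obtain ⟨g, -, hg⟩ := (isSyl_top P).exists_cj_le (hXp.to_sup_of_normal_right' hQp hnorm) le_top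
      intro x hx
      have h1 : g * x * g⁻¹ ∈ cj g Q := by
        refine hcenc g ((cj_mono le_sup_right).trans hg)
          ⟨hg (conj_mem_cj (Subgroup.mem_sup_left hx)), Subgroup.mem_centralizer_iff.2 ?_⟩
        rintro _ ⟨q, hq, rfl⟩
        show g * q * g⁻¹ * (g * x * g⁻¹) = g * x * g⁻¹ * (g * q * g⁻¹)
        have := Subgroup.mem_centralizer_iff.1 (hX hx) q hq
        calc g * q * g⁻¹ * (g * x * g⁻¹) = g * (q * x) * g⁻¹ := by group
          _ = g * (x * q) * g⁻¹ := by rw [this]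
          _ = g * x * g⁻¹ * (g * q * g⁻¹) := by group
      exact conj_mem_cj_iff.1 h1
    obtain ⟨T, N, hN, hc⟩ : Cfsg.HasNormalPComplement p ↥C := by
      refine CfsgLib.NPC.frobenius_criterion fun X hX c _ _ => ?_
      refine Subgroup.mem_centralizer_iff.2 fun x hx => Subtype.ext ?_
      exact Subgroup.mem_centralizer_iff.1 c.2 _
        (hp' _ (Subgroup.map_subtype_le X) (hX.map _) (Subgroup.mem_map_of_mem C.subtype hx))
    have hNK : N ≤ K := by
      refine CfsgLib.Solvable.le_pPrimeCore hN ?_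
      rw [← hc.index_eq_card, Nat.coprime_comm]
      exact (Nat.Prime.coprime_iff_not_dvd Fact.out).2 T.not_dvd_index
    refine ⟨inf_le_right, Subgroup.map_subtype_le _, ?_, hdis,
      le_antisymm (sup_le inf_le_right (Subgroup.map_subtype_le _)) ?_⟩
    · rintro a ⟨ha, -⟩ _ ⟨b, -, rfl⟩
      exact Subgroup.mem_centralizer_iff.1 b.2 a ha
    · intro c hcC
      have h1 : (⟨c, hcC⟩ : ↥C) ∈ (N : Set ↥C) * ((T : Subgroup ↥C) : Set ↥C) :=
        hc.mul_eq.symm ▸ Set.mem_univ _
      obtain ⟨n, hn, t, ht, he⟩ := h1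
      have he' : c = (n : G) * (t : G) := (congrArg Subtype.val he).symm
      rw [he']
      refine mul_mem (Subgroup.mem_sup_right (Subgroup.mem_map_of_mem C.subtype (hNK hn)))
        (Subgroup.mem_sup_left ⟨?_, t.2⟩)
      exact hp' _ (Subgroup.map_subtype_le _) (T.isPGroup'.map C.subtype)
        (Subgroup.mem_map_of_mem C.subtype ht)
  · rintro ⟨-, -, hcomm, -, hsup⟩
    refine ⟨hQ, fun R hR => ?_⟩
    obtain ⟨φ, ⟨-, -, g, hg⟩, rfl⟩ := hR
    intro c hc
    have hmem : g⁻¹ * c * g ∈ C := by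
      refine Subgroup.mem_centralizer_iff.2 fun q hq => ?_
      have h1 : g * q * g⁻¹ * c = c * (g * q * g⁻¹) :=
        Subgroup.mem_centralizer_iff.1 hc.2 _ ⟨⟨q, hq⟩, hg _⟩
      calc q * (g⁻¹ * c * g) = g⁻¹ * (g * q * g⁻¹ * c) * g := by group
        _ = g⁻¹ * (c * (g * q * g⁻¹)) * g := by rw [h1]
        _ = g⁻¹ * c * g * q := by group
    have hle : K.map C.subtype ≤ Subgroup.normalizer ((Q ⊓ C : Subgroup G) : Set G) := fun b hb =>
      Subgroup.centralizer_le_normalizer _
        (Subgroup.mem_centralizer_iff.2 fun a ha => hcomm a ha b hb)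
    rw [← hsup] at hmem
    obtain ⟨z, hz, k, hk, he⟩ := (CfsgLib.Solvable.mem_sup_of_le_normalizer hle).1 hmem
    obtain ⟨i, hi⟩ := P.isPGroup' ⟨c, hc.1⟩
    obtain ⟨j, hj⟩ := hQp ⟨z, hz.1⟩
    have hk1 : k ^ p ^ (i + j) = 1 := by
      have h3 : (g⁻¹ * c * g) ^ p ^ (i + j) = 1 := by
        rw [show g⁻¹ * c * g = g⁻¹ * c * (g⁻¹)⁻¹ by rw [inv_inv], conj_pow, pow_add, pow_mul,
          show c ^ p ^ i = 1 by simpa using congrArg Subtype.val hi, one_pow, mul_one,
          mul_inv_cancel]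
      rw [← he, (show Commute z k from hcomm z hz k hk).mul_pow] at h3
      rwa [show z ^ p ^ (i + j) = 1 by
        rw [add_comm, pow_add, pow_mul, show z ^ p ^ j = 1 by simpa using congrArg Subtype.val hj,
          one_pow], one_mul] at h3
    obtain ⟨k', hk', rfl⟩ := hk
    have hk0 : (k' : G) = 1 := by
      rw [← orderOf_eq_one_iff]
      refine Nat.eq_one_of_dvd_coprimes (hKc.pow_right (i + j)) ?_ (orderOf_dvd_of_pow_eq_one hk1)
      rw [Subgroup.orderOf_coe]
      exact Subgroup.orderOf_dvd_natCard _ hk'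
    refine ⟨⟨g⁻¹ * c * g, ?_⟩, ?_⟩
    · rw [← he, Subgroup.coe_subtype, hk0, mul_one]; exact hz.1
    · rw [hg]; group

end CfsgLib.CentricGroup
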