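import Cfsg.Prelude.Def_LocalEven
import Cfsg.Agent.Lib.ConjFunctor.Basic
import Cfsg.Agent.Lib.Solvable.Core
import Cfsg.Agent.Lib.Solvable.CoprimeAction
import Mathlib.GroupTheory.IsSubnormal
import Mathlib.Tactic.Group

/-!
# Actions on chief factors inside a normal p-subgroup
-/

set_option autoImplicit false
set_option linter.style.haveILetI false

open scoped commutatorElement

namespace CfsgLib.ConjFunctor

variable {G : Type*} [Group G]

theorem mem_sectionKernel {U V : Subgroup G} [V.Normal] {x : G} :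
    x ∈ Cfsg.sectionKernel U V ↔ ∀ u ∈ U, ⁅u, x⁆ ∈ V := by
  unfold Cfsg.sectionKernel
  rw [Subgroup.mem_comap, Subgroup.mem_centralizer_iff]
  constructor
  · intro h u hu
    rw [← QuotientGroup.eq_one_iff, ← QuotientGroup.mk'_apply, map_commutatorElement,
      commutatorElement_eq_one_iff_mul_comm]
    exact h _ ⟨u, hu, rfl⟩
  · rintro h _ ⟨u, hu, rfl⟩
    rw [← commutatorElement_eq_one_iff_mul_comm, ← map_commutatorElement, QuotientGroup.mk'_apply,
      QuotientGroup.eq_one_iff]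
    exact h u hu

theorem commutator_le_iff_le_sectionKernel {U V X : Subgroup G} [V.Normal] :
    ⁅U, X⁆ ≤ V ↔ X ≤ Cfsg.sectionKernel U V := by
  rw [Subgroup.commutator_le]
  exact ⟨fun h x hx => mem_sectionKernel.2 fun u hu => h u hu x hx,
    fun h u hu x hx => mem_sectionKernel.1 (h hx) u hu⟩

theorem sectionKernel_normal {U V : Subgroup G} [U.Normal] [V.Normal] :
    (Cfsg.sectionKernel U V).Normal := by
  haveI : (U.map (QuotientGroup.mk' V)).Normal :=
    Subgroup.Normal.map ‹_› _ (QuotientGroup.mk'_surjective V)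
  unfold Cfsg.sectionKernel
  infer_instance

/-- The elements acting trivially on every chief factor inside `A`. -/
def chiefKernel (A : Subgroup G) : Subgroup G where
  carrier := {x | ∀ U V : Subgroup G, Cfsg.IsChiefFactor U V → U ≤ A → ∀ u ∈ U, ⁅u, x⁆ ∈ V}
  one_mem' := fun _ V _ _ u _ => by rw [commutatorElement_one_right]; exact one_mem V
  mul_mem' := fun {x y} hx hy U V hc hU => by
    haveI := hc.2.2.1
    exact mem_sectionKernel.1 (mul_mem (mem_sectionKernel.2 (hx U V hc hU))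
      (mem_sectionKernel.2 (hy U V hc hU)))
  inv_mem' := fun {x} hx U V hc hU => by
    haveI := hc.2.2.1
    exact mem_sectionKernel.1 (inv_mem (mem_sectionKernel.2 (hx U V hc hU)))

theorem mem_chiefKernel {A : Subgroup G} {x : G} :
    x ∈ chiefKernel A ↔
      ∀ U V : Subgroup G, Cfsg.IsChiefFactor U V → U ≤ A → ∀ u ∈ U, ⁅u, x⁆ ∈ V :=
  Iff.rfl

theorem chiefKernel_normal (A : Subgroup G) : (chiefKernel A).Normal := by
  refine ⟨fun x hx g U V hc hU => ?_⟩
  haveI := hc.2.1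
  haveI := hc.2.2.1
  exact mem_sectionKernel.1
    ((sectionKernel_normal (U := U) (V := V)).conj_mem x (mem_sectionKernel.2 (hx U V hc hU)) g)

theorem commutator_le_of_mem_chiefKernel {A U V : Subgroup G} {g : G} (hg : g ∈ chiefKernel A)
    (hc : Cfsg.IsChiefFactor U V) (hU : U ≤ A) : ⁅U, Subgroup.zpowers g⁆ ≤ V := by
  haveI := hc.2.2.1
  rw [commutator_le_iff_le_sectionKernel, Subgroup.zpowers_le, mem_sectionKernel]
  exact hg U V hc hU

theorem exists_chief_factor_not_le {A : Subgroup G} {g : G} (hg : g ∉ chiefKernel A) :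
    ∃ U V : Subgroup G, Cfsg.IsChiefFactor U V ∧ U ≤ A ∧ ¬ ⁅U, Subgroup.zpowers g⁆ ≤ V := by
  by_contra h
  push Not at h
  exact hg fun U V hc hU u hu =>
    h U V hc hU (Subgroup.commutator_mem_commutator hu (Subgroup.mem_zpowers g))

/-- A normal subgroup covering `U` from below gives a chief factor. -/
theorem exists_chiefFactor_top [Finite G] {U V : Subgroup G} [U.Normal] [V.Normal] (h : V < U) :
    ∃ V' : Subgroup G, V ≤ V' ∧ Cfsg.IsChiefFactor U V' := by
  obtain ⟨M, hM⟩ := (Set.toFinite {M : Subgroup G | M.Normal ∧ V ≤ M ∧ M < U}).exists_maximal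
    ⟨V, inferInstance, le_rfl, h⟩
  refine ⟨M, hM.1.2.1, hM.1.2.2, inferInstance, hM.1.1, fun N hN hMN hNU => ?_⟩
  rcases eq_or_lt_of_le hNU with h1 | h1
  · exact Or.inr h1
  · exact Or.inl (le_antisymm (hM.2 ⟨hN, le_trans hM.1.2.1 hMN, h1⟩ hMN) hMN)

theorem eq_one_of_conj_eq_mul [Finite G] {a x c : G} (h : a * x * a⁻¹ = c * x) (hac : Commute a c)
    (hcop : (orderOf a).Coprime (orderOf c)) : c = 1 := by
  have key : ∀ n : ℕ, a ^ n * x * (a ^ n)⁻¹ = c ^ n * x := by
    intro n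
    induction n with
    | zero => simp
    | succ n ih =>
      have h1 : a ^ (n + 1) * x * (a ^ (n + 1))⁻¹ = a * (a ^ n * x * (a ^ n)⁻¹) * a⁻¹ := by
        rw [pow_succ']; group
      rw [h1, ih]
      calc a * (c ^ n * x) * a⁻¹ = (a * c ^ n * a⁻¹) * (a * x * a⁻¹) := by group
        _ = c ^ n * (c * x) := by rw [h, (hac.pow_right n).eq]; group
        _ = c ^ (n + 1) * x := by rw [pow_succ]; group
  have h2 := key (orderOf a)
  rw [pow_orderOf_eq_one] at h2
  have h3 : c ^ orderOf a = 1 := by simpa using h2.symm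
  exact orderOf_eq_one_iff.1 (Nat.eq_one_of_dvd_coprimes hcop (orderOf_dvd_of_pow_eq_one h3) dvd_rfl)

variable {p : ℕ}

theorem orderOf_coprime_of_isPGroup {P : Subgroup G} (hP : IsPGroup p ↥P) {c : G} (hc : c ∈ P)
    {n : ℕ} (hn : n.Coprime p) : n.Coprime (orderOf c) := by
  obtain ⟨k, hk⟩ := hP ⟨c, hc⟩
  have : c ^ p ^ k = 1 := by simpa using congrArg Subtype.val hk
  exact Nat.Coprime.coprime_dvd_right (orderOf_dvd_of_pow_eq_one this) (hn.pow_right k)

/-- A `p'`-element acting trivially on every chief factor inside the normal `p`-subgroup `A`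
centralizes `A`. -/
theorem mem_centralizer_of_chiefKernel [Finite G] {A : Subgroup G} [A.Normal]
    (hA : IsPGroup p ↥A) {x : G} (hx : x ∈ chiefKernel A) (hcop : (orderOf x).Coprime p) :
    x ∈ Subgroup.centralizer (A : Set G) := by
  suffices H : ∀ (k : ℕ) (U : Subgroup G), Nat.card ↥U ≤ k → U.Normal → U ≤ A →
      ∀ u ∈ U, Commute x u from
    Subgroup.mem_centralizer_iff.2 fun a ha => (H _ A le_rfl inferInstance le_rfl a ha).eq.symm
  intro k
  induction k with
  | zero => intro U hU; exact absurd hU (Nat.not_le.2 Nat.card_pos)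
  | succ k ih =>
    intro U hk hUn hUA u hu
    haveI := hUn
    rcases eq_or_ne U ⊥ with rfl | hne
    · rw [Subgroup.mem_bot.1 hu]; exact Commute.one_right x
    obtain ⟨V, -, hc⟩ := exists_chiefFactor_top (V := (⊥ : Subgroup G)) (bot_lt_iff_ne_bot.2 hne)
    have hVU := hc.1
    have hcard : Nat.card ↥V < Nat.card ↥U :=
      (Subgroup.card_le_of_le hVU.le).lt_of_ne fun h =>
        hVU.ne (Subgroup.eq_of_le_of_card_ge hVU.le h.ge)
    have hV := ih V (by omega) hc.2.2.1 (hVU.le.trans hUA)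
    have hm : x * u * x⁻¹ * u⁻¹ ∈ V := by
      have := inv_mem (hx U V hc hUA u hu)
      rw [commutatorElement_inv] at this
      simpa [commutatorElement_def] using this
    have he : x * u * x⁻¹ = (x * u * x⁻¹ * u⁻¹) * u := by group
    have h1 := eq_one_of_conj_eq_mul he (hV _ hm)
      (orderOf_coprime_of_isPGroup hA (hUA (hVU.le hm)) hcop)
    show x * u = u * x
    calc x * u = (x * u * x⁻¹ * u⁻¹) * u * x := by group
      _ = u * x := by rw [h1, one_mul]

/-- A subgroup in which every `p'`-element is trivial is a `p`-group. -/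
theorem isPGroup_of_coprime_eq_one [Finite G] [hp : Fact p.Prime] {H : Subgroup G}
    (h : ∀ x ∈ H, (orderOf x).Coprime p → x = 1) : IsPGroup p ↥H := by
  intro x
  have hne : orderOf (x : G) ≠ 0 := (orderOf_pos (x : G)).ne'
  obtain ⟨k, m, hm, hx⟩ := Nat.exists_eq_pow_mul_and_not_dvd hne p hp.out.ne_one
  refine ⟨k, Subtype.ext ?_⟩
  rw [Subgroup.coe_pow, Subgroup.coe_one]
  refine h _ (pow_mem x.2 _) ?_
  rw [orderOf_pow' _ (pow_ne_zero _ hp.out.ne_zero), hx, Nat.gcd_eq_right (dvd_mul_right _ _),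
    Nat.mul_div_cancel_left _ (pow_pos hp.out.pos _)]
  exact (Nat.coprime_comm.1 ((hp.out.coprime_iff_not_dvd).2 hm))

variable [Finite G] [Fact p.Prime]

/-- `O_p(G)` acts trivially on every chief factor below a normal `p`-subgroup. -/
theorem pCore_le_chiefKernel {A : Subgroup G} (hA : A ≤ Cfsg.pCore p G) :
    Cfsg.pCore p G ≤ chiefKernel A := by
  intro t ht U V hc hU u hu
  haveI := hc.2.1
  haveI := hc.2.2.1
  haveI := CfsgLib.Solvable.pCore_normal p G
  set f := QuotientGroup.mk' V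
  set T := (Cfsg.pCore p G).map f
  haveI hTn : T.Normal := Subgroup.Normal.map ‹_› _ (QuotientGroup.mk'_surjective V)
  have hTp : IsPGroup p ↥T := (CfsgLib.Solvable.pCore_isPGroup p G).map f
  haveI hUn : (U.map f).Normal := Subgroup.Normal.map ‹_› _ (QuotientGroup.mk'_surjective V)
  set Z := (U.map f) ⊓ Subgroup.centralizer (T : Set (G ⧸ V))
  have hUT : U.map f ≤ T := Subgroup.map_mono (hU.trans hA)
  have hne : U.map f ≠ ⊥ := by
    rw [Ne, Subgroup.map_eq_bot_iff, QuotientGroup.ker_mk']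
    exact hc.1.not_ge
  have hZne : Z ≠ ⊥ := by
    haveI : ((U.map f).subgroupOf T).Normal := inferInstance
    obtain ⟨z, ⟨hz, hzc⟩, hz1⟩ :=
      CfsgLib.Solvable.exists_ne_one_mem_inf_center_of_normal hTp (N := (U.map f).subgroupOf T)
        (by
          rw [Ne, ← Subgroup.map_eq_bot_iff_of_injective _ T.subtype_injective,
            Subgroup.subgroupOf_map_subtype, inf_eq_left.2 hUT]
          exact hne)
    intro h
    have : (z : G ⧸ V) ∈ Z := ⟨hz, Subgroup.mem_centralizer_iff.2 fun y hy =>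
      congrArg Subtype.val (Subgroup.mem_center_iff.1 hzc ⟨y, hy⟩)⟩
    rw [h, Subgroup.mem_bot] at this
    exact hz1 (Subtype.ext this)
  have hZ : Z.comap f = U := by
    refine (hc.2.2.2 _ inferInstance ?_ ?_).resolve_left fun h => hZne ?_
    · intro v hv
      rw [Subgroup.mem_comap, show f v = 1 from (QuotientGroup.eq_one_iff v).2 hv]
      exact one_mem _
    · intro y hy
      obtain ⟨u', hu', he⟩ := hy.1
      have : u'⁻¹ * y ∈ V := QuotientGroup.eq.1 he
      simpa using mul_mem hu' (hc.1.le this)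
    · rw [← Subgroup.map_comap_eq_self_of_surjective (QuotientGroup.mk'_surjective V) Z, h,
        Subgroup.map_eq_bot_iff, QuotientGroup.ker_mk']
  have hu' : u ∈ Z.comap f := hZ.symm ▸ hu
  rw [← QuotientGroup.eq_one_iff, ← QuotientGroup.mk'_apply, map_commutatorElement,
    commutatorElement_eq_one_iff_mul_comm]
  exact (Subgroup.mem_centralizer_iff.1 hu'.2 _ ⟨t, ht, rfl⟩).symm

theorem commutator_chief_le {A U V : Subgroup G} (hA : A ≤ Cfsg.pCore p G)
    (hc : Cfsg.IsChiefFactor U V) (hU : U ≤ A) : ⁅U, Cfsg.pCore p G⁆ ≤ V := by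
  haveI := hc.2.2.1
  rw [commutator_le_iff_le_sectionKernel]
  exact fun t ht => mem_sectionKernel.2 (pCore_le_chiefKernel hA ht U V hc hU)

omit [Finite G] [Fact p.Prime] in
theorem mem_of_commute_of_sup {M M' W U V : Subgroup G} (hUV : ⁅U, U⁆ ≤ V)
    (hVM : V ≤ M') (hM'U : M' ≤ U) (hWU : W ≤ U)
    (hMM : M ⊓ M' ≤ V) (hW : (M ⊔ M') ⊓ W ≤ V) : M ⊓ (M' ⊔ W) ≤ V := by
  rintro m ⟨hm, hm'⟩
  have hUN : U ≤ Subgroup.normalizer (M' : Set G) := by
    rw [Subgroup.le_normalizer_iff_commutator_le_right]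
    exact (Subgroup.commutator_mono le_rfl hM'U).trans (hUV.trans hVM)
  obtain ⟨a, ha, b, hb, rfl⟩ :=
    CfsgLib.Solvable.mem_sup_of_le_normalizer (hWU.trans hUN) |>.1 hm'
  have hb' : b ∈ V := hW ⟨by
    have : b = a⁻¹ * (a * b) := by group
    rw [this]
    exact mul_mem (Subgroup.mem_sup_right (inv_mem ha)) (Subgroup.mem_sup_left hm), hb⟩
  exact hMM ⟨hm, mul_mem ha (hVM hb')⟩

omit [Fact p.Prime] in
/-- A chief factor is semisimple as an operator group for each subnormal subgroup. -/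
theorem exists_invariant_complement {U V : Subgroup G} (hc : Cfsg.IsChiefFactor U V)
    (hab : ⁅U, U⁆ ≤ V) {X : Subgroup G} (hX : X.IsSubnormal) :
    ∀ M : Subgroup G, V ≤ M → M ≤ U → X ≤ Subgroup.normalizer (M : Set G) →
      ∃ M' : Subgroup G, V ≤ M' ∧ M' ≤ U ∧ X ≤ Subgroup.normalizer (M' : Set G) ∧
        M ⊓ M' = V ∧ M ⊔ M' = U := by
  haveI := hc.2.1
  haveI := hc.2.2.1
  induction hX with
  | top =>
    intro M hVM hMU hM
    haveI : M.Normal := Subgroup.normalizer_eq_top_iff.1 (top_le_iff.1 hM)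
    rcases hc.2.2.2 M inferInstance hVM hMU with rfl | rfl
    · exact ⟨U, hc.1.le, le_rfl, Subgroup.le_normalizer_of_normal, inf_eq_left.2 hMU,
        sup_eq_right.2 hMU⟩
    · exact ⟨V, le_rfl, hVM, Subgroup.le_normalizer_of_normal, inf_eq_right.2 hVM,
        sup_eq_left.2 hVM⟩
  | step Y X hYX _ hYn ih =>
    rw [Subgroup.normal_subgroupOf_iff_le_normalizer hYX] at hYn
    let inv : Subgroup G → Prop := fun L =>
      V ≤ L ∧ L ≤ U ∧ Y ≤ Subgroup.normalizer (L : Set G)
    have hconj : ∀ x ∈ X, ∀ L, inv L → inv (cj x L) := by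
      intro x hx L hL
      refine ⟨?_, ?_, ?_⟩
      · rw [← cj_eq_self_of_normal x V]; exact cj_mono hL.1
      · rw [← cj_eq_self_of_normal x U]; exact cj_mono hL.2.1
      · rw [← cj_normalizer, ← cj_eq_self_iff.2 (hYn hx)]; exact cj_mono hL.2.2
    let isMin : Subgroup G → Prop := fun L =>
      inv L ∧ V < L ∧ ∀ L', inv L' → L' ≤ L → L' = V ∨ L' = L
    have hminconj : ∀ x ∈ X, ∀ L, isMin L → isMin (cj x L) := by
      intro x hx L hL
      refine ⟨hconj x hx L hL.1, ?_, ?_⟩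
      · refine lt_of_le_of_ne (hconj x hx L hL.1).1 fun h => hL.2.1.ne (cj_inj (g := x) ?_)
        rw [← h, cj_eq_self_of_normal]
      · intro L' hL' hle
        have h1 : cj x⁻¹ L' ≤ L := by simpa [cj_inv_cj] using cj_mono (g := x⁻¹) hle
        rcases hL.2.2 _ (hconj _ (inv_mem hx) _ hL') h1 with h | h
        · left; rw [← cj_cj_inv x L', h, cj_eq_self_of_normal]
        · right; rw [← cj_cj_inv x L', h]
    set S := V ⊔ sSup {L | isMin L} with hS
    have hSU : S ≤ U := sup_le hc.1.le (sSup_le fun L hL => hL.1.2.1)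
    have hSX : X ≤ Subgroup.normalizer (S : Set G) := by
      intro x hx
      have key : ∀ y ∈ X, cj y S ≤ S := by
        intro y hy
        rw [cj_le_iff]
        refine sup_le ?_ (sSup_le fun L hL => ?_)
        · rw [← cj_le_iff, cj_eq_self_of_normal]; exact le_sup_left
        · rw [← cj_le_iff]; exact (le_sSup (show cj y L ∈ {L | isMin L} from hminconj y hy L hL)).trans le_sup_right
      rw [← cj_eq_self_iff]
      refine le_antisymm (key x hx) ?_
      have := key x⁻¹ (inv_mem hx)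
      rw [cj_le_iff, inv_inv] at this
      exact this
    have hexmin : ∀ L, inv L → V < L → ∃ L₀, isMin L₀ ∧ L₀ ≤ L := by
      intro L hL hlt
      obtain ⟨L₀, hL₀⟩ := (Set.toFinite {L' | inv L' ∧ V < L' ∧ L' ≤ L}).exists_minimal
        ⟨L, hL, hlt, le_rfl⟩
      refine ⟨L₀, ⟨hL₀.1.1, hL₀.1.2.1, fun L' hL' hle => ?_⟩, hL₀.1.2.2⟩
      rcases eq_or_lt_of_le hL'.1 with h | h
      · exact Or.inl h.symm
      · exact Or.inr (le_antisymm hle (hL₀.2 ⟨hL', h, hle.trans hL₀.1.2.2⟩ hle))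
    obtain ⟨C, hVC, hCU, hCX, hSC, hSCU⟩ := ih S le_sup_left hSU hSX
    have hCV : C = V := by
      by_contra hne
      obtain ⟨L₀, hL₀, hle⟩ := hexmin C ⟨hVC, hCU, hYX.trans hCX⟩ (lt_of_le_of_ne hVC (Ne.symm hne))
      have h1 : L₀ ≤ S ⊓ C := le_inf ((le_sSup (show L₀ ∈ {L | isMin L} from hL₀)).trans le_sup_right) hle
      rw [hSC] at h1
      exact hL₀.2.1.not_ge h1
    rw [hCV, sup_eq_left.2 le_sup_left] at hSCU
    intro M hVM hMU hMY
    obtain ⟨M', hM'⟩ := (Set.toFinite {M' | inv M' ∧ M ⊓ M' ≤ V}).exists_maximal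
      ⟨V, ⟨le_rfl, hc.1.le, Subgroup.le_normalizer_of_normal⟩, inf_le_right⟩
    refine ⟨M', hM'.1.1.1, hM'.1.1.2.1, hM'.1.1.2.2,
      le_antisymm hM'.1.2 (le_inf hVM hM'.1.1.1), le_antisymm (sup_le hMU hM'.1.1.2.1) ?_⟩
    by_contra hnle
    obtain ⟨W, hW, hWle⟩ : ∃ W, isMin W ∧ ¬ W ≤ M ⊔ M' := by
      by_contra h
      push Not at h
      refine hnle ?_
      rw [← hSCU]
      exact sup_le (hVM.trans le_sup_left) (sSup_le fun L hL => h L hL)
    have hnorm : ∀ A B : Subgroup G, Y ≤ Subgroup.normalizer (A : Set G) →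
        Y ≤ Subgroup.normalizer (B : Set G) →
        Y ≤ Subgroup.normalizer ((A ⊔ B : Subgroup G) : Set G) := fun A B hA hB y hy => by
      rw [← cj_eq_self_iff]
      show (A ⊔ B).map _ = _
      rw [Subgroup.map_sup]
      exact congrArg₂ (· ⊔ ·) (cj_eq_self_iff.2 (hA hy)) (cj_eq_self_iff.2 (hB hy))
    have hWV : (M ⊔ M') ⊓ W ≤ V := by
      have hi : inv ((M ⊔ M') ⊓ W) := by
        refine ⟨le_inf (hVM.trans le_sup_left) hW.1.1, inf_le_right.trans hW.1.2.1, fun y hy => ?_⟩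
        rw [← cj_eq_self_iff, cj_inf, cj_eq_self_iff.2 (hnorm M M' hMY hM'.1.1.2.2 hy),
          cj_eq_self_iff.2 (hW.1.2.2 hy)]
      rcases hW.2.2 _ hi inf_le_right with h | h
      · exact h.le
      · exact absurd (inf_eq_right.1 h) hWle
    have hbig : M' ⊔ W ∈ {M' | inv M' ∧ M ⊓ M' ≤ V} :=
      ⟨⟨hM'.1.1.1.trans le_sup_left, sup_le hM'.1.1.2.1 hW.1.2.1, hnorm _ _ hM'.1.1.2.2 hW.1.2.2⟩,
        mem_of_commute_of_sup hab hM'.1.1.1 hM'.1.1.2.1 hW.1.2.1 hM'.1.2 hWV⟩
    exact hWle ((le_sup_right.trans (hM'.2 hbig le_sup_left)).trans le_sup_right)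

end CfsgLib.ConjFunctor
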