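import Mathlib.GroupTheory.Sylow
import Mathlib.Algebra.Polynomial.Eval.Defs
import Mathlib.Algebra.Polynomial.AlgebraMap
import Mathlib.RingTheory.Polynomial.Basic
import Mathlib.Algebra.Field.ZMod
import Mathlib.Algebra.CharP.Lemmas

/-!
# Orbit sums under an Engel element
-/

set_option autoImplicit false
set_option linter.style.haveILetI false

open Polynomial

namespace CfsgLib.ConjFunctor

/-- In a ring of characteristic dividing `p`, `(a - 1)^(p-1)` is `1 + a + ⋯ + a^(p-1)`. -/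
theorem geom_eq_sub_one_pow {R : Type*} [Ring R] {p : ℕ} [hp : Fact p.Prime] (hchar : (p : R) = 0)
    (a : R) : (a - 1) ^ (p - 1) = ∑ i ∈ Finset.range p, a ^ i := by
  have h1 : (((X : ℤ[X]) - 1) ^ (p - 1) - ∑ i ∈ Finset.range p, X ^ i).map (Int.castRingHom (ZMod p))
      = 0 := by
    simp only [Polynomial.map_sub, Polynomial.map_pow, Polynomial.map_sum, map_X, Polynomial.map_one]
    rw [sub_eq_zero]
    have hne : ((X : (ZMod p)[X]) - 1) ≠ 0 := by
      rw [← map_one (C : ZMod p →+* (ZMod p)[X])]; exact X_sub_C_ne_zero 1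
    apply mul_right_cancel₀ hne
    rw [geom_sum_mul, ← pow_succ, Nat.sub_add_cancel hp.out.one_le, sub_pow_char, one_pow]
  have h2 : (C (p : ℤ)) ∣ ((X : ℤ[X]) - 1) ^ (p - 1) - ∑ i ∈ Finset.range p, X ^ i := by
    rw [C_dvd_iff_dvd_coeff]
    intro i
    rw [← ZMod.intCast_zmod_eq_zero_iff_dvd]
    have h4 := congrArg (fun q : (ZMod p)[X] => q.coeff i) h1
    simp only [Polynomial.coeff_map, Polynomial.coeff_zero] at h4
    exact h4
  obtain ⟨q, hq⟩ := h2
  have h3 := congrArg (aeval a) hq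
  simp only [map_sub, map_pow, aeval_X, map_one, map_sum, map_mul, aeval_C] at h3
  rw [map_natCast, hchar, zero_mul, sub_eq_zero] at h3
  exact h3

variable {Q M : Type*} [Group Q] [Finite Q] [AddCommGroup M] {p : ℕ} [hp : Fact p.Prime]

theorem sum_eq_zero_of_transitive {X : Type*} [Fintype X] [MulAction Q X]
    [MulAction.IsPretransitive Q X] (hQ : IsPGroup p Q) (ρ : Q →* AddMonoid.End M)
    (hM : ∀ m : M, p • m = 0) {E : Set Q} (hE : Subgroup.closure E = ⊤)
    (hEn : ∀ e ∈ E, (ρ e - 1) ^ (p - 1) = 0) (F : X → M) (hF : ∀ (q : Q) x, F (q • x) = ρ q (F x))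
    (x₀ : X) (hfix : ∃ q : Q, q • x₀ ≠ x₀) : ∑ x, F x = 0 := by
  classical
  set R := MulAction.stabilizer Q x₀
  have hRne : R ≠ ⊤ := fun h => by
    obtain ⟨q, hq⟩ := hfix
    exact hq (MulAction.mem_stabilizer_iff.1 (h ▸ Subgroup.mem_top q : q ∈ R))
  obtain ⟨n, hn⟩ := hQ.exists_card_eq
  obtain ⟨k, -, hk⟩ := (Nat.dvd_prime_pow hp.out).1 (hn ▸ Subgroup.card_subgroup_dvd_card R)
  have hkn : k < n := by
    rcases Nat.lt_or_ge k n with h | h
    · exact h
    · exact absurd (Subgroup.eq_top_of_le_card R (by rw [hn, hk]; exact Nat.pow_le_pow_right hp.out.pos h)) hRne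
  obtain ⟨R1, hR1, hRR1⟩ : ∃ R1 : Subgroup Q, Nat.card R1 = p ^ (n - 1) ∧ R ≤ R1 :=
    Sylow.exists_subgroup_card_pow_prime_le p (by rw [hn]; exact pow_dvd_pow p (by omega)) R hk
      (by omega)
  have hidx : R1.index = p := by
    have h := R1.card_mul_index
    rw [hn, hR1, show n = n - 1 + 1 by omega, pow_succ, Nat.add_sub_cancel] at h
    exact Nat.eq_of_mul_eq_mul_left (pow_pos hp.out.pos _) h
  obtain ⟨e, heE, heR⟩ : ∃ e ∈ E, e ∉ R1 := by
    by_contra h
    push Not at h
    have : R1 = ⊤ := top_le_iff.1 (hE ▸ (Subgroup.closure_le _).2 h)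
    rw [this, Subgroup.index_top] at hidx
    exact hp.out.one_lt.ne hidx
  -- the projection to the cosets of `R1`
  have hex : ∀ x : X, ∃ q : Q, q • x₀ = x := fun x => MulAction.exists_smul_eq Q x₀ x
  let π : X → Q ⧸ R1 := fun x => ((hex x).choose : Q ⧸ R1)
  have hπ : ∀ q : Q, π (q • x₀) = (q : Q ⧸ R1) := by
    intro q
    refine QuotientGroup.eq.2 (hRR1 ?_)
    rw [MulAction.mem_stabilizer_iff, mul_smul, inv_smul_eq_iff, (hex (q • x₀)).choose_spec]
  have hπe : ∀ (q : Q) (x : X), π (q • x) = q • π x := by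
    intro q x
    obtain ⟨r, rfl⟩ := hex x
    rw [← mul_smul, hπ, hπ]
    rfl
  let S : Q ⧸ R1 → M := fun c => ∑ x ∈ Finset.univ.filter (fun x => π x = c), F x
  have hS : ∀ (q : Q) c, S (q • c) = ρ q (S c) := by
    intro q c
    show _ = ρ q (∑ x ∈ Finset.univ.filter (fun x => π x = c), F x)
    rw [map_sum]
    refine (Finset.sum_bij (fun x _ => q • x) ?_ ?_ ?_ ?_).symm
    · intro x hx
      simp only [Finset.mem_filter, Finset.mem_univ, true_and] at hx ⊢
      rw [hπe, hx]
    · intro a _ b _ h; exact smul_left_cancel q h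
    · intro b hb
      simp only [Finset.mem_filter, Finset.mem_univ, true_and] at hb
      refine ⟨q⁻¹ • b, ?_, smul_inv_smul q b⟩
      simp only [Finset.mem_filter, Finset.mem_univ, true_and]
      rw [hπe, hb, inv_smul_smul]
    · intro x _; exact (hF q x).symm
  set c₀ : Q ⧸ R1 := ((1 : Q) : Q ⧸ R1)
  haveI : Fintype (Q ⧸ R1) := Fintype.ofFinite _
  have hbij : Function.Bijective (fun i : Fin p => e ^ (i : ℕ) • c₀) := by
    rw [Fintype.bijective_iff_injective_and_card]
    refine ⟨?_, by rw [Fintype.card_fin, ← Nat.card_eq_fintype_card]; exact hidx.symm⟩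
    have key : ∀ i j : Fin p, (i : ℕ) < j → e ^ (i : ℕ) • c₀ ≠ e ^ (j : ℕ) • c₀ := by
      intro i j hlt h
      have h' : ((e ^ (i : ℕ) * 1 : Q) : Q ⧸ R1) = ((e ^ (j : ℕ) * 1 : Q) : Q ⧸ R1) := h
      rw [mul_one, mul_one, QuotientGroup.eq, ← inv_pow] at h'
      have h'' : e ^ ((j : ℕ) - i) ∈ R1 := by
        rw [pow_sub e hlt.le, ← inv_pow]
        have he : e ^ (j : ℕ) * e⁻¹ ^ (i : ℕ) = e⁻¹ ^ (i : ℕ) * e ^ (j : ℕ) :=
          (((Commute.refl e).inv_right).pow_pow _ _).eq
        rw [he]; exact h'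
      obtain ⟨m, hm⟩ := hQ e
      obtain ⟨y, hy⟩ : ∃ y : ℕ, (e ^ ((j : ℕ) - i)) ^ y = e := by
        have hcop : ((j : ℕ) - i).Coprime (orderOf e) := by
          refine Nat.Coprime.coprime_dvd_right (orderOf_dvd_of_pow_eq_one hm) (Nat.Coprime.pow_right m ?_)
          rw [Nat.coprime_comm, hp.out.coprime_iff_not_dvd]
          exact Nat.not_dvd_of_pos_of_lt (by omega) (by omega)
        exact exists_pow_eq_self_of_coprime hcop
      exact heR (hy ▸ pow_mem h'' y)
    intro i j h
    rcases lt_trichotomy (i : ℕ) j with hlt | heq | hgt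
    · exact absurd h (key i j hlt)
    · exact Fin.ext heq
    · exact absurd h.symm (key j i hgt)
  calc ∑ x, F x = ∑ c, S c := (Finset.sum_fiberwise Finset.univ π F).symm
    _ = ∑ i : Fin p, S (e ^ (i : ℕ) • c₀) := (hbij.sum_comp S).symm
    _ = ∑ i : Fin p, ((ρ e) ^ (i : ℕ)) (S c₀) :=
        Finset.sum_congr rfl fun i _ => by rw [hS, map_pow]
    _ = (∑ i ∈ Finset.range p, (ρ e) ^ i) (S c₀) := by
        rw [← Fin.sum_univ_eq_sum_range (fun i => (ρ e) ^ i)]
        exact (AddMonoidHom.finsetSum_apply _ _ _).symm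
    _ = 0 := by
        rw [← geom_eq_sub_one_pow (R := AddMonoid.End M) ?_ (ρ e), hEn e heE]
        · rfl
        · refine AddMonoidHom.ext fun m => ?_
          rw [← nsmul_one]
          exact hM m

/-- An equivariant function without fixed points sums to zero if the p-group acting is generated
by Engel elements of index `p - 1`. -/
theorem sum_eq_zero_of_no_fixed {X : Type*} [Fintype X] [MulAction Q X] (hQ : IsPGroup p Q)
    (ρ : Q →* AddMonoid.End M) (hM : ∀ m : M, p • m = 0) {E : Set Q}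
    (hE : Subgroup.closure E = ⊤) (hEn : ∀ e ∈ E, (ρ e - 1) ^ (p - 1) = 0)
    (F : X → M) (hF : ∀ (q : Q) x, F (q • x) = ρ q (F x)) (s : Finset X)
    (hs : ∀ x, x ∈ s ↔ ∃ q : Q, q • x ≠ x) : ∑ x ∈ s, F x = 0 := by
  classical
  let r := MulAction.orbitRel Q X
  rw [← Finset.sum_fiberwise s (fun x => (Quotient.mk r x)) F]
  refine Finset.sum_eq_zero fun o _ => ?_
  induction o using Quotient.inductionOn with
  | h x₀ =>
    by_cases hx : ∃ q : Q, q • x₀ ≠ x₀
    · haveI : Fintype (MulAction.orbit Q x₀) := Fintype.ofFinite _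
      have h := sum_eq_zero_of_transitive (X := MulAction.orbit Q x₀) hQ ρ hM hE hEn
        (fun y => F y) (fun q y => hF q y) ⟨x₀, MulAction.mem_orbit_self x₀⟩
        (by obtain ⟨q, hq⟩ := hx; exact ⟨q, fun h => hq (congrArg Subtype.val h)⟩)
      rw [← h]
      refine (Finset.sum_subtype _ (fun y => ?_) F)
      simp only [Finset.mem_filter, hs]
      refine ⟨fun hy => Quotient.exact hy.2, fun hy => ⟨?_, Quotient.sound hy⟩⟩
      by_contra hno
      push Not at hno
      obtain ⟨q, rfl⟩ := hy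
      obtain ⟨q', hq'⟩ := hx
      refine hq' ?_
      have h1 : q • x₀ = x₀ := by
        have := hno q⁻¹
        rwa [inv_smul_smul, eq_comm] at this
      have := hno q'
      simp only at this
      rwa [h1] at this
    · refine Finset.sum_eq_zero fun y hy => ?_
      simp only [Finset.mem_filter, hs] at hy
      obtain ⟨q, rfl⟩ := Quotient.exact hy.2
      obtain ⟨⟨q', hq'⟩, -⟩ := hy
      push Not at hx
      simp only at hq'
      exact absurd (by rw [hx q, hx q']) hq'

end CfsgLib.ConjFunctor
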