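import Cfsg.Agent.Lib.ConjFunctor.Factor
import Cfsg.Agent.Lib.ConjFunctor.EngelSum

/-!
# Fixed points under a group generated by Engel elements
-/

set_option autoImplicit false
set_option linter.style.haveILetI false

open scoped commutatorElement IsMulCommutative

namespace CfsgLib.ConjFunctor

variable {G : Type*} [Group G]

theorem map_iterCommutator {H : Type*} [Group H] (f : G →* H) (N K : Subgroup G) :
    ∀ n : ℕ, (Cfsg.iterCommutator N K n).map f = Cfsg.iterCommutator (N.map f) (K.map f) n
  | 0 => rfl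
  | n + 1 => by
    show (⁅Cfsg.iterCommutator N K n, K⁆).map f = ⁅Cfsg.iterCommutator (N.map f) (K.map f) n, K.map f⁆
    rw [Subgroup.map_commutator, map_iterCommutator f N K n]

/-- The elements acting as Engel elements of index `p - 1` on the chief factors below `A`. -/
def engelSet (p : ℕ) (A : Subgroup G) : Set G :=
  {e | ∀ U V : Subgroup G, Cfsg.IsChiefFactor U V → U ≤ A →
    Cfsg.iterCommutator U (Subgroup.zpowers e) (p - 1) ≤ V}

theorem conj_mem_engelSet {p : ℕ} {A : Subgroup G} {e : G} (h : e ∈ engelSet p A) (g : G) :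
    g * e * g⁻¹ ∈ engelSet p A := by
  intro U V hc hU
  haveI := hc.2.1
  haveI := hc.2.2.1
  have h1 := Subgroup.map_mono (f := (MulAut.conj g).toMonoidHom) (h U V hc hU)
  rw [map_iterCommutator, MonoidHom.map_zpowers] at h1
  simp only [MulEquiv.coe_toMonoidHom, MulAut.conj_apply] at h1
  rwa [show U.map (MulAut.conj g).toMonoidHom = U from cj_eq_self_of_normal g U,
    show V.map (MulAut.conj g).toMonoidHom = V from cj_eq_self_of_normal g V] at h1

variable {p : ℕ} [Fact p.Prime] [Finite G]

/-- Chief factors below `O_p(G)` have exponent `p`. -/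
theorem pow_mem_of_chiefFactor {U V : Subgroup G} (hc : Cfsg.IsChiefFactor U V)
    (hU : U ≤ Cfsg.pCore p G) (hab : ⁅U, U⁆ ≤ V) {u : G} (hu : u ∈ U) : u ^ p ∈ V := by
  haveI := hc.2.1
  haveI := hc.2.2.1
  set f := QuotientGroup.mk' V
  have hcm : ∀ a ∈ U, ∀ b ∈ U, Commute (f a) (f b) := by
    intro a ha b hb
    show f a * f b = f b * f a
    rw [← commutatorElement_eq_one_iff_mul_comm, ← map_commutatorElement]
    exact (QuotientGroup.eq_one_iff _).2 (hab (Subgroup.commutator_mem_commutator ha hb))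
  let K : Subgroup G :=
    { carrier := {u | u ∈ U ∧ u ^ p ∈ V}
      one_mem' := ⟨one_mem _, by rw [one_pow]; exact one_mem _⟩
      mul_mem' := fun {a b} ha hb => ⟨mul_mem ha.1 hb.1, by
        rw [← QuotientGroup.eq_one_iff, ← QuotientGroup.mk'_apply, map_pow, map_mul,
          (hcm a ha.1 b hb.1).mul_pow, ← map_pow, ← map_pow,
          show f (a ^ p) = 1 from (QuotientGroup.eq_one_iff _).2 ha.2,
          show f (b ^ p) = 1 from (QuotientGroup.eq_one_iff _).2 hb.2, one_mul]⟩
      inv_mem' := fun {a} ha => ⟨inv_mem ha.1, by rw [inv_pow]; exact inv_mem ha.2⟩ }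
  have hKn : K.Normal := ⟨fun x hx g => ⟨Subgroup.Normal.conj_mem ‹U.Normal› _ hx.1 g, by
    rw [conj_pow]; exact Subgroup.Normal.conj_mem ‹V.Normal› _ hx.2 g⟩⟩
  rcases hc.2.2.2 K hKn (fun v hv => ⟨hc.1.le hv, pow_mem hv p⟩) (fun x hx => hx.1) with h | h
  · exfalso
    have hne : U.map f ≠ ⊥ := by
      rw [Ne, Subgroup.map_eq_bot_iff, QuotientGroup.ker_mk']
      exact hc.1.not_ge
    have hUp : IsPGroup p ↥(U.map f) := ((CfsgLib.Solvable.pCore_isPGroup p G).to_le hU).map f
    obtain ⟨n, hn⟩ := hUp.exists_card_eq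
    have hdvd : p ∣ Nat.card ↥(U.map f) := by
      rw [hn]
      exact dvd_pow_self p fun h0 => hne (Subgroup.card_eq_one.1 (by rw [hn, h0, pow_zero]))
    obtain ⟨⟨_, u0, hu0, rfl⟩, hy⟩ := exists_prime_orderOf_dvd_card' p hdvd
    rw [← Subgroup.orderOf_coe] at hy
    simp only at hy
    have h1 : u0 ^ p ∈ V := (QuotientGroup.eq_one_iff _).1 <| by
      rw [← QuotientGroup.mk'_apply, map_pow, ← hy]; exact pow_orderOf_eq_one _
    have h2 : u0 ∈ V := h ▸ (show u0 ∈ K from ⟨hu0, h1⟩)
    rw [show f u0 = 1 from (QuotientGroup.eq_one_iff _).2 h2, orderOf_one] at hy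
    exact (Fact.out : p.Prime).one_lt.ne hy
  · exact (h.ge hu).2

/-- If `G` has an Engel element outside `O_p(G)` for the abelian normal `p`-subgroup `A`, then some
proper overgroup of a Sylow subgroup has the same fixed points as `G` on `A`. -/
theorem engel_fixed (S : Sylow p G) {A : Subgroup G} [A.Normal] (hA : A ≤ Cfsg.pCore p G)
    (hab : ∀ a ∈ A, ∀ b ∈ A, Commute a b) {g : G} (hgS : g ∈ (S : Subgroup G))
    (hgP : g ∉ Cfsg.pCore p G) (hg : g ∈ engelSet p A) :
    ∃ N : Subgroup G, (S : Subgroup G) ≤ N ∧ N < ⊤ ∧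
      ∀ v ∈ A, (∀ n ∈ N, Commute n v) → ∀ h : G, Commute h v := by
  classical
  set k : Set G := engelSet p A ∩ ((S : Subgroup G) : Set G) with hk
  set TE := Subgroup.closure k with hTE
  have hTES : TE ≤ (S : Subgroup G) := (Subgroup.closure_le _).2 Set.inter_subset_right
  have hgTE : g ∈ TE := Subgroup.subset_closure ⟨hg, hgS⟩
  set N := Subgroup.normalizer (TE : Set G) with hN
  have hweak : ∀ a : G, cj a TE ≤ (S : Subgroup G) → cj a TE = TE := by
    intro a ha
    refine Subgroup.eq_of_le_of_card_ge ?_ (card_cj a TE).ge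
    show TE.map _ ≤ TE
    rw [hTE, MonoidHom.map_closure, Subgroup.closure_le]
    rintro _ ⟨e, he, rfl⟩
    exact Subgroup.subset_closure ⟨conj_mem_engelSet he.1 a,
      ha (conj_mem_cj (Subgroup.subset_closure he))⟩
  have hSN : (S : Subgroup G) ≤ N := fun s hs =>
    cj_eq_self_iff.1 (hweak s (cj_le_of_mem hTES hs))
  have hfix : ∀ a : G, cj a⁻¹ TE ≤ N → a ∈ N := by
    intro a ha
    have hsyl : IsSyl p (S : Subgroup G) N := by
      refine ⟨hSN, S.isPGroup', fun h => S.not_dvd_index (h.trans ?_)⟩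
      exact Subgroup.relIndex_dvd_index_of_le hSN
    obtain ⟨m, hm, hle⟩ := hsyl.exists_cj_le (isPGroup_cj (S.isPGroup'.to_le hTES)) ha
    rw [← cj_mul] at hle
    have h2 : m * a⁻¹ ∈ N := cj_eq_self_iff.1 (hweak _ hle)
    have h3 : a⁻¹ ∈ N := by simpa using mul_mem (inv_mem hm) h2
    simpa using inv_mem h3
  have hNlt : N < ⊤ := by
    refine lt_top_iff_ne_top.2 fun h => hgP ?_
    haveI : TE.Normal := Subgroup.normalizer_eq_top_iff.1 h
    exact CfsgLib.Solvable.le_pCore inferInstance (S.isPGroup'.to_le hTES) hgTE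
  refine ⟨N, hSN, hNlt, ?_⟩
  suffices H : ∀ (c : ℕ) (U : Subgroup G), Nat.card ↥U ≤ c → U.Normal → U ≤ A →
      ∀ v ∈ U, (∀ n ∈ N, Commute n v) → ∀ h : G, Commute h v from
    fun v hv => H _ A le_rfl inferInstance le_rfl v hv
  intro c
  induction c with
  | zero => intro U hU; exact absurd hU (Nat.not_le.2 Nat.card_pos)
  | succ c ih =>
    intro U hc' hUn hUA v hv hvN h
    haveI := hUn
    rcases eq_or_ne U ⊥ with rfl | hne
    · rw [Subgroup.mem_bot.1 hv]; exact Commute.one_right h
    obtain ⟨V', -, hcf⟩ := exists_chiefFactor_top (V := (⊥ : Subgroup G)) (bot_lt_iff_ne_bot.2 hne)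
    haveI := hcf.2.2.1
    have hcard : Nat.card ↥V' < Nat.card ↥U :=
      (Subgroup.card_le_of_le hcf.1.le).lt_of_ne fun h =>
        hcf.1.ne (Subgroup.eq_of_le_of_card_ge hcf.1.le h.ge)
    haveI : IsMulCommutative ↥U := IsMulCommutative.of_comm fun a b =>
      Subtype.ext (hab a (hUA a.2) b (hUA b.2)).eq
    have habU : ⁅U, U⁆ ≤ V' := by
      rw [Subgroup.commutator_le]
      intro a ha b hb
      rw [commutatorElement_eq_one_iff_mul_comm.2 (hab a (hUA ha) b (hUA hb)).eq]
      exact one_mem _
    haveI := secImage_comm habU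
    let F0 : G ⧸ N → G := fun q => q.out * v * q.out⁻¹
    have hF0 : ∀ a : G, F0 (a : G ⧸ N) = a * v * a⁻¹ := by
      intro a
      obtain ⟨n, hn⟩ := QuotientGroup.mk_out_eq_mul N a
      show ((a : G ⧸ N).out) * v * ((a : G ⧸ N).out)⁻¹ = _
      rw [hn, mul_inv_rev]
      calc a * n * v * ((n : G)⁻¹ * a⁻¹) = a * ((n : G) * v * (n : G)⁻¹) * a⁻¹ := by group
        _ = a * v * a⁻¹ := by rw [(hvN n n.2).eq, mul_inv_cancel_right]
    have hF0e : ∀ (t : G) (q : G ⧸ N), F0 (t • q) = t * F0 q * t⁻¹ := by
      intro t q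
      induction q using QuotientGroup.induction_on with
      | H a =>
        show F0 ((t * a : G) : G ⧸ N) = t * F0 (a : G ⧸ N) * t⁻¹
        rw [hF0, hF0]; group
    let Fu : G ⧸ N → ↥U := fun q => ⟨F0 q, Subgroup.Normal.conj_mem hUn v hv q.out⟩
    haveI : Fintype (G ⧸ N) := Fintype.ofFinite _
    set tr : ↥U := ∏ q, Fu q with htr
    have htrfix : ∀ t : G, Commute t (tr : G) := by
      intro t
      have h1 : (MulAut.conjNormal t : MulAut ↥U) tr = tr := by
        rw [htr, map_prod]
        refine Finset.prod_equiv (MulAction.toPerm t) (by simp) (fun q _ => ?_)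
        refine Subtype.ext ?_
        rw [MulAut.conjNormal_apply]
        exact (hF0e t q).symm
      have h2 := congrArg Subtype.val h1
      rw [MulAut.conjNormal_apply] at h2
      exact mul_inv_eq_iff_eq_mul.1 h2
    -- modulo `V'` only the trivial coset contributes
    set c0 : G ⧸ N := ((1 : G) : G ⧸ N) with hc0
    have hsum : secClass U V' tr = secClass U V' ⟨v, hv⟩ := by
      have hTEN : TE ≤ N := hTES.trans hSN
      have hp0 : ∀ m : Additive ↥(secImage U V'), p • m = 0 := by
        intro m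
        obtain ⟨u, rfl⟩ := secClass_surjective U V' m
        show Additive.ofMul ((⟨_, _⟩ : ↥(secImage U V')) ^ p) = 0
        refine congrArg Additive.ofMul (Subtype.ext ?_)
        rw [SubmonoidClass.coe_pow, ← map_pow]
        exact (QuotientGroup.eq_one_iff _).2
          (pow_mem_of_chiefFactor hcf (hUA.trans hA) habU u.2)
      have hs : ∀ q : G ⧸ N, q ∈ Finset.univ.erase c0 ↔ ∃ t : ↥TE, t • q ≠ q := by
        intro q
        simp only [Finset.mem_erase, Finset.mem_univ, and_true]
        induction q using QuotientGroup.induction_on with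
        | H a =>
          constructor
          · intro hne
            by_contra hno
            push Not at hno
            refine hne (QuotientGroup.eq.2 ?_)
            rw [mul_one]
            refine inv_mem (hfix a ?_)
            intro x hx
            rw [mem_cj, inv_inv] at hx
            have h1 : (((a * x * a⁻¹) * a : G) : G ⧸ N) = ((a : G) : G ⧸ N) := hno ⟨_, hx⟩
            rw [QuotientGroup.eq] at h1
            have e : ((a * x * a⁻¹) * a)⁻¹ * a = x⁻¹ := by group
            rw [e] at h1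
            simpa using inv_mem h1
          · rintro ⟨t, ht⟩ heq
            refine ht ?_
            rw [heq, hc0]
            show (((t : G) * 1 : G) : G ⧸ N) = ((1 : G) : G ⧸ N)
            rw [QuotientGroup.eq]
            simpa using inv_mem (hTEN t.2)
      have hzero := sum_eq_zero_of_no_fixed (Q := ↥TE) (X := G ⧸ N) (p := p)
        (S.isPGroup'.to_le hTES) ((secRep U V').comp TE.subtype) hp0
        (E := ((↑) : ↥TE → G) ⁻¹' k) Subgroup.closure_closure_coe_preimage
        (fun e he => (iterCommutator_zpowers_le_iff U V' (e : G) (p - 1)).1 (he.1 U V' hcf hUA))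
        (fun q => secClass U V' (Fu q)) (fun t q => by
          show secClass U V' (Fu ((t : G) • q)) = secRep U V' (t : G) (secClass U V' (Fu q))
          rw [secRep_class]
          exact congrArg (secClass U V') (Subtype.ext (hF0e t q)))
        (Finset.univ.erase c0) hs
      have h1 : secClass U V' tr = ∑ q, secClass U V' (Fu q) := by
        show Additive.ofMul (((QuotientGroup.mk' V').subgroupMap U) tr) = _
        rw [htr, map_prod, ofMul_prod]
        rfl
      rw [h1, ← Finset.add_sum_erase _ _ (Finset.mem_univ c0), hzero, add_zero]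
      refine congrArg (secClass U V') (Subtype.ext ?_)
      show F0 c0 = v
      rw [hc0, hF0]; simp
    have hw : v⁻¹ * (tr : G) ∈ V' := (secClass_eq_iff U V').1 hsum.symm
    have hwN : ∀ n ∈ N, Commute n (v⁻¹ * (tr : G)) := fun n hn =>
      ((hvN n hn).inv_right).mul_right (htrfix n)
    have h3 := ih V' (by omega) hcf.2.2.1 (hcf.1.le.trans hUA) _ hw hwN h
    have e : v = (tr : G) * (v⁻¹ * (tr : G))⁻¹ := by group
    rw [e]
    exact (htrfix h).mul_right h3.inv_right

end CfsgLib.ConjFunctor
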