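import Cfsg.Agent.Lib.ConjFunctor.Factor

/-!
# Engel conditions on chief factors below a p-group from a critical subgroup
-/

set_option autoImplicit false
set_option linter.style.haveILetI false

open scoped commutatorElement IsMulCommutative

namespace CfsgLib.ConjFunctor

section HomSpace

variable {M N : Type*} [AddCommGroup M] [AddCommGroup N]

/-- The operator `f ↦ L ∘ f ∘ R - f` on homomorphisms. -/
def homOp (L : AddMonoid.End N) (R : AddMonoid.End M) : AddMonoid.End (M →+ N) :=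
  AddMonoidHom.mk' (fun f => (L.comp f).comp R - f) (fun f f' => by
    refine AddMonoidHom.ext fun m => ?_
    show L (f (R m) + f' (R m)) - (f m + f' m) = L (f (R m)) - f m + (L (f' (R m)) - f' m)
    rw [map_add]; abel)

theorem homOp_pow_eq_zero (L : AddMonoid.End N) (R : AddMonoid.End M) {i j n : ℕ}
    (hL : (L - 1) ^ j = 0) (hR : (R - 1) ^ i = 0) (hn : i + j ≤ n + 1) :
    (homOp L R) ^ n = 0 := by
  let Λ : AddMonoid.End N →+* AddMonoid.End (M →+ N) :=
    { toFun := fun A => AddMonoidHom.mk' (fun f => A.comp f) (fun f f' => by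
        ext m; exact map_add A (f m) (f' m))
      map_one' := rfl
      map_mul' := fun _ _ => rfl
      map_zero' := rfl
      map_add' := fun _ _ => rfl }
  let P : AddMonoid.End M → AddMonoid.End (M →+ N) := fun B =>
    AddMonoidHom.mk' (fun f => f.comp B) (fun _ _ => rfl)
  have hP : ∀ (B : AddMonoid.End M) (k : ℕ) (f : M →+ N), ((P B) ^ k) f = f.comp (B ^ k) := by
    intro B k
    induction k with
    | zero => intro f; rfl
    | succ k ih =>
      intro f
      rw [pow_succ']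
      show P B (((P B) ^ k) f) = _
      rw [ih, pow_succ]
      rfl
  have hP1 : (P R - 1) = P (R - 1) := by
    refine AddMonoidHom.ext fun f => AddMonoidHom.ext fun m => ?_
    show f (R m) - f m = f (R m - m)
    rw [map_sub]
  have hB : (P R - 1) ^ i = 0 := by
    refine AddMonoidHom.ext fun f => ?_
    rw [hP1]
    refine (hP (R - 1) i f).trans ?_
    rw [hR]
    refine AddMonoidHom.ext fun m => ?_
    exact map_zero f
  have hA : (Λ L - 1) ^ j = 0 := by rw [← map_one Λ, ← map_sub, ← map_pow, hL, map_zero]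
  have hcom : Commute (Λ L) (P R) := rfl
  have hA' : ((Λ L - 1) * P R) ^ j = 0 := by
    rw [(hcom.sub_left (Commute.one_left _)).mul_pow, hA, zero_mul]
  have hsum : ((Λ L - 1) * P R + (P R - 1)) ^ n = 0 := by
    refine Commute.add_pow_eq_zero_of_add_le_succ_of_pow_eq_zero ?_ hA' hB (by omega)
    exact ((hcom.sub_left (Commute.one_left _)).mul_left (Commute.refl (P R))).sub_right
      (Commute.one_right _)
  rw [← hsum]
  congr 1
  rw [sub_mul, one_mul, sub_add_sub_cancel]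
  rfl

end HomSpace

variable {G : Type*} [Group G] [Finite G] {p : ℕ} [Fact p.Prime]

/-- If `g` acts with indices `i` and `j` on the chief factors inside `Q` and inside its centre, it
acts with index `i + j - 1` on those inside `P`, for a critical subgroup `Q` of `P`. -/
theorem engel_of_critical {P Q : Subgroup G} [Q.Normal] (hP : P ≤ Cfsg.pCore p G)
    (hQP : Q ≤ P) (hQ3 : ⁅P, Q⁆ ≤ Q ⊓ Subgroup.centralizer (Q : Set G))
    (hQ4 : P ⊓ Subgroup.centralizer (Q : Set G) ≤ Q) {g : G} {i j : ℕ} (hi : 1 ≤ i)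
    (hQi : ∀ U V : Subgroup G, Cfsg.IsChiefFactor U V → U ≤ Q →
      Cfsg.iterCommutator U (Subgroup.zpowers g) i ≤ V)
    (hZj : ∀ U V : Subgroup G, Cfsg.IsChiefFactor U V →
      U ≤ Q ⊓ Subgroup.centralizer (Q : Set G) → Cfsg.iterCommutator U (Subgroup.zpowers g) j ≤ V)
    {U V : Subgroup G} (hc : Cfsg.IsChiefFactor U V) (hUP : U ≤ P) :
    Cfsg.iterCommutator U (Subgroup.zpowers g) (i + j - 1) ≤ V := by
  haveI := hc.2.1
  haveI := hc.2.2.1
  haveI : IsMulCommutative ↥(secImage U V) := secImage_comm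
    (le_trans (Subgroup.commutator_mono le_rfl (hUP.trans hP)) (commutator_chief_le hP hc hUP))
  rw [iterCommutator_zpowers_le_iff]
  obtain ⟨W, hW⟩ := (Set.toFinite {W : Subgroup G | W.Normal ∧ W ≤ U ∧ W ⊔ V = U}).exists_minimal
    ⟨U, hc.2.1, le_rfl, sup_eq_left.2 hc.1.le⟩
  haveI := hW.1.1
  have hWU := hW.1.2.1
  have hsmall : ∀ K : Subgroup G, K.Normal → K ≤ W → K ≠ W → K ≤ V := by
    intro K hK hKW hne
    haveI := hK
    rcases hc.2.2.2 (K ⊔ V) inferInstance le_sup_right (sup_le (hKW.trans hWU) hc.1.le) with h | h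
    · exact le_sup_left.trans h.le
    · exact absurd (le_antisymm hKW (hW.2 ⟨hK, hKW.trans hWU, h⟩ hKW)) hne
  suffices hmain : ∀ w ∈ W, (fun x : G => ⁅g, x⁆)^[i + j - 1] w ∈ V by
    refine AddMonoidHom.ext fun x => ?_
    obtain ⟨u, rfl⟩ := secClass_surjective U V x
    have hu : (u : G) ∈ W ⊔ V := by rw [hW.1.2.2]; exact u.2
    obtain ⟨w, hw, v, hv, he⟩ :=
      (CfsgLib.Solvable.mem_sup_of_le_normalizer (Subgroup.le_normalizer_of_normal (H := W))).1 hu
    have hcls : secClass U V u = secClass U V ⟨w, hWU hw⟩ := by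
      rw [secClass_eq_iff]
      show (u : G)⁻¹ * w ∈ V
      rw [← he, mul_inv_rev, mul_assoc, inv_mul_cancel, mul_one]
      exact inv_mem hv
    rw [hcls]
    exact (pow_secClass U V g _ _).trans ((secClass_eq_zero U V).2 (hmain w hw))
  by_cases hcent : ⁅Q, W⁆ = ⊥
  · have hWZ : W ≤ Q ⊓ Subgroup.centralizer (Q : Set G) := by
      rw [Subgroup.commutator_comm] at hcent
      have h1 := Subgroup.commutator_eq_bot_iff_le_centralizer.1 hcent
      exact le_inf (le_trans (le_inf (hWU.trans hUP) h1) hQ4) h1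
    have hWV : ¬ W ≤ V := fun h => hc.1.ne (by rw [← hW.1.2.2, sup_eq_right.2 h])
    have hc' : Cfsg.IsChiefFactor W (W ⊓ V) := by
      refine ⟨lt_of_le_of_ne inf_le_left fun h => hWV (inf_eq_left.1 h), inferInstance,
        inferInstance, fun N hN h1 h2 => ?_⟩
      rcases eq_or_ne N W with h | h
      · exact Or.inr h
      · exact Or.inl (le_antisymm (le_inf h2 (hsmall N hN h2 h)) h1)
    haveI : IsMulCommutative ↥(secImage W (W ⊓ V)) := secImage_comm
      (le_trans (Subgroup.commutator_mono le_rfl ((hWU.trans hUP).trans hP))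
        (commutator_chief_le (A := P) hP hc' (hWU.trans hUP)))
    intro w hw
    have h := (iterCommutator_zpowers_le_iff W (W ⊓ V) g j).1 (hZj _ _ hc' hWZ)
    have h' := DFunLike.congr_fun (pow_eq_zero_of_le (show j ≤ i + j - 1 by omega) h)
      (secClass W (W ⊓ V) ⟨w, hw⟩)
    exact ((secClass_eq_zero W (W ⊓ V)).1 ((pow_secClass W (W ⊓ V) g _ ⟨w, hw⟩).symm.trans h')).2
  · obtain ⟨Q1, hQ1⟩ := (Set.toFinite {K : Subgroup G | K.Normal ∧ K ≤ Q ∧ ⁅K, W⁆ ≠ ⊥}).exists_minimal
      ⟨Q, inferInstance, le_rfl, hcent⟩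
    haveI := hQ1.1.1
    have hQ1ne : Q1 ≠ ⊥ := fun h => hQ1.1.2.2 (by rw [h, Subgroup.commutator_bot_left])
    obtain ⟨Q2, -, hcQ⟩ := exists_chiefFactor_top (V := (⊥ : Subgroup G)) (bot_lt_iff_ne_bot.2 hQ1ne)
    haveI := hcQ.2.2.1
    have hQ2 : ⁅Q2, W⁆ = ⊥ := by
      by_contra h
      exact hcQ.1.not_ge (hQ1.2 ⟨hcQ.2.2.1, hcQ.1.le.trans hQ1.1.2.1, h⟩ hcQ.1.le)
    set Z1 := ⁅Q1, W⁆ with hZ1
    haveI : Z1.Normal := by rw [hZ1]; infer_instance
    have hZ1Q : Z1 ≤ Q ⊓ Subgroup.centralizer (Q : Set G) := by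
      refine le_trans ?_ hQ3
      rw [hZ1, Subgroup.commutator_comm]
      exact Subgroup.commutator_mono (hWU.trans hUP) hQ1.1.2.1
    obtain ⟨Z2, -, hcZ⟩ := exists_chiefFactor_top (V := (⊥ : Subgroup G))
      (bot_lt_iff_ne_bot.2 hQ1.1.2.2)
    haveI := hcZ.2.2.1
    have hZ1P : Z1 ≤ P := hZ1Q.trans (inf_le_left.trans hQP)
    have hQ1P : Q1 ≤ P := hQ1.1.2.1.trans hQP
    haveI : IsMulCommutative ↥(secImage Q1 Q2) := secImage_comm
      (le_trans (Subgroup.commutator_mono le_rfl (hQ1P.trans hP)) (commutator_chief_le hP hcQ hQ1P))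
    haveI : IsMulCommutative ↥(secImage Z1 Z2) := secImage_comm
      (le_trans (Subgroup.commutator_mono le_rfl (hZ1P.trans hP)) (commutator_chief_le hP hcZ hZ1P))
    have hZact : ∀ x ∈ P, ∀ z ∈ Z1, x * z * x⁻¹ * z⁻¹ ∈ Z2 := by
      intro x hx z hz
      have h := commutator_chief_le hP hcZ hZ1P (Subgroup.commutator_mem_commutator hz (hP hx))
      have := inv_mem h
      rw [commutatorElement_inv] at this
      simpa [commutatorElement_def] using this
    -- the pairing
    let φ : ↥W → ↥Q1 → Additive ↥(secImage Z1 Z2) := fun x q => secClass Z1 Z2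
      ⟨⁅(q : G), (x : G)⁆, Subgroup.commutator_mem_commutator q.2 x.2⟩
    have hφadd : ∀ (x : ↥W) (q q' : ↥Q1), φ x (q * q') = φ x q + φ x q' := by
      intro x q q'
      show secClass Z1 Z2 _ = _
      rw [add_comm, ← secClass_mul]
      refine congrArg (secClass Z1 Z2) (Subtype.ext ?_)
      show ⁅(q : G) * q', (x : G)⁆ = ⁅(q' : G), (x : G)⁆ * ⁅(q : G), (x : G)⁆
      have h1 : ⁅(q' : G), (x : G)⁆ ∈ Subgroup.centralizer (Q : Set G) :=
        (hZ1Q (Subgroup.commutator_mem_commutator q'.2 x.2)).2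
      have h2 := Subgroup.mem_centralizer_iff.1 h1 q (hQ1.1.2.1 q.2)
      have e : ⁅(q : G) * q', (x : G)⁆ = q * ⁅(q' : G), (x : G)⁆ * (q : G)⁻¹ * ⁅(q : G), (x : G)⁆ := by
        simp only [commutatorElement_def]; group
      rw [e, h2, mul_inv_cancel_right]
    have hφwd : ∀ (x : ↥W) (q q' : ↥Q1), secClass Q1 Q2 q = secClass Q1 Q2 q' → φ x q = φ x q' := by
      intro x q q' he
      rw [secClass_eq_iff] at he
      have hz : φ x (q⁻¹ * q') = 0 := by
        refine (secClass_eq_zero Z1 Z2).2 ?_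
        have h0 := Subgroup.commutator_mem_commutator he x.2
        rw [hQ2, Subgroup.mem_bot] at h0
        show ⁅((q⁻¹ * q' : ↥Q1) : G), (x : G)⁆ ∈ Z2
        rw [Subgroup.coe_mul, Subgroup.coe_inv, h0]
        exact one_mem _
      conv_rhs => rw [show q' = q * (q⁻¹ * q') by group, hφadd, hz, add_zero]
    let F : ↥W → (Additive ↥(secImage Q1 Q2) →+ Additive ↥(secImage Z1 Z2)) := fun x =>
      AddMonoidHom.mk' (fun m => φ x (Function.surjInv (secClass_surjective Q1 Q2) m)) (fun a b => by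
        rw [← hφadd]
        refine hφwd x _ _ ?_
        rw [secClass_mul, Function.surjInv_eq (secClass_surjective Q1 Q2),
          Function.surjInv_eq (secClass_surjective Q1 Q2), Function.surjInv_eq (secClass_surjective Q1 Q2)])
    have hF : ∀ (x : ↥W) (q : ↥Q1), F x (secClass Q1 Q2 q) = φ x q := fun x q =>
      hφwd x _ _ (Function.surjInv_eq _ _)
    let L := secRep Z1 Z2 g
    let R := secRep Q1 Q2 g⁻¹
    let Φ := homOp L R
    have hΦ : Φ ^ (i + j - 1) = 0 := by
      refine homOp_pow_eq_zero (i := i) (j := j) (n := i + j - 1) L R ?_ ?_ (by omega)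
      · exact (iterCommutator_zpowers_le_iff Z1 Z2 g j).1 (hZj _ _ hcZ hZ1Q)
      · exact secRep_inv_sub_one_pow Q1 Q2
          ((iterCommutator_zpowers_le_iff Q1 Q2 g i).1 (hQi _ _ hcQ hQ1.1.2.1))
    have hFmul : ∀ a b : ↥W, F (a * b) = F a + F b := by
      intro a b
      refine AddMonoidHom.ext fun m => ?_
      obtain ⟨q, rfl⟩ := secClass_surjective Q1 Q2 m
      rw [AddMonoidHom.add_apply, hF, hF, hF]
      show secClass Z1 Z2 _ = _
      rw [← secClass_mul, secClass_eq_iff]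
      show ⁅(q : G), (a : G) * b⁆⁻¹ * (⁅(q : G), (a : G)⁆ * ⁅(q : G), (b : G)⁆) ∈ Z2
      have hzb := Subgroup.commutator_mem_commutator q.2 b.2
      have h3 := hZact a ((hWU.trans hUP) a.2) _ hzb
      have e : ⁅(q : G), (a : G) * b⁆⁻¹ * (⁅(q : G), (a : G)⁆ * ⁅(q : G), (b : G)⁆) =
          ((a : G) * ⁅(q : G), (b : G)⁆ * (a : G)⁻¹)⁻¹ *
            ((a : G) * ⁅(q : G), (b : G)⁆ * (a : G)⁻¹ * ⁅(q : G), (b : G)⁆⁻¹)⁻¹ *
            ((a : G) * ⁅(q : G), (b : G)⁆ * (a : G)⁻¹) := by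
        simp only [commutatorElement_def]; group
      rw [e]
      simpa using (Subgroup.Normal.conj_mem ‹Z2.Normal› _ (inv_mem h3)
        ((a : G) * ⁅(q : G), (b : G)⁆ * (a : G)⁻¹)⁻¹)
    have hstep : ∀ x : ↥W, F ⟨⁅g, (x : G)⁆, commStep_mem x.2 1⟩ = Φ (F x) := by
      intro x
      have hgx : g * (x : G) * g⁻¹ ∈ W := Subgroup.Normal.conj_mem ‹_› _ x.2 g
      have e : (⟨⁅g, (x : G)⁆, commStep_mem x.2 1⟩ : ↥W) * x = ⟨g * x * g⁻¹, hgx⟩ :=
        Subtype.ext (by
          show ⁅g, (x : G)⁆ * x = g * x * g⁻¹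
          rw [commutatorElement_def, inv_mul_cancel_right])
      have h1 := hFmul ⟨⁅g, (x : G)⁆, commStep_mem x.2 1⟩ x
      rw [e] at h1
      have h2 : F ⟨g * x * g⁻¹, hgx⟩ = (L.comp (F x)).comp R := by
        refine AddMonoidHom.ext fun m => ?_
        obtain ⟨q, rfl⟩ := secClass_surjective Q1 Q2 m
        show _ = L (F x (R (secClass Q1 Q2 q)))
        rw [show R (secClass Q1 Q2 q) = _ from secRep_class Q1 Q2 g⁻¹ q, hF, hF]
        show secClass Z1 Z2 _ = secRep Z1 Z2 g (secClass Z1 Z2 _)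
        rw [secRep_class]
        refine congrArg (secClass Z1 Z2) (Subtype.ext ?_)
        show ⁅(q : G), g * x * g⁻¹⁆ = g * ⁅g⁻¹ * q * g⁻¹⁻¹, (x : G)⁆ * g⁻¹
        simp only [commutatorElement_def]; group
      show F ⟨⁅g, (x : G)⁆, commStep_mem x.2 1⟩ = (L.comp (F x)).comp R - F x
      rw [← h2, h1, add_sub_cancel_right]
    intro w hw
    have hiter : ∀ k : ℕ, F ⟨(fun x : G => ⁅g, x⁆)^[k] w, commStep_mem hw k⟩ = (Φ ^ k) (F ⟨w, hw⟩) := by
      intro k
      induction k with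
      | zero => rfl
      | succ k ih =>
        rw [pow_succ']
        show _ = Φ ((Φ ^ k) (F ⟨w, hw⟩))
        rw [← ih, ← hstep]
        congr 1
        exact Subtype.ext (by simp only [Function.iterate_succ', Function.comp_apply])
    have hK : (fun x : G => ⁅g, x⁆)^[i + j - 1] w ∈ Cfsg.sectionKernel Q1 Z2 ⊓ W := by
      refine ⟨mem_sectionKernel.2 fun q hq => ?_, commStep_mem hw _⟩
      have h := DFunLike.congr_fun (hiter (i + j - 1)) (secClass Q1 Q2 ⟨q, hq⟩)
      rw [hF, hΦ] at h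
      exact (secClass_eq_zero Z1 Z2).1 h
    haveI := sectionKernel_normal (U := Q1) (V := Z2)
    refine hsmall _ inferInstance inf_le_right (fun h => ?_) hK
    have h' : W ≤ Cfsg.sectionKernel Q1 Z2 := inf_eq_right.1 h
    exact hcZ.1.not_ge (commutator_le_iff_le_sectionKernel.2 h')

end CfsgLib.ConjFunctor
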