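import Cfsg.Agent.Lib.ConjFunctor.WeakClosure
import Mathlib.GroupTheory.Transfer
import Mathlib.GroupTheory.Abelianization.Defs

/-!
# Transfer to the normalizer of an Engel generated subgroup
-/

set_option autoImplicit false
set_option linter.style.haveILetI false

open scoped commutatorElement IsMulCommutative

namespace CfsgLib.ConjFunctor

variable {G : Type*} [Group G] [Finite G]

/-- The transfer at an element fixing every coset. -/
theorem transfer_eq_prod_conj (N : Subgroup G) {A : Type*} [CommGroup A] (ϕ : ↥N →* A) (r : G)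
    (hr : ∀ a : G, a⁻¹ * r * a ∈ N) [Fintype (G ⧸ N)] :
    MonoidHom.transfer ϕ r = ∏ q : G ⧸ N, ϕ ⟨q.out⁻¹ * r * q.out, hr _⟩ := by
  classical
  have hfix : ∀ q : G ⧸ N, r • q = q := by
    intro q
    induction q using QuotientGroup.induction_on with
    | H a =>
      show ((r * a : G) : G ⧸ N) = (a : G ⧸ N)
      rw [QuotientGroup.eq, show (r * a)⁻¹ * a = (a⁻¹ * r * a)⁻¹ by group]
      exact inv_mem (hr a)
  have hper : ∀ q : G ⧸ N, Function.minimalPeriod (r • ·) q = 1 := fun q =>
    Function.minimalPeriod_eq_one_iff_isFixedPt.2 (hfix q)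
  haveI : Fintype (Quotient (MulAction.orbitRel (Subgroup.zpowers r) (G ⧸ N))) := Fintype.ofFinite _
  have hbij : Function.Bijective
      (fun o : Quotient (MulAction.orbitRel (Subgroup.zpowers r) (G ⧸ N)) => o.out) := by
    refine ⟨Quotient.out_injective, fun q => ⟨Quotient.mk _ q, ?_⟩⟩
    obtain ⟨⟨t, ht⟩, he⟩ := MulAction.orbitRel_apply.1
      (Quotient.mk_out (s := MulAction.orbitRel (Subgroup.zpowers r) (G ⧸ N)) q)
    refine he.symm.trans ?_
    have hz : ∀ m : ℤ, r ^ m • q = q := fun m =>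
      MulAction.mem_stabilizer_iff.1
        (zpow_mem (MulAction.mem_stabilizer_iff.2 (hfix q) : r ∈ MulAction.stabilizer G q) m)
    obtain ⟨m, rfl⟩ := Subgroup.mem_zpowers_iff.1 ht
    exact hz m
  rw [MonoidHom.transfer_eq_prod_quotient_orbitRel_zpowers_quot]
  refine (Finset.prod_congr rfl fun o _ => ?_).trans
    (hbij.prod_comp (fun q : G ⧸ N => ϕ ⟨q.out⁻¹ * r * q.out, hr _⟩))
  refine congrArg ϕ (Subtype.ext ?_)
  show o.out.out⁻¹ * r ^ _ * o.out.out = _
  rw [hper, pow_one]

variable {p : ℕ} [Fact p.Prime]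

/-- An Engel element outside `O_p(G)` on all chief factors below `O_p(G)` puts `O_p(G) ∩ G'` into the
derived group of a proper overgroup of a Sylow subgroup. -/
theorem engel_transfer (S : Sylow p G) {g : G} (hgS : g ∈ (S : Subgroup G))
    (hgP : g ∉ Cfsg.pCore p G) (hg : g ∈ engelSet p (Cfsg.pCore p G)) :
    ∃ N : Subgroup G, (S : Subgroup G) ≤ N ∧ N < ⊤ ∧
      Cfsg.pCore p G ⊓ commutator G ≤ ⁅N, N⁆ := by
  classical
  haveI hPn : (Cfsg.pCore p G).Normal := CfsgLib.Solvable.pCore_normal p G
  have hPS : Cfsg.pCore p G ≤ (S : Subgroup G) := CfsgLib.Solvable.pCore_le_sylow S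
  set k : Set G := engelSet p (Cfsg.pCore p G) ∩ ((S : Subgroup G) : Set G) with hk
  set TE := Subgroup.closure k with hTE
  have hTES : TE ≤ (S : Subgroup G) := (Subgroup.closure_le _).2 Set.inter_subset_right
  have hgTE : g ∈ TE := Subgroup.subset_closure ⟨hg, hgS⟩
  set N := Subgroup.normalizer (TE : Set G) with hN
  have hweak : ∀ a : G, cj a TE ≤ (S : Subgroup G) → cj a TE = TE := by
    intro a ha
    refine Subgroup.eq_of_le_of_card_ge ?_ (card_cj a TE).ge
    show TE.map _ ≤ TE
    rw [hTE, MonoidHom.map_closure, Subgroup.closure_le]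
    rintro _ ⟨e, he, rfl⟩
    exact Subgroup.subset_closure ⟨conj_mem_engelSet he.1 a,
      ha (conj_mem_cj (Subgroup.subset_closure he))⟩
  have hSN : (S : Subgroup G) ≤ N := fun s hs =>
    cj_eq_self_iff.1 (hweak s (cj_le_of_mem hTES hs))
  have hfix : ∀ a : G, cj a⁻¹ TE ≤ N → a ∈ N := by
    intro a ha
    have hsyl : IsSyl p (S : Subgroup G) N := by
      refine ⟨hSN, S.isPGroup', fun h => S.not_dvd_index (h.trans ?_)⟩
      exact Subgroup.relIndex_dvd_index_of_le hSN
    obtain ⟨m, hm, hle⟩ := hsyl.exists_cj_le (isPGroup_cj (S.isPGroup'.to_le hTES)) ha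
    rw [← cj_mul] at hle
    have h2 : m * a⁻¹ ∈ N := cj_eq_self_iff.1 (hweak _ hle)
    have h3 : a⁻¹ ∈ N := by simpa using mul_mem (inv_mem hm) h2
    simpa using inv_mem h3
  have hNlt : N < ⊤ := by
    refine lt_top_iff_ne_top.2 fun h => hgP ?_
    haveI : TE.Normal := Subgroup.normalizer_eq_top_iff.1 h
    exact CfsgLib.Solvable.le_pCore inferInstance (S.isPGroup'.to_le hTES) hgTE
  refine ⟨N, hSN, hNlt, ?_⟩
  suffices H : ∀ (c : ℕ) (U : Subgroup G), Nat.card ↥U ≤ c → U.Normal → U ≤ Cfsg.pCore p G →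
      U ⊓ commutator G ≤ ⁅N, N⁆ from H _ _ le_rfl inferInstance le_rfl
  intro c
  induction c with
  | zero => intro U hU; exact absurd hU (Nat.not_le.2 Nat.card_pos)
  | succ c ih =>
    intro U hc' hUn hUP r hr
    haveI := hUn
    rcases eq_or_ne U ⊥ with rfl | hne
    · rw [Subgroup.mem_bot.1 hr.1]; exact one_mem _
    obtain ⟨V', -, hcf⟩ := exists_chiefFactor_top (V := (⊥ : Subgroup G)) (bot_lt_iff_ne_bot.2 hne)
    haveI := hcf.2.2.1
    have hcard : Nat.card ↥V' < Nat.card ↥U :=
      (Subgroup.card_le_of_le hcf.1.le).lt_of_ne fun h =>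
        hcf.1.ne (Subgroup.eq_of_le_of_card_ge hcf.1.le h.ge)
    have hih := ih V' (by omega) hcf.2.2.1 (hcf.1.le.trans hUP)
    have habU : ⁅U, U⁆ ≤ V' :=
      (Subgroup.commutator_mono le_rfl hUP).trans (commutator_chief_le le_rfl hcf hUP)
    haveI := secImage_comm habU
    have hUN : U ≤ N := (hUP.trans hPS).trans hSN
    have hconjN : ∀ (a : G), ∀ u ∈ U, a⁻¹ * u * a ∈ N := fun a u hu =>
      hUN (by simpa using hUn.conj_mem u hu a⁻¹)
    set B : Subgroup (Abelianization ↥N) := (V'.subgroupOf N).map Abelianization.of with hB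
    let ψ : ↥N →* Abelianization ↥N ⧸ B := (QuotientGroup.mk' B).comp Abelianization.of
    have hψV : ∀ x : ↥N, (x : G) ∈ V' → ψ x = 1 := fun x hx =>
      (QuotientGroup.eq_one_iff _).2 ⟨x, hx, rfl⟩
    have hinv : ∀ (n : ↥N) (x : ↥N), ψ (n⁻¹ * x * n) = ψ x := fun n x => by
      rw [map_mul, map_mul, map_inv, mul_comm (ψ n)⁻¹, inv_mul_cancel_right]
    let φ : (G ⧸ N) → (↥U →* Abelianization ↥N ⧸ B) := fun q =>
      MonoidHom.mk' (fun u => ψ ⟨q.out⁻¹ * (u : G) * q.out, hconjN _ u u.2⟩) (fun u u' => by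
        rw [← map_mul]
        refine congrArg ψ (Subtype.ext ?_)
        show q.out⁻¹ * ((u : G) * u') * q.out = q.out⁻¹ * u * q.out * (q.out⁻¹ * u' * q.out)
        group)
    have hφ : ∀ (a : G) (u : ↥U),
        φ (a : G ⧸ N) u = ψ ⟨a⁻¹ * (u : G) * a, hconjN a u u.2⟩ := by
      intro a u
      obtain ⟨n, hn⟩ := QuotientGroup.mk_out_eq_mul N a
      rw [← hinv n ⟨a⁻¹ * (u : G) * a, hconjN a u u.2⟩]
      refine congrArg ψ (Subtype.ext ?_)
      show (a : G ⧸ N).out⁻¹ * (u : G) * (a : G ⧸ N).out =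
        (n : G)⁻¹ * (a⁻¹ * (u : G) * a) * (n : G)
      rw [hn]; group
    have hφV : ∀ (q : G ⧸ N) (u : ↥U), (u : G) ∈ V' → φ q u = 1 := fun q u hu =>
      hψV _ (by simpa using Subgroup.Normal.conj_mem ‹V'.Normal› _ hu q.out⁻¹)
    let π : ↥U →* ↥(secImage U V') := (QuotientGroup.mk' V').subgroupMap U
    have hπ : Function.Surjective π := (QuotientGroup.mk' V').subgroupMap_surjective U
    let Φ : (G ⧸ N) → (Additive ↥(secImage U V') →+ Additive (Abelianization ↥N ⧸ B)) := fun q =>
      MonoidHom.toAdditive (π.liftOfSurjective hπ ⟨φ q, fun u hu => hφV q u <| by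
        have := congrArg Subtype.val (MonoidHom.mem_ker.1 hu)
        exact (QuotientGroup.eq_one_iff _).1 this⟩)
    have hΦ : ∀ (q : G ⧸ N) (u : ↥U), Φ q (secClass U V' u) = Additive.ofMul (φ q u) := by
      intro q u
      exact congrArg Additive.ofMul (MonoidHom.liftOfRightInverse_comp_apply _ _ _ _ u)
    let ρ : ↥TE →* AddMonoid.End
        (Additive ↥(secImage U V') →+ Additive (Abelianization ↥N ⧸ B)) :=
      { toFun := fun t => AddMonoidHom.mk'
          (fun f => f.comp (secRep U V' ((t : G)⁻¹))) (fun _ _ => rfl)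
        map_one' := by
          refine AddMonoidHom.ext fun f => AddMonoidHom.ext fun m => ?_
          show f (secRep U V' ((1 : G)⁻¹) m) = f m
          rw [inv_one, map_one]; rfl
        map_mul' := fun s t => by
          refine AddMonoidHom.ext fun f => AddMonoidHom.ext fun m => ?_
          show f (secRep U V' (((s : G) * t)⁻¹) m) =
            f (secRep U V' (t : G)⁻¹ (secRep U V' (s : G)⁻¹ m))
          rw [mul_inv_rev, map_mul]; rfl }
    have hp0 : ∀ f : Additive ↥(secImage U V') →+ Additive (Abelianization ↥N ⧸ B), p • f = 0 := by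
      intro f
      refine AddMonoidHom.ext fun m => ?_
      obtain ⟨u, rfl⟩ := secClass_surjective U V' m
      have h0 : p • secClass U V' u = 0 := by
        show Additive.ofMul ((⟨_, _⟩ : ↥(secImage U V')) ^ p) = 0
        refine congrArg Additive.ofMul (Subtype.ext ?_)
        rw [SubmonoidClass.coe_pow, ← map_pow]
        exact (QuotientGroup.eq_one_iff _).2 (pow_mem_of_chiefFactor hcf hUP habU u.2)
      show p • f (secClass U V' u) = 0
      rw [← map_nsmul, h0, map_zero]
    haveI : Fintype (G ⧸ N) := Fintype.ofFinite _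
    set c0 : G ⧸ N := ((1 : G) : G ⧸ N) with hc0
    have hTEN : TE ≤ N := hTES.trans hSN
    have hs : ∀ q : G ⧸ N, q ∈ Finset.univ.erase c0 ↔ ∃ t : ↥TE, t • q ≠ q := by
      intro q
      simp only [Finset.mem_erase, Finset.mem_univ, and_true]
      induction q using QuotientGroup.induction_on with
      | H a =>
        constructor
        · intro hne
          by_contra hno
          push Not at hno
          refine hne (QuotientGroup.eq.2 ?_)
          rw [mul_one]
          refine inv_mem (hfix a ?_)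
          intro x hx
          rw [mem_cj, inv_inv] at hx
          have h1 : (((a * x * a⁻¹) * a : G) : G ⧸ N) = ((a : G) : G ⧸ N) := hno ⟨_, hx⟩
          rw [QuotientGroup.eq] at h1
          have e : ((a * x * a⁻¹) * a)⁻¹ * a = x⁻¹ := by group
          rw [e] at h1
          simpa using inv_mem h1
        · rintro ⟨t, ht⟩ heq
          refine ht ?_
          rw [heq, hc0]
          show (((t : G) * 1 : G) : G ⧸ N) = ((1 : G) : G ⧸ N)
          rw [QuotientGroup.eq]
          simpa using inv_mem (hTEN t.2)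
    have hzero := sum_eq_zero_of_no_fixed (Q := ↥TE) (X := G ⧸ N) (p := p)
      (S.isPGroup'.to_le hTES) ρ hp0
      (E := ((↑) : ↥TE → G) ⁻¹' k) Subgroup.closure_closure_coe_preimage
      (fun e he => by
        have h1 := secRep_inv_sub_one_pow U V'
          ((iterCommutator_zpowers_le_iff U V' (e : G) (p - 1)).1 (he.1 U V' hcf hUP))
        refine AddMonoidHom.ext fun f => ?_
        have h2 : ∀ n : ℕ, ((ρ e - 1) ^ n) f = f.comp ((secRep U V' (e : G)⁻¹ - 1) ^ n) := by
          intro n
          induction n with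
          | zero => rfl
          | succ n ihn =>
            rw [pow_succ']
            show (ρ e - 1) (((ρ e - 1) ^ n) f) = _
            rw [ihn]
            refine AddMonoidHom.ext fun m => ?_
            show f (((secRep U V' (e : G)⁻¹ - 1) ^ n) (secRep U V' (e : G)⁻¹ m)) -
              f (((secRep U V' (e : G)⁻¹ - 1) ^ n) m) = f (((secRep U V' (e : G)⁻¹ - 1) ^ (n + 1)) m)
            rw [← map_sub, pow_succ]
            exact congrArg f (map_sub ((secRep U V' (e : G)⁻¹ - 1) ^ n) _ _).symm
        refine (h2 (p - 1)).trans (AddMonoidHom.ext fun m => ?_)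
        exact (congrArg f (DFunLike.congr_fun h1 m)).trans (map_zero f))
      Φ (fun t q => by
        refine AddMonoidHom.ext fun m => ?_
        obtain ⟨u, rfl⟩ := secClass_surjective U V' m
        show Φ ((t : G) • q) (secClass U V' u) = Φ q (secRep U V' (t : G)⁻¹ (secClass U V' u))
        rw [secRep_class, hΦ, hΦ]
        refine congrArg Additive.ofMul ?_
        induction q using QuotientGroup.induction_on with
        | H a =>
          show φ (((t : G) * a : G) : G ⧸ N) u = _
          rw [hφ, hφ]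
          refine congrArg ψ (Subtype.ext ?_)
          show ((t : G) * a)⁻¹ * (u : G) * ((t : G) * a) =
            a⁻¹ * ((t : G)⁻¹ * (u : G) * (t : G)⁻¹⁻¹) * a
          group)
      (Finset.univ.erase c0) hs
    -- evaluate the transfer at `r`
    have hV : MonoidHom.transfer ψ r = 1 := by
      have h1 : commutator G ≤ (MonoidHom.transfer ψ).ker :=
        Abelianization.commutator_subset_ker _
      exact MonoidHom.mem_ker.1 (h1 hr.2)
    rw [transfer_eq_prod_conj N ψ r (fun a => hconjN a r hr.1)] at hV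
    have hsum : ∏ q : G ⧸ N, φ q ⟨r, hr.1⟩ = 1 := hV
    have hrest : ∏ q ∈ Finset.univ.erase c0, φ q ⟨r, hr.1⟩ = 1 := by
      apply Additive.ofMul.injective
      rw [ofMul_prod, ofMul_one, Finset.sum_congr rfl (fun q _ => (hΦ q ⟨r, hr.1⟩).symm),
        ← AddMonoidHom.finsetSum_apply, hzero]
      rfl
    rw [← Finset.mul_prod_erase _ _ (Finset.mem_univ c0), hrest, mul_one, hc0, hφ] at hsum
    obtain ⟨y, hy, hyr⟩ := (QuotientGroup.eq_one_iff _).1 hsum
    have hd : y⁻¹ * ⟨(1 : G)⁻¹ * r * 1, hconjN 1 r hr.1⟩ ∈ commutator ↥N := by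
      have h1 := QuotientGroup.eq.1 hyr
      exact h1
    have hd' : (y : G)⁻¹ * r ∈ ⁅N, N⁆ := by
      rw [show ⁅N, N⁆ = (commutator ↥N).map N.subtype by
        rw [commutator_def, Subgroup.map_commutator, ← MonoidHom.range_eq_map, Subgroup.range_subtype]]
      exact ⟨_, hd, by simp⟩
    have hyG : (y : G) ∈ commutator G := by
      have h1 : (y : G)⁻¹ * r ∈ commutator G := by
        rw [commutator_def]
        exact Subgroup.commutator_mono le_top le_top hd'
      simpa using mul_mem (show r ∈ commutator G from hr.2) (inv_mem h1)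
    have hyN : (y : G) ∈ ⁅N, N⁆ := hih ⟨hy, hyG⟩
    simpa using mul_mem hyN hd'

end CfsgLib.ConjFunctor
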