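import Cfsg.Agent.Lib.ConjFunctor.Basic
import Cfsg.Agent.Lib.Transfer.PResidual

/-!
# Conjugation onto an extremal subgroup, corrected by the p-residual
-/

set_option autoImplicit false
set_option linter.style.haveILetI false

namespace CfsgLib.ExtremalConj

open CfsgLib.ConjFunctor

universe u

variable {G : Type u} [Group G] [Finite G] {p : ℕ} [Fact p.Prime]

theorem exists_conj (P : Sylow p G) {A C : Subgroup G} (hC : C ≤ (P : Subgroup G))
    (hext : IsSyl p ((P : Subgroup G) ⊓ Subgroup.normalizer (C : Set G))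
      (Subgroup.normalizer (C : Set G))) {h : G} (hh : cj h A = C) :
    ∃ g : G, cj g A = C ∧
      cj g ((P : Subgroup G) ⊓ Subgroup.normalizer (A : Set G)) ≤
        (P : Subgroup G) ⊓ Subgroup.normalizer (C : Set G) ∧
      h * g⁻¹ ∈ (Cfsg.pResidual p ↥(Subgroup.normalizer (C : Set G))).map
        (Subgroup.normalizer (C : Set G)).subtype := by
  set N := Subgroup.normalizer (C : Set G) with hN
  set R := (P : Subgroup G) ⊓ N with hR
  set M := Cfsg.pResidual p ↥N
  have hXN : cj h ((P : Subgroup G) ⊓ Subgroup.normalizer (A : Set G)) ≤ N := by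
    refine (cj_mono inf_le_right).trans ?_
    rw [cj_normalizer, hh]
  obtain ⟨n, hn, hle⟩ := hext.exists_cj_le (isPGroup_cj (g := h) (P.isPGroup'.to_le inf_le_left)) hXN
  let T : Sylow p ↥N := (hext.isPGroup.comap_of_injective N.subtype N.subtype_injective).toSylow
    hext.not_dvd
  haveI : M.Normal := CfsgLib.Transfer.pResidual_normal
  have htop : (⟨n, hn⟩ : ↥N) ∈ (T : Subgroup ↥N) ⊔ M := by
    rw [CfsgLib.Transfer.sylow_sup_pResidual T]; trivial
  obtain ⟨r, hr, m, hm, he⟩ := Subgroup.mem_sup_of_normal_right.1 htop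
  have hT : (T : Subgroup ↥N) = R.subgroupOf N := IsPGroup.toSylow_coe _ _
  have hrR : (r : G) ∈ R := by
    rw [hT] at hr
    exact hr
  refine ⟨(m : G) * h, ?_, ?_, ?_⟩
  · rw [cj_mul, hh]
    exact cj_eq_self_iff.2 m.2
  · have e : (m : G) = (r : G)⁻¹ * n := by
      rw [← show (r : G) * m = n from congrArg Subtype.val he, inv_mul_cancel_left]
    rw [cj_mul, e, cj_mul]
    refine (cj_mono hle).trans ?_
    exact (cj_eq_self_iff.2 (Subgroup.le_normalizer (inv_mem hrR))).le
  · rw [mul_inv_rev, mul_inv_cancel_left]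
    exact inv_mem (Subgroup.mem_map_of_mem N.subtype hm)

end CfsgLib.ExtremalConj
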