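import Cfsg.Agent.Lib.ConjFunctor.Chief

/-!
# Abelian normal sections as modules; iterated commutators with one element
-/

set_option autoImplicit false
set_option linter.style.haveILetI false

open scoped commutatorElement IsMulCommutative

namespace CfsgLib.ConjFunctor

variable {G : Type*} [Group G]

/-- The image of `U` in `G ⧸ V`. -/
abbrev secImage (U V : Subgroup G) [V.Normal] : Subgroup (G ⧸ V) := U.map (QuotientGroup.mk' V)

instance secImage_normal (U V : Subgroup G) [U.Normal] [V.Normal] : (secImage U V).Normal :=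
  Subgroup.Normal.map ‹_› _ (QuotientGroup.mk'_surjective V)

theorem secImage_comm {U V : Subgroup G} [V.Normal] (hab : ⁅U, U⁆ ≤ V) :
    IsMulCommutative ↥(secImage U V) := by
  refine IsMulCommutative.of_comm ?_
  rintro ⟨_, a, ha, rfl⟩ ⟨_, b, hb, rfl⟩
  refine Subtype.ext ?_
  show QuotientGroup.mk' V a * QuotientGroup.mk' V b = QuotientGroup.mk' V b * QuotientGroup.mk' V a
  rw [← commutatorElement_eq_one_iff_mul_comm, ← map_commutatorElement, QuotientGroup.mk'_apply,
    QuotientGroup.eq_one_iff]
  exact hab (Subgroup.commutator_mem_commutator ha hb)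

section Rep

variable (U V : Subgroup G) [U.Normal] [V.Normal] [IsMulCommutative ↥(secImage U V)]

/-- Conjugation on the abelian section `U / V`. -/
def secRep : G →* AddMonoid.End (Additive ↥(secImage U V)) where
  toFun g := MonoidHom.toAdditive
    (MulAut.conjNormal (QuotientGroup.mk' V g) : MulAut ↥(secImage U V)).toMonoidHom
  map_one' := by rw [map_one, map_one]; rfl
  map_mul' g h := by rw [map_mul, map_mul]; rfl

/-- The class of an element of `U` in the section `U / V`. -/
def secClass (u : ↥U) : Additive ↥(secImage U V) :=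
  Additive.ofMul ⟨QuotientGroup.mk' V u, u, u.2, rfl⟩

theorem secClass_surjective : Function.Surjective (secClass U V) := by
  intro x
  obtain ⟨u, hu, he⟩ := (Additive.toMul x).2
  exact ⟨⟨u, hu⟩, congrArg Additive.ofMul (Subtype.ext he)⟩

theorem secClass_mul (a b : ↥U) : secClass U V (a * b) = secClass U V a + secClass U V b := by
  refine congrArg Additive.ofMul (Subtype.ext ?_)
  exact map_mul (QuotientGroup.mk' V) (a : G) b

theorem secClass_eq_zero {u : ↥U} : secClass U V u = 0 ↔ (u : G) ∈ V := by
  constructor
  · intro h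
    exact (QuotientGroup.eq_one_iff (u : G)).1
      (congrArg Subtype.val (congrArg Additive.toMul h))
  · intro h
    exact congrArg Additive.ofMul (Subtype.ext ((QuotientGroup.eq_one_iff (u : G)).2 h))

theorem secClass_one : secClass U V 1 = 0 := (secClass_eq_zero U V).2 (one_mem V)

theorem secClass_eq_iff {a b : ↥U} : secClass U V a = secClass U V b ↔ (a : G)⁻¹ * b ∈ V := by
  rw [show ((a : G)⁻¹ * b) = ((a⁻¹ * b : ↥U) : G) from rfl,
    ← secClass_eq_zero U V (u := a⁻¹ * b), secClass_mul]
  have h : secClass U V a⁻¹ + secClass U V a = 0 := by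
    rw [← secClass_mul, inv_mul_cancel, secClass_one]
  constructor
  · intro he; rw [← he, h]
  · intro he
    have := he.trans h.symm
    exact (add_left_cancel this).symm

theorem secRep_class (g : G) (u : ↥U) :
    secRep U V g (secClass U V u) =
      secClass U V ⟨g * u * g⁻¹, Subgroup.Normal.conj_mem ‹_› _ u.2 g⟩ := by
  refine congrArg Additive.ofMul (Subtype.ext ?_)
  show QuotientGroup.mk' V g * QuotientGroup.mk' V u * (QuotientGroup.mk' V g)⁻¹ =
    QuotientGroup.mk' V (g * u * g⁻¹)
  simp only [map_mul, map_inv]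

/-- `secRep g - 1` is the commutator with `g`. -/
theorem secRep_sub_one_class (g : G) (u : ↥U) :
    (secRep U V g - 1) (secClass U V u) =
      secClass U V ⟨⁅g, (u : G)⁆, by
        rw [commutatorElement_def]
        exact mul_mem (Subgroup.Normal.conj_mem ‹_› _ u.2 g) (inv_mem u.2)⟩ := by
  show secRep U V g (secClass U V u) - secClass U V u = _
  rw [secRep_class, sub_eq_iff_eq_add, ← secClass_mul]
  refine congrArg (secClass U V) (Subtype.ext ?_)
  show g * u * g⁻¹ = ⁅g, (u : G)⁆ * u
  rw [commutatorElement_def, inv_mul_cancel_right]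

/-- Iterated commutators with one element, read in the section. -/
theorem iterCommutator_zpowers_le_iff (g : G) (n : ℕ) :
    Cfsg.iterCommutator U (Subgroup.zpowers g) n ≤ V ↔ (secRep U V g - 1) ^ n = 0 := by
  set δ := secRep U V g - 1 with hδ
  have hle : ∀ k, Cfsg.iterCommutator U (Subgroup.zpowers g) k ≤ U := fun k => by
    induction k with
    | zero => exact le_rfl
    | succ k ih => exact le_trans (Subgroup.commutator_mono ih le_rfl) (Subgroup.commutator_le_left U _)
  constructor
  · intro h
    have key : ∀ (k : ℕ) (u : ↥U), ∃ w : ↥U,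
        (w : G) ∈ Cfsg.iterCommutator U (Subgroup.zpowers g) k ∧
          (δ ^ k) (secClass U V u) = secClass U V w := by
      intro k
      induction k with
      | zero => exact fun u => ⟨u, u.2, rfl⟩
      | succ k ih =>
        intro u
        obtain ⟨w, hw, he⟩ := ih u
        have h1 : ⁅g, (w : G)⁆ ∈ Cfsg.iterCommutator U (Subgroup.zpowers g) (k + 1) := by
          rw [← commutatorElement_inv]
          exact inv_mem (Subgroup.commutator_mem_commutator hw (Subgroup.mem_zpowers g))
        refine ⟨⟨_, hle _ h1⟩, h1, ?_⟩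
        rw [pow_succ']
        show δ ((δ ^ k) (secClass U V u)) = _
        rw [he, hδ, secRep_sub_one_class]
    refine AddMonoidHom.ext fun x => ?_
    obtain ⟨u, rfl⟩ := secClass_surjective U V x
    obtain ⟨w, hw, he⟩ := key n u
    exact he.trans ((secClass_eq_zero U V).2 (h hw))
  · intro h
    let D : ℕ → Subgroup G := fun k =>
      { carrier := {u | ∃ hu : u ∈ U, (δ ^ k) (secClass U V ⟨u, hu⟩) = 0}
        one_mem' := ⟨one_mem U, by
          show (δ ^ k) (secClass U V 1) = 0
          rw [secClass_one, map_zero]⟩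
        mul_mem' := fun {a b} ⟨ha, ha'⟩ ⟨hb, hb'⟩ => ⟨mul_mem ha hb, by
          show (δ ^ k) (secClass U V (⟨a, ha⟩ * ⟨b, hb⟩)) = 0
          rw [secClass_mul, map_add, ha', hb', add_zero]⟩
        inv_mem' := fun {a} ⟨ha, ha'⟩ => ⟨inv_mem ha, by
          have h0 : secClass U V (⟨a, ha⟩⁻¹) + secClass U V ⟨a, ha⟩ = 0 := by
            rw [← secClass_mul, inv_mul_cancel, secClass_one]
          show (δ ^ k) (secClass U V ⟨a, ha⟩⁻¹) = 0
          rw [eq_neg_of_add_eq_zero_left h0, map_neg, ha', neg_zero]⟩ }
    have hconj : ∀ (x : G) (k : ℕ), Commute (secRep U V x) δ → ∀ u ∈ D k, x * u * x⁻¹ ∈ D k := by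
      rintro x k hx u ⟨hu, hu'⟩
      refine ⟨Subgroup.Normal.conj_mem ‹_› _ hu x, ?_⟩
      rw [← secRep_class U V x ⟨u, hu⟩]
      show (δ ^ k * secRep U V x) _ = 0
      rw [← (hx.pow_right k).eq]
      show secRep U V x ((δ ^ k) _) = 0
      rw [hu', map_zero]
    have hcomm : ∀ x ∈ Subgroup.zpowers g, Commute (secRep U V x) δ := by
      intro x hx
      obtain ⟨m, rfl⟩ := Subgroup.mem_zpowers_iff.1 hx
      refine Commute.sub_right ?_ (Commute.one_right _)
      show secRep U V (g ^ m) * secRep U V g = secRep U V g * secRep U V (g ^ m)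
      rw [← map_mul, ← map_mul, ((Commute.refl g).zpow_left m).eq]
    have hDU : ∀ k, D k ≤ U := fun k u hu => hu.1
    have hstep : ∀ k, ⁅D (k + 1), Subgroup.zpowers g⁆ ≤ D k := by
      intro k
      rw [Subgroup.commutator_le]
      intro u hu x hx
      -- the elements `x` of `⟨g⟩` with `⁅D (k+1), x⁆ ≤ D k` form a subgroup containing `g`
      let S : Subgroup G :=
        { carrier := {y | Commute (secRep U V y) δ ∧ ∀ w ∈ D (k + 1), ⁅w, y⁆ ∈ D k}
          one_mem' := ⟨by rw [map_one]; exact Commute.one_left _,
            fun w _ => by rw [commutatorElement_one_right]; exact one_mem _⟩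
          mul_mem' := fun {a b} ha hb => ⟨by rw [map_mul]; exact ha.1.mul_left hb.1, fun w hw => by
            have e : ⁅w, a * b⁆ = ⁅w, a⁆ * (a * ⁅w, b⁆ * a⁻¹) := by
              simp only [commutatorElement_def]; group
            rw [e]
            exact mul_mem (ha.2 w hw) (hconj a k ha.1 _ (hb.2 w hw))⟩
          inv_mem' := fun {a} ha => by
            have hc : Commute (secRep U V a⁻¹) δ := by
              have h1 : secRep U V a⁻¹ * secRep U V a = 1 := by
                rw [← map_mul, inv_mul_cancel, map_one]
              have h2 : secRep U V a * secRep U V a⁻¹ = 1 := by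
                rw [← map_mul, mul_inv_cancel, map_one]
              show secRep U V a⁻¹ * δ = δ * secRep U V a⁻¹
              calc secRep U V a⁻¹ * δ = secRep U V a⁻¹ * δ * (secRep U V a * secRep U V a⁻¹) := by
                    rw [h2, mul_one]
                _ = secRep U V a⁻¹ * (secRep U V a * δ) * secRep U V a⁻¹ := by
                    rw [ha.1.eq]; simp only [mul_assoc]
                _ = δ * secRep U V a⁻¹ := by rw [← mul_assoc, h1, one_mul]
            refine ⟨hc, fun w hw => ?_⟩
            have e : ⁅w, a⁻¹⁆ = a⁻¹ * ⁅w, a⁆⁻¹ * (a⁻¹)⁻¹ := by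
              simp only [commutatorElement_def]; group
            rw [e]
            exact hconj _ k hc _ (inv_mem (ha.2 w hw)) }
      have hg : g ∈ S := by
        refine ⟨hcomm g (Subgroup.mem_zpowers g), fun w hw => ?_⟩
        obtain ⟨hwU, hw'⟩ := hw
        have h1 : ⁅g, w⁆ ∈ D k := by
          refine ⟨?_, ?_⟩
          · rw [commutatorElement_def]
            exact mul_mem (Subgroup.Normal.conj_mem ‹_› _ hwU g) (inv_mem hwU)
          · rw [← secRep_sub_one_class U V g ⟨w, hwU⟩, ← hδ]
            rw [pow_succ] at hw'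
            exact hw'
        rw [← commutatorElement_inv]
        exact inv_mem h1
      exact ((Subgroup.zpowers_le.2 hg) hx).2 u hu
    have hind : ∀ j k, j + k = n → Cfsg.iterCommutator U (Subgroup.zpowers g) j ≤ D k := by
      intro j
      induction j with
      | zero =>
        intro k hk u hu
        refine ⟨hu, ?_⟩
        rw [show k = n by omega, h]
        rfl
      | succ j ih =>
        intro k hk
        exact le_trans (Subgroup.commutator_mono (ih (k + 1) (by omega)) le_rfl) (hstep k)
    intro u hu
    obtain ⟨hu', h0⟩ := hind n 0 (by omega) hu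
    exact (secClass_eq_zero U V).1 h0

end Rep

end CfsgLib.ConjFunctor

namespace CfsgLib.ConjFunctor

variable {G : Type*} [Group G]

theorem commStep_mem {U : Subgroup G} [U.Normal] {g u : G} (hu : u ∈ U) :
    ∀ k, (fun x : G => ⁅g, x⁆)^[k] u ∈ U := by
  intro k
  induction k with
  | zero => exact hu
  | succ k ih =>
    rw [Function.iterate_succ', Function.comp_apply]
    exact Subgroup.commutator_le_right ⊤ U
      (Subgroup.commutator_mem_commutator (Subgroup.mem_top g) ih)

theorem pow_secClass (U V : Subgroup G) [U.Normal] [V.Normal] [IsMulCommutative ↥(secImage U V)]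
    (g : G) (k : ℕ) (u : ↥U) :
    ((secRep U V g - 1) ^ k) (secClass U V u) =
      secClass U V ⟨(fun x : G => ⁅g, x⁆)^[k] u, commStep_mem u.2 k⟩ := by
  induction k with
  | zero => rfl
  | succ k ih =>
    rw [pow_succ']
    show (secRep U V g - 1) (((secRep U V g - 1) ^ k) _) = _
    rw [ih, secRep_sub_one_class]
    refine congrArg (secClass U V) (Subtype.ext ?_)
    show ⁅g, (fun x : G => ⁅g, x⁆)^[k] (u : G)⁆ = (fun x : G => ⁅g, x⁆)^[k + 1] (u : G)
    rw [Function.iterate_succ', Function.comp_apply]

theorem secRep_inv_sub_one_pow (U V : Subgroup G) [U.Normal] [V.Normal]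
    [IsMulCommutative ↥(secImage U V)] {g : G} {n : ℕ} (h : (secRep U V g - 1) ^ n = 0) :
    (secRep U V g⁻¹ - 1) ^ n = 0 := by
  set R := secRep U V g
  set R' := secRep U V g⁻¹
  have h1 : R' * R = 1 := by rw [← map_mul, inv_mul_cancel, map_one]
  have hc : R' * R = R * R' := by rw [h1, ← map_mul, mul_inv_cancel, map_one]
  have he : R' - 1 = (-R') * (R - 1) := by
    refine AddMonoidHom.ext fun m => ?_
    have h2 : R' (R m) = m := DFunLike.congr_fun h1 m
    show R' m - m = -(R' (R m - m))
    rw [map_sub, h2, neg_sub]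
  have hcom : Commute (-R') (R - 1) := by
    refine AddMonoidHom.ext fun m => ?_
    have h2 : R' (R m) = R (R' m) := DFunLike.congr_fun hc m
    show -(R' (R m - m)) = R (-(R' m)) - -(R' m)
    rw [map_sub, map_neg, h2]
    abel
  rw [he, hcom.mul_pow, h, mul_zero]

end CfsgLib.ConjFunctor
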