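import Cfsg.Agent.Lib.ConjFunctor.WeakClosure

/-!
# Engel and quadratic elements give the local input for weak closure
-/

set_option autoImplicit false
set_option linter.style.haveILetI false

open scoped commutatorElement

namespace CfsgLib.ConjFunctor

variable {G : Type*} [Group G] [Finite G] {p : ℕ} [Fact p.Prime]

/-- The Sylow subgroup of `↥H` given by a Sylow subgroup of `H`. -/
theorem exists_sylow_map {H T : Subgroup G} (hT : IsSyl p T H) :
    ∃ S : Sylow p H, (S : Subgroup H).map H.subtype = T ∧ (S : Subgroup H) = T.subgroupOf H := by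
  let S : Sylow p H := IsPGroup.toSylow (hT.isPGroup.comap_of_injective H.subtype
    (Subgroup.subtype_injective H)) hT.not_dvd
  have hS : (S : Subgroup H) = T.subgroupOf H := IsPGroup.toSylow_coe _ _
  refine ⟨S, ?_, hS⟩
  rw [hS, Subgroup.subgroupOf_map_subtype, inf_eq_left.2 hT.le]

/-- The centre of `O_p(H)` inside `↥H`. -/
abbrev coreCenter (p : ℕ) (H : Type*) [Group H] : Subgroup H :=
  Cfsg.pCore p H ⊓ Subgroup.centralizer (Cfsg.pCore p H : Set H)

instance coreCenter_normal (p : ℕ) (H : Type*) [Group H] : (coreCenter p H).Normal := by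
  haveI := CfsgLib.Solvable.pCore_normal p H
  infer_instance

theorem coreCenter_comm (p : ℕ) (H : Type*) [Group H] :
    ∀ a ∈ coreCenter p H, ∀ b ∈ coreCenter p H, Commute a b :=
  fun _ ha _ hb => Subgroup.mem_centralizer_iff.1 hb.2 _ ha.1

theorem map_coreCenter_le {H : Subgroup G} :
    (coreCenter p H).map H.subtype ≤
      Cfsg.pCoreOf p H ⊓ Subgroup.centralizer ((Cfsg.pCoreOf p H : Subgroup G) : Set G) := by
  rintro _ ⟨x, hx, rfl⟩
  refine ⟨⟨x, hx.1, rfl⟩, Subgroup.mem_centralizer_iff.2 ?_⟩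
  rintro _ ⟨y, hy, rfl⟩
  exact congrArg Subtype.val (Subgroup.mem_centralizer_iff.1 hx.2 y hy)

theorem le_coreCenter {H : Subgroup G} :
    Cfsg.pCoreOf p H ⊓ Subgroup.centralizer ((Cfsg.pCoreOf p H : Subgroup G) : Set G) ≤
      (coreCenter p H).map H.subtype := by
  rintro x ⟨⟨y, hy, rfl⟩, hx⟩
  refine ⟨y, ⟨hy, Subgroup.mem_centralizer_iff.2 fun z hz => Subtype.ext ?_⟩, rfl⟩
  exact Subgroup.mem_centralizer_iff.1 hx _ ⟨z, hz, rfl⟩

theorem mem_coreCenter {H T : Subgroup G} (hT : IsSyl p T H) {a : H}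
    (ha : (a : G) ∈ Cfsg.pCoreOf p H) (hc : (a : G) ∈ Subgroup.centralizer (T : Set G)) :
    a ∈ coreCenter p H := by
  obtain ⟨b, hb, he⟩ := ha
  obtain rfl : b = a := Subtype.ext he
  exact ⟨hb, Subgroup.mem_centralizer_iff.2 fun z hz => Subtype.ext
    (Subgroup.mem_centralizer_iff.1 hc _ (pCoreOf_le_isSyl hT ⟨z, hz, rfl⟩))⟩

omit [Finite G] [Fact p.Prime] in
theorem commutator_comm_one {g u : G} {U : Subgroup G} (hu : u ∈ U)
    (h : ⁅⁅U, Subgroup.zpowers g⁆, Subgroup.zpowers g⁆ = ⊥) : ⁅g, ⁅g, u⁆⁆ = 1 := by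
  have hg := Subgroup.mem_zpowers g
  have h1 : ⁅⁅g, u⁆, g⁆ ∈ ⁅⁅U, Subgroup.zpowers g⁆, Subgroup.zpowers g⁆ := by
    refine Subgroup.commutator_mem_commutator ?_ hg
    rw [← commutatorElement_inv]
    exact inv_mem (Subgroup.commutator_mem_commutator hu hg)
  rw [h, Subgroup.mem_bot] at h1
  rw [← commutatorElement_inv, h1, inv_one]

/-- Engel elements on the chief factors in the centre of `O_p` give weak closure of central
elements. -/
theorem fixLocal_of_engel (W : Subgroup G → Subgroup G)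
    (hloc : ∀ H T : Subgroup G, IsSyl p T H →
      ¬ H ≤ Subgroup.normalizer ((W T : Subgroup G) : Set G) →
      ∃ g : G, g ∈ T ∧ g ∉ Cfsg.pCoreOf p H ∧ ∀ U V : Subgroup ↥H, Cfsg.IsChiefFactor U V →
        U.map H.subtype ≤ Cfsg.pCoreOf p H ⊓
          Subgroup.centralizer ((Cfsg.pCoreOf p H : Subgroup G) : Set G) →
        Cfsg.iterCommutator (U.map H.subtype) (Subgroup.zpowers g) (p - 1) ≤ V.map H.subtype)
    (A : Subgroup G) :
    FixLocal p W A (Subgroup.centralizer (A : Set G))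
      (fun T => A ≤ Subgroup.centralizer (T : Set G)) := by
  intro H T hT hAT hAd hn hAP hM h hh
  obtain ⟨g, hgT, hgP, hg⟩ := hloc H T hT hn
  obtain ⟨S, hST, hS⟩ := exists_sylow_map hT
  obtain ⟨N, hSN, hN, hfix⟩ := engel_fixed S (A := coreCenter p H) inf_le_left
    (coreCenter_comm p H) (g := (⟨g, hT.le hgT⟩ : H)) (hS ▸ hgT)
    (fun h => hgP ⟨_, h, rfl⟩) (fun U V hc hU => by
      rw [← Subgroup.map_le_map_iff_of_injective H.subtype_injective, map_iterCommutator,
        MonoidHom.map_zpowers]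
      exact hg U V hc ((Subgroup.map_mono hU).trans map_coreCenter_le))
  have hNK : N.map H.subtype ≤ Subgroup.centralizer (A : Set G) := by
    refine hM _ (hST ▸ Subgroup.map_mono hSN) (lt_of_le_of_ne (Subgroup.map_subtype_le _) ?_)
    intro he
    refine hN.ne (eq_top_iff.2 fun x _ => ?_)
    obtain ⟨y, hy, hyx⟩ := he.ge x.2
    rwa [show x = y from Subtype.ext hyx.symm]
  refine Subgroup.mem_centralizer_iff.2 fun a ha => ?_
  have hmem := mem_coreCenter hT (a := ⟨a, hT.le (hAT ha)⟩) (hAP ha) (hAd ha)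
  have hc := hfix _ hmem (fun n hn' => Subtype.ext
    (Subgroup.mem_centralizer_iff.1 (hNK ⟨n, hn', rfl⟩) a ha).symm) ⟨h, hh⟩
  exact (congrArg Subtype.val hc.eq).symm

/-- Quadratic elements on the centre of `O_p` give weak closure of central p-th powers. -/
theorem fixLocal_of_quadratic (W : Subgroup G → Subgroup G)
    (hloc : ∀ H T : Subgroup G, IsSyl p T H →
      ¬ H ≤ Subgroup.normalizer ((W T : Subgroup G) : Set G) →
      ∃ g : G, g ∈ T ∧ g ∉ Cfsg.pCoreOf p H ∧
        ⁅⁅Cfsg.pCoreOf p H ⊓ Subgroup.centralizer ((Cfsg.pCoreOf p H : Subgroup G) : Set G),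
          Subgroup.zpowers g⁆, Subgroup.zpowers g⁆ = ⊥)
    (A K : Subgroup G) (hAK : Subgroup.centralizer (A : Set G) ≤ K) :
    FixLocal p W A K
      (fun T => ∀ a ∈ A, ∃ z ∈ T, z ∈ Subgroup.centralizer (T : Set G) ∧ a = z ^ p) := by
  intro H T hT hAT hAd hn hAP hM
  obtain ⟨g, hgT, hgP, hg⟩ := hloc H T hT hn
  obtain ⟨S, hST, hS⟩ := exists_sylow_map hT
  set C := Subgroup.centralizer (Cfsg.pCore p H : Set H) with hC
  haveI := CfsgLib.Solvable.pCore_normal p H
  haveI : C.Normal := by rw [hC]; infer_instance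
  have hCA : Subgroup.centralizer (A.subgroupOf H : Set H) ≤ K.subgroupOf H := by
    intro x hx
    refine hAK (Subgroup.mem_centralizer_iff.2 fun a ha => ?_)
    exact congrArg Subtype.val
      (Subgroup.mem_centralizer_iff.1 hx ⟨a, hT.le (hAT ha)⟩ (show a ∈ A from ha))
  have hCK : C ≤ K.subgroupOf H := by
    refine le_trans ?_ hCA
    refine Subgroup.centralizer_le fun x hx => ?_
    obtain ⟨y, hy, he⟩ := hAP hx
    rwa [show x = y from Subtype.ext he.symm]
  have hMle : ∀ N : Subgroup H, (S : Subgroup H) ≤ N → N ≠ ⊤ → N ≤ K.subgroupOf H := by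
    intro N hSN hN x hx
    refine hM (N.map H.subtype) (hST ▸ Subgroup.map_mono hSN)
      (lt_of_le_of_ne (Subgroup.map_subtype_le _) fun he => hN (eq_top_iff.2 fun y _ => ?_))
      ⟨x, hx, rfl⟩
    obtain ⟨y', hy', hye⟩ := he.ge y.2
    rwa [show y = y' from Subtype.ext hye.symm]
  have hSC : (S : Subgroup H) ≤
      Subgroup.normalizer (((S : Subgroup H) ⊓ C : Subgroup H) : Set H) := fun s hs => by
    refine cj_eq_self_iff.1 ?_
    rw [cj_inf, cj_eq_self_of_mem hs, cj_eq_self_of_normal]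
  intro h hh
  by_cases htop : Subgroup.normalizer (((S : Subgroup H) ⊓ C : Subgroup H) : Set H) = ⊤
  · haveI := Subgroup.normalizer_eq_top_iff.1 htop
    have hle : (S : Subgroup H) ⊓ C ≤ Cfsg.pCore p H :=
      CfsgLib.Solvable.le_pCore inferInstance (S.isPGroup'.to_le inf_le_left)
    obtain ⟨N, hSN, hN, hfix⟩ := quad_fixed S (V := coreCenter p H) inf_le_left
      (coreCenter_comm p H) (g := (⟨g, hT.le hgT⟩ : H)) (hS ▸ hgT)
      (fun h => hgP ⟨_, h, rfl⟩) (fun u hu => Subtype.ext <| by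
        exact commutator_comm_one (map_coreCenter_le ⟨u, hu, rfl⟩) hg)
    refine hfix (A.subgroupOf H) (K.subgroupOf H) (fun a ha => ?_) hCA (hMle N hSN hN.ne) ⟨h, hh⟩
    obtain ⟨z, hzT, hzc, hz⟩ := hAd a ha
    have hzS : (⟨z, hT.le hzT⟩ : H) ∈ (S : Subgroup H) := hS ▸ hzT
    have hzC : (⟨z, hT.le hzT⟩ : H) ∈ C := Subgroup.mem_centralizer_iff.2 fun y hy => Subtype.ext
      (Subgroup.mem_centralizer_iff.1 hzc _ (pCoreOf_le_isSyl hT ⟨y, hy, rfl⟩))
    refine ⟨⟨z, hT.le hzT⟩, ⟨hle ⟨hzS, hzC⟩, hzC⟩, fun s hs => Subtype.ext ?_, Subtype.ext hz⟩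
    exact Subgroup.mem_centralizer_iff.1 hzc s (by rw [hS] at hs; exact hs)
  · obtain ⟨c, hc, hch⟩ := frattini_argument S C (⟨h, hh⟩ : H)
    have := (K.subgroupOf H).mul_mem ((K.subgroupOf H).inv_mem (hCK hc)) (hMle _ hSC htop hch)
    rwa [inv_mul_cancel_left] at this

end CfsgLib.ConjFunctor
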