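import Mathlib.GroupTheory.SpecificGroups.KleinFour
import Mathlib.GroupTheory.OrderOfElement
import Mathlib.Tactic.Group

/-!
# A four-group of involutions conjugate to one acting without fixed points on normal subgroups
-/

set_option autoImplicit false

namespace CfsgLib.FpfInvolution

variable {H : Type*} [Group H]

theorem inverts [Finite H] {N : Subgroup H} [N.Normal] {e : H} (he : e * e = 1)
    (hfix : ∀ n ∈ N, e * n = n * e → n = 1) : ∀ n ∈ N, e * n * e = n⁻¹ := by
  have hei : e⁻¹ = e := inv_eq_of_mul_eq_one_right he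
  have hconj : ∀ n ∈ N, e * n * e ∈ N := fun n hn => by
    simpa [hei] using ‹N.Normal›.conj_mem n hn e
  let f : ↥N → ↥N := fun m => ⟨e * m * e * (m : H)⁻¹, mul_mem (hconj m m.2) (inv_mem m.2)⟩
  have hinj : Function.Injective f := by
    intro a b hab
    have h1 : e * a * e * (a : H)⁻¹ = e * b * e * (b : H)⁻¹ := congrArg Subtype.val hab
    have h1' : e * a * e = e * b * e * (b : H)⁻¹ * a := by rw [← h1, inv_mul_cancel_right]
    have h2 : (b : H)⁻¹ * a = 1 := hfix _ (mul_mem (inv_mem b.2) a.2) (by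
      calc e * ((b : H)⁻¹ * a) = e * (b : H)⁻¹ * (e * e) * a * (e * e) := by
            rw [he]; simp [mul_assoc]
        _ = e * (b : H)⁻¹ * e * (e * a * e) * e := by simp [mul_assoc]
        _ = e * (b : H)⁻¹ * e * (e * b * e * (b : H)⁻¹ * a) * e := by rw [h1']
        _ = e * (b : H)⁻¹ * (e * e) * b * e * (b : H)⁻¹ * a * e := by simp [mul_assoc]
        _ = (e * e) * ((b : H)⁻¹ * a * e) := by rw [he]; simp only [← mul_assoc, mul_one, inv_mul_cancel_right, he]
        _ = (b : H)⁻¹ * a * e := by rw [he, one_mul])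
    exact Subtype.ext (inv_mul_eq_one.1 h2).symm
  intro n hn
  obtain ⟨m, hm⟩ := (Finite.injective_iff_surjective.1 hinj) ⟨n, hn⟩
  have hn' : e * m * e * (m : H)⁻¹ = n := congrArg Subtype.val hm
  rw [← hn']
  calc e * (e * m * e * (m : H)⁻¹) * e = (e * e) * (m * e * (m : H)⁻¹ * e) := by group
    _ = (e * m * e * (m : H)⁻¹)⁻¹ := by
          rw [he, one_mul, mul_inv_rev, mul_inv_rev, mul_inv_rev, inv_inv, hei]
          simp [mul_assoc]

theorem eq_bot [Finite H] (z : H) (hz : orderOf z = 2)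
    (hN : ∀ N : Subgroup H, N.Normal → N ≠ ⊤ → N ⊓ Subgroup.centralizer ({z} : Set H) = ⊥)
    (E : Subgroup H) (hE : IsKleinFour ↥E) (hc : ∀ e ∈ E, e ≠ 1 → IsConj z e) (N : Subgroup H)
    [hNn : N.Normal] (hab : IsMulCommutative ↥N) : N = ⊥ := by
  haveI := hE
  obtain ⟨e, f, hef, he, hf⟩ : ∃ e f : ↥E, e ≠ f ∧ e ≠ 1 ∧ f ≠ 1 := by
    haveI : Finite ↥E := inferInstance
    have h4 : Nat.card ↥E = 4 := IsKleinFour.card_four
    by_contra hno
    push Not at hno
    haveI : Fintype ↥E := Fintype.ofFinite _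
    classical
    have : (Finset.univ : Finset ↥E).card ≤ 2 := by
      by_cases h : ∃ e : ↥E, e ≠ 1
      · obtain ⟨e, he⟩ := h
        refine le_trans (Finset.card_le_card (t := {1, e}) fun x _ => ?_) Finset.card_le_two
        by_cases hx : x = e
        · simp [hx]
        · simp [hno e x (Ne.symm hx) he]
      · push Not at h
        exact le_trans (Finset.card_le_one.2 fun a _ b _ => (h a).trans (h b).symm) (by norm_num)
    rw [Finset.card_univ, ← Nat.card_eq_fintype_card, h4] at this
    omega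
  have hne : ∀ x : ↥E, x ≠ 1 → (x : H) ≠ 1 := fun x hx h => hx (Subtype.ext h)
  by_cases htop : N = ⊤
  · subst htop
    haveI := hab
    have hcen : ∀ x : H, ∀ y : H, x * y = y * x := fun x y =>
      congrArg Subtype.val (mul_comm' (⟨x, trivial⟩ : ↥(⊤ : Subgroup H)) ⟨y, trivial⟩)
    have hz' : ∀ x : ↥E, x ≠ 1 → (x : H) = z := fun x hx => by
      obtain ⟨c, hc'⟩ := isConj_iff.1 (hc _ x.2 (hne x hx))
      rw [← hc', hcen c z, mul_inv_cancel_right]
    exact absurd (Subtype.ext ((hz' e he).trans (hz' f hf).symm)) hef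
  · have hsq : ∀ x : ↥E, (x : H) * x = 1 := fun x => by
      rw [← Subgroup.coe_mul, IsKleinFour.mul_self, Subgroup.coe_one]
    have hinv : ∀ x : ↥E, x ≠ 1 → ∀ n ∈ N, (x : H) * n * x = n⁻¹ := fun x hx => by
      refine inverts (hsq x) fun n hn hcn => ?_
      obtain ⟨c, hc'⟩ := isConj_iff.1 (hc _ x.2 (hne x hx))
      have hm : c⁻¹ * n * c ∈ N ⊓ Subgroup.centralizer ({z} : Set H) := by
        refine ⟨by simpa using hNn.conj_mem n hn c⁻¹, Subgroup.mem_centralizer_singleton_iff.2 ?_⟩
        calc c⁻¹ * n * c * z = c⁻¹ * (n * (c * z * c⁻¹)) * c := by group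
          _ = c⁻¹ * ((c * z * c⁻¹) * n) * c := by rw [hc', hcn]
          _ = z * (c⁻¹ * n * c) := by group
      rw [hN N hNn htop, Subgroup.mem_bot] at hm
      have := congrArg (fun y => c * y * c⁻¹) hm
      simpa [mul_assoc] using this
    refine (Subgroup.eq_bot_iff_forall N).2 fun n hn => ?_
    have hefn : (e * f : ↥E) ≠ 1 := fun h => hef
      (mul_right_cancel (h.trans (IsKleinFour.mul_self f).symm))
    have h1 := hinv (e * f) hefn n hn
    have h2 : (e : H) * f = f * e := by
      haveI := IsKleinFour.isMulCommutative (G := ↥E)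
      rw [← Subgroup.coe_mul, ← Subgroup.coe_mul]; exact congrArg Subtype.val (mul_comm' e f)
    have h3 : ((e * f : ↥E) : H) * n * (e * f : ↥E) = n := by
      rw [Subgroup.coe_mul]
      calc (e : H) * f * n * (e * f) = e * (f * n * f) * e := by
            nth_rewrite 2 [h2]; group
        _ = n := by rw [hinv f hf n hn, hinv e he _ (inv_mem hn), inv_inv]
    rw [h3] at h1
    have h4 := hinv e he n hn
    rw [← h1] at h4
    obtain ⟨c, hc'⟩ := isConj_iff.1 (hc _ e.2 (hne e he))
    have hcn : (e : H) * n = n * e := by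
      calc (e : H) * n = (e * n * e) * e := by rw [mul_assoc (_ * n), hsq e, mul_one]
        _ = n * e := by rw [h4]
    have hm : c⁻¹ * n * c ∈ N ⊓ Subgroup.centralizer ({z} : Set H) := by
      refine ⟨by simpa using hNn.conj_mem n hn c⁻¹, Subgroup.mem_centralizer_singleton_iff.2 ?_⟩
      calc c⁻¹ * n * c * z = c⁻¹ * (n * (c * z * c⁻¹)) * c := by group
        _ = c⁻¹ * ((c * z * c⁻¹) * n) * c := by rw [hc', hcn]
        _ = z * (c⁻¹ * n * c) := by group
    rw [hN N hNn htop, Subgroup.mem_bot] at hm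
    have := congrArg (fun y => c * y * c⁻¹) hm
    simpa [mul_assoc] using this

theorem isSimple [Finite H] (z : H) (hz : orderOf z = 2)
    (hN : ∀ N : Subgroup H, N.Normal → N ≠ ⊤ → N ⊓ Subgroup.centralizer ({z} : Set H) = ⊥)
    (E : Subgroup H) (hE : IsKleinFour ↥E) (hc : ∀ e ∈ E, e ≠ 1 → IsConj z e) :
    IsSimpleGroup H := by
  haveI : Nontrivial H := ⟨z, 1, fun h => by rw [h, orderOf_one] at hz; omega⟩
  refine ⟨fun N hNn => or_iff_not_imp_right.2 fun htop => ?_⟩
  haveI := hNn
  have hz2 : z * z = 1 := by rw [← pow_two, ← hz, pow_orderOf_eq_one]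
  have hinv := inverts (N := N) hz2 fun n hn hzn => by
    have : n ∈ N ⊓ Subgroup.centralizer ({z} : Set H) :=
      ⟨hn, Subgroup.mem_centralizer_singleton_iff.2 hzn.symm⟩
    rwa [hN N hNn htop, Subgroup.mem_bot] at this
  refine eq_bot z hz hN E hE hc N (IsMulCommutative.of_comm fun a b => Subtype.ext ?_)
  have h := hinv _ (mul_mem a.2 b.2)
  have e : z * ((a : H) * b) * z = (z * a * z) * (z * b * z) := by
    calc z * ((a : H) * b) * z = z * a * (z * z) * b * z := by rw [hz2]; group
      _ = (z * a * z) * (z * b * z) := by group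
  rw [e, hinv _ a.2, hinv _ b.2] at h
  show (a : H) * b = b * a
  have := congrArg (·⁻¹) h
  simpa using this.symm

end CfsgLib.FpfInvolution
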