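import Cfsg.Agent.Lib.ConjFunctor.TransferReduce

/-!
# Control of transfer by one functor
-/

set_option autoImplicit false
set_option linter.style.haveILetI false

namespace CfsgLib.ConjFunctor

universe u

variable {p : ℕ} [Fact p.Prime] {W : ∀ (Q : Type u) [Group Q], Subgroup Q}

omit [Fact p.Prime] in
theorem tgt_singleton {H : Type u} [Group H] (S : Subgroup H) :
    tgt ({W} : Set (∀ (Q : Type u) [Group Q], Subgroup Q)) S =
      S ⊓ ⁅Subgroup.normalizer ((Cfsg.inducedFunctor (G := H) W S : Subgroup H) : Set H),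
        Subgroup.normalizer ((Cfsg.inducedFunctor (G := H) W S : Subgroup H) : Set H)⁆ := by
  simp [tgt]

theorem controlsTransferIn_of_inf_le {H : Type u} [Group H] [Finite H] (S : Sylow p H)
    (h : (S : Subgroup H) ⊓ commutator H ≤
      tgt ({W} : Set (∀ (Q : Type u) [Group Q], Subgroup Q)) (S : Subgroup H)) :
    Cfsg.ControlsTransferIn p (Cfsg.inducedFunctor (G := H) W) ⊤ := by
  refine ⟨S, le_top, S.isPGroup', (isSyl_top S).not_dvd, ?_⟩
  rw [top_inf_eq, ← commutator_def, ← tgt_singleton]
  exact le_antisymm h (tgt_le _)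

variable {G : Type u} [Group G]

/-- Engel elements in the non-normal case give the constrained input. -/
theorem transferInput_of_engel (H : Type u) [Group H] [Finite H]
    (h : Constrained p H → ∀ S : Sylow p H,
      ¬ (Cfsg.inducedFunctor (G := H) W (S : Subgroup H)).Normal →
      ∃ g : H, g ∈ (S : Subgroup H) ∧ g ∉ Cfsg.pCore p H ∧
        ∀ U V : Subgroup H, Cfsg.IsChiefFactor U V → U ≤ Cfsg.pCore p H →
          Cfsg.iterCommutator U (Subgroup.zpowers g) (p - 1) ≤ V) :
    TransferInput p ({W} : Set (∀ (Q : Type u) [Group Q], Subgroup Q)) H := by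
  intro hcon S hover
  have hPS : Cfsg.pCore p H ≤ (S : Subgroup H) := CfsgLib.Solvable.pCore_le_sylow S
  by_cases hn : (Cfsg.inducedFunctor (G := H) W (S : Subgroup H)).Normal
  · haveI := hn
    rw [tgt_singleton, Subgroup.normalizer_eq_top, ← commutator_def]
    exact inf_le_inf_right _ hPS
  · obtain ⟨g, hgS, hgP, hg⟩ := h hcon S hn
    obtain ⟨N, hSN, hN, hle⟩ := engel_transfer S hgS hgP hg
    exact fun x hx => hover N hSN hN ⟨hPS hx.1, hle hx⟩

/-- Control of transfer in every section from the constrained input. -/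
theorem controlsTransfer_sections [Finite G] (hW : Cfsg.IsCharPFunctor.{u} p W)
    (hin : ∀ (H : Type u) [Group H] [Finite H], IsSec G H →
      TransferInput p ({W} : Set (∀ (Q : Type u) [Group Q], Subgroup Q)) H)
    (H : Type u) [Group H] [Finite H] (hsec : IsSec G H) (S : Sylow p H) :
    Cfsg.ControlsTransferIn p (Cfsg.inducedFunctor (G := H) W) ⊤ ∧
    (S : Subgroup H) ⊓ commutator H = (S : Subgroup H) ⊓
      ⁅Subgroup.normalizer ((Cfsg.inducedFunctor (G := H) W (S : Subgroup H) : Subgroup H) : Set H),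
        Subgroup.normalizer
          ((Cfsg.inducedFunctor (G := H) W (S : Subgroup H) : Subgroup H) : Set H)⁆ := by
  have h := transfer_reduce (𝓦 := ({W} : Set (∀ (Q : Type u) [Group Q], Subgroup Q)))
    (fun V hV => by rw [Set.mem_singleton_iff] at hV; rw [hV]; exact hW) hin H hsec S
  exact ⟨controlsTransferIn_of_inf_le S h,
    le_antisymm (h.trans (tgt_singleton _).le) ((tgt_singleton _).ge.trans (tgt_le _))⟩

/-- A Sylow subgroup pulled back along an isomorphism. -/
theorem exists_sylow_equiv {A B : Type u} [Group A] [Group B] [Finite A] (e : A ≃* B)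
    (S : Sylow p B) : ∃ T : Sylow p A, (T : Subgroup A).map e.toMonoidHom = (S : Subgroup B) := by
  haveI : Finite B := Finite.of_equiv A e.toEquiv
  have hs : Function.Surjective e.symm.toMonoidHom := e.symm.surjective
  refine ⟨S.mapSurjective hs, ?_⟩
  rw [Sylow.coe_mapSurjective, Subgroup.map_map]
  convert Subgroup.map_id (S : Subgroup B)
  exact MonoidHom.ext fun x => by simp

/-- Transport of the Engel hypothesis along an isomorphism. -/
theorem engel_equiv {A B : Type u} [Group A] [Group B] [Finite A] (e : A ≃* B)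
    (hW : Cfsg.IsCharPFunctor.{u} p W) {T : Sylow p A} {S : Sylow p B}
    (hTS : (T : Subgroup A).map e.toMonoidHom = (S : Subgroup B)) {n : ℕ}
    (h : ¬ (Cfsg.inducedFunctor (G := A) W (T : Subgroup A)).Normal →
      ∃ g : A, g ∈ (T : Subgroup A) ∧ g ∉ Cfsg.pCore p A ∧
        ∀ U V : Subgroup A, Cfsg.IsChiefFactor U V → U ≤ Cfsg.pCore p A →
          Cfsg.iterCommutator U (Subgroup.zpowers g) n ≤ V)
    (hn : ¬ (Cfsg.inducedFunctor (G := B) W (S : Subgroup B)).Normal) :
    ∃ g : B, g ∈ (S : Subgroup B) ∧ g ∉ Cfsg.pCore p B ∧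
      ∀ U V : Subgroup B, Cfsg.IsChiefFactor U V → U ≤ Cfsg.pCore p B →
        Cfsg.iterCommutator U (Subgroup.zpowers g) n ≤ V := by
  obtain ⟨g, hg, hgP, hgE⟩ := h fun hN => hn <| by
    rw [← hTS, ← map_inducedFunctor_equiv hW e _ T.isPGroup']
    exact hN.map _ e.surjective
  refine ⟨e g, hTS ▸ ⟨g, hg, rfl⟩, fun hm => hgP ?_, fun U V hc hU => ?_⟩
  · rw [← CfsgLib.Solvable.map_pCore_mulEquiv (p := p) e] at hm
    exact (Subgroup.mem_map_iff_mem e.injective).1 hm
  · have hUe : (U.map e.symm.toMonoidHom).map e.toMonoidHom = U := by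
      rw [Subgroup.map_map]
      convert Subgroup.map_id U
      exact MonoidHom.ext fun x => by simp
    have hVe : (V.map e.symm.toMonoidHom).map e.toMonoidHom = V := by
      rw [Subgroup.map_map]
      convert Subgroup.map_id V
      exact MonoidHom.ext fun x => by simp
    have h1 := hgE _ _ (isChiefFactor_equiv e.symm hc)
      ((Subgroup.map_mono hU).trans (CfsgLib.Solvable.map_pCore_mulEquiv (p := p) e.symm).le)
    have h2 := Subgroup.map_mono (f := e.toMonoidHom) h1
    rw [map_iterCommutator, hUe, hVe, MonoidHom.map_zpowers] at h2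
    exact h2

omit [Fact p.Prime] in
theorem iterCommutator_le_of_le {H : Type u} [Group H] {U V Z : Subgroup H} [V.Normal] {m n : ℕ}
    (h : Cfsg.iterCommutator U Z m ≤ V) (hmn : m ≤ n) : Cfsg.iterCommutator U Z n ≤ V := by
  induction n, hmn using Nat.le_induction with
  | base => exact h
  | succ k _ ih => exact (Subgroup.commutator_mono ih le_rfl).trans (Subgroup.commutator_le_left V Z)

end CfsgLib.ConjFunctor
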