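import Cfsg.Agent.Lib.ConjFunctor.FusionReduce
import Cfsg.Agent.Lib.ConjFunctor.TransferMain
import Cfsg.Prelude.Def_EvenType

/-!
# Control of fusion: the standard inputs
-/

set_option autoImplicit false
set_option linter.style.haveILetI false

namespace CfsgLib.ConjFunctor

universe u

variable {p : ℕ} [Fact p.Prime] {𝓦 : Set (∀ (Q : Type u) [Group Q], Subgroup Q)}
  {W W₁ W₂ : ∀ (Q : Type u) [Group Q], Subgroup Q}

/-- Chains transport along isomorphisms. -/
theorem fused_equiv (h𝓦 : ∀ W ∈ 𝓦, Cfsg.IsCharPFunctor.{u} p W) {A B : Type u} [Group A] [Group B]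
    [Finite A] (e : A ≃* B)
    (h : Cfsg.FamilyControlsStrongFusionIn p ((fun W => Cfsg.inducedFunctor (G := A) W) '' 𝓦) ⊤)
    (S : Sylow p B) (D : Subgroup B) (g : B) (hD : D ≤ (S : Subgroup B))
    (hgD : cj g D ≤ (S : Subgroup B)) : Fused 𝓦 (S : Subgroup B) D g := by
  obtain ⟨T, hT⟩ := exists_sylow_equiv e S
  obtain ⟨g₀, rfl⟩ := e.surjective g
  have hDm : (D.comap e.toMonoidHom).map e.toMonoidHom = D :=
    Subgroup.map_comap_eq_self_of_surjective e.surjective D
  have h1 : D.comap e.toMonoidHom ≤ (T : Subgroup A) := by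
    rw [← Subgroup.map_le_map_iff_of_injective (f := e.toMonoidHom) e.injective, hDm, hT]; exact hD
  have h2 : cj g₀ (D.comap e.toMonoidHom) ≤ (T : Subgroup A) := by
    rw [← Subgroup.map_le_map_iff_of_injective (f := e.toMonoidHom) e.injective, map_cj, hDm, hT]
    exact hgD
  obtain ⟨x', hr, hag⟩ := reach_of_familyControls (fun V hV => by
      obtain ⟨V', hV', rfl⟩ := hV
      exact isConjugacyFunctor_inducedFunctor (h𝓦 V' hV'))
    h (isSyl_top T) (Subgroup.mem_top g₀) h1 h2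
  refine ⟨e x', ?_, fun a ha => ?_⟩
  · rw [← hDm]
    refine hr.map (f := e.toMonoidHom) hT.le (fun E x hx => ?_)
    obtain ⟨_, ⟨V, hV, rfl⟩, hxN⟩ := hx
    refine ⟨_, ⟨V, hV, rfl⟩, ?_⟩
    show e.toMonoidHom x ∈ Subgroup.normalizer
      ((Cfsg.inducedFunctor V (S : Subgroup B) : Subgroup B) : Set B)
    rw [← hT, ← map_inducedFunctor_equiv (h𝓦 V hV) e _ T.isPGroup', ← map_normalizer_equiv]
    exact Subgroup.mem_map_of_mem _ hxN.2
  · obtain ⟨a', ha', rfl⟩ : ∃ a', a' ∈ D.comap e.toMonoidHom ∧ e a' = a :=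
      ⟨e.symm a, by simpa using ha, e.apply_symm_apply a⟩
    simpa using congrArg e (hag a' ha')

/-- A factorization `H = N(W₁ S) N(W₂ S)` gives all the fusion. -/
theorem fusionInput_of_factor (hW₁ : Cfsg.IsCharPFunctor.{u} p W₁)
    (hW₂ : Cfsg.IsCharPFunctor.{u} p W₂) (h₁ : W₁ ∈ 𝓦) (h₂ : W₂ ∈ 𝓦) (H : Type u) [Group H]
    [Finite H]
    (h : Constrained p H → ∀ (S : Sylow p H) (x : H),
      ∃ a ∈ Subgroup.normalizer
          ((Cfsg.inducedFunctor (G := H) W₁ (S : Subgroup H) : Subgroup H) : Set H),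
      ∃ b ∈ Subgroup.normalizer
          ((Cfsg.inducedFunctor (G := H) W₂ (S : Subgroup H) : Subgroup H) : Set H), x = a * b) :
    FusionInput p 𝓦 H := by
  intro hcon S _ D g hD hgD
  obtain ⟨a, ha, b, hb, rfl⟩ := h hcon S g
  set N₁ := Subgroup.normalizer
    ((Cfsg.inducedFunctor (G := H) W₁ (S : Subgroup H) : Subgroup H) : Set H)
  set N₂ := Subgroup.normalizer
    ((Cfsg.inducedFunctor (G := H) W₂ (S : Subgroup H) : Subgroup H) : Set H)
  have hS1 : (S : Subgroup H) ≤ N₁ := fun s hs => normalizer_le_functor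
    (isConjugacyFunctor_inducedFunctor hW₁) S.isPGroup' (Subgroup.le_normalizer hs)
  have hS2 : (S : Subgroup H) ≤ N₂ := fun s hs => normalizer_le_functor
    (isConjugacyFunctor_inducedFunctor hW₂) S.isPGroup' (Subgroup.le_normalizer hs)
  have hE : cj b D ≤ N₁ ⊓ N₂ := by
    refine le_inf ?_ (cj_le_of_mem (hD.trans hS2) hb)
    have e : cj b D = cj a⁻¹ (cj (a * b) D) := by rw [← cj_mul, inv_mul_cancel_left]
    rw [e]
    exact cj_le_of_mem (hgD.trans hS1) (inv_mem ha)
  have hsyl : IsSyl p (S : Subgroup H) (N₁ ⊓ N₂) :=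
    ⟨le_inf hS1 hS2, S.isPGroup', fun hd => S.not_dvd_index
      (hd.trans (Subgroup.relIndex_dvd_index_of_le (le_inf hS1 hS2)))⟩
  obtain ⟨m, hm, hle⟩ := hsyl.exists_cj_le (isPGroup_cj (S.isPGroup'.to_le hD)) hE
  rw [← cj_mul] at hle
  have e : a * b = (a * m⁻¹) * (m * b) := by group
  have h3 : Fused 𝓦 (S : Subgroup H) D ((a * m⁻¹) * (m * b)) :=
    Chained.comp (fused_of_mem_normalizer h₂ (mul_mem hm.2 hb) hD hle)
      (fused_of_mem_normalizer h₁ (mul_mem ha (inv_mem hm.1)) hle (by rw [← cj_mul, ← e]; exact hgD))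
  rwa [← e] at h3

omit [Fact p.Prime] in
/-- A normal value gives all the fusion. -/
theorem fusionInput_of_normal (hmem : W ∈ 𝓦) (H : Type u) [Group H] [Finite H]
    (h : Constrained p H → ∀ S : Sylow p H,
      (Cfsg.inducedFunctor (G := H) W (S : Subgroup H)).Normal) :
    FusionInput p 𝓦 H := by
  intro hcon S _ D g hD hgD
  haveI := h hcon S
  exact fused_of_mem_normalizer hmem (by rw [Subgroup.normalizer_eq_top]; trivial) hD hgD

omit [Fact p.Prime] in
theorem agree_of_fused_singleton {H : Type u} [Group H] {S D : Subgroup H} {g : H}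
    (h : Fused ({W} : Set (∀ (Q : Type u) [Group Q], Subgroup Q)) S D g) :
    ∃ x ∈ Subgroup.normalizer ((Cfsg.inducedFunctor (G := H) W S : Subgroup H) : Set H),
      ∀ a ∈ D, g * a * g⁻¹ = x * a * x⁻¹ := by
  obtain ⟨y, hr, hag⟩ := h
  refine ⟨y, ?_, fun a ha => (hag a ha).symm⟩
  clear hag
  induction hr with
  | refl _ => exact one_mem _
  | step hx _ _ ih =>
    obtain ⟨_, ⟨V, hV, rfl⟩, hxN⟩ := hx
    rw [Set.mem_singleton_iff] at hV
    subst hV
    exact mul_mem ih hxN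

/-- One functor: control of strong fusion in the sense of subgroups. -/
theorem controlsStrongFusion_of_fused {H : Type u} [Group H] [Finite H] (S : Sylow p H)
    (h : ∀ (D : Subgroup H) (g : H), D ≤ (S : Subgroup H) → cj g D ≤ (S : Subgroup H) →
      Fused ({W} : Set (∀ (Q : Type u) [Group Q], Subgroup Q)) (S : Subgroup H) D g) :
    Cfsg.ControlsStrongFusion p (Cfsg.inducedFunctor (G := H) W (S : Subgroup H)) := by
  refine ⟨S, inducedFunctor_le _, fun A hA => ⟨hA, fun g hg => ?_⟩⟩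
  obtain ⟨x, hx, hag⟩ := agree_of_fused_singleton
    (h (Subgroup.closure A) g ((Subgroup.closure_le _).2 hA) (image_subset_iff.1 hg))
  exact ⟨x, hx, fun a ha => hag a (Subgroup.subset_closure ha)⟩

end CfsgLib.ConjFunctor
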