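import Cfsg.Agent.Lib.ConjFunctor.NonConstrained
import Cfsg.Agent.Lib.ConjFunctor.FixLocal
import Cfsg.Agent.Lib.ConjFunctor.Fusion

/-!
# Reduction of control of strong fusion to constrained sections
-/

set_option autoImplicit false
set_option linter.style.haveILetI false

open scoped commutatorElement

namespace CfsgLib.ConjFunctor

universe u

section General

variable {G L : Type*} [Group G] [Group L]

theorem map_cj (f : L →* G) (x : L) (D : Subgroup L) : (cj x D).map f = cj (f x) (D.map f) := by
  show (D.map _).map f = (D.map f).map _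
  rw [Subgroup.map_map, Subgroup.map_map]
  exact congrArg (fun k => D.map k) (MonoidHom.ext fun y => by simp)

theorem Reach.map {f : L →* G} {T : Subgroup L} {ok : Subgroup L → L → Prop}
    {T' : Subgroup G} {ok' : Subgroup G → G → Prop} (hT : T.map f ≤ T')
    (hok : ∀ D x, ok D x → ok' (D.map f) (f x)) {D : Subgroup L} {g : L} (h : Reach T ok D g) :
    Reach T' ok' (D.map f) (f g) := by
  induction h with
  | refl hD => rw [map_one]; exact .refl ((Subgroup.map_mono hD).trans hT)
  | step hx hD _ ih =>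
    rw [map_mul]
    exact .step (hok _ _ hx) ((Subgroup.map_mono hD).trans hT) (by rwa [← map_cj])

theorem Reach.imp {S : Subgroup G} {ok ok' : Subgroup G → G → Prop}
    (hok : ∀ D x, ok D x → ok' D x) {D : Subgroup G} {g : G} (h : Reach S ok D g) :
    Reach S ok' D g := by
  induction h with
  | refl hD => exact .refl hD
  | step hx hD _ ih => exact .step (hok _ _ hx) hD ih

theorem Chained.congr {𝓕 : Set (Subgroup G → Subgroup G)} {S D : Subgroup G} {g g' : G}
    (h : Chained 𝓕 S D g) (he : ∀ a ∈ D, g * a * g⁻¹ = g' * a * g'⁻¹) : Chained 𝓕 S D g' := by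
  obtain ⟨y, hr, hag⟩ := h
  exact ⟨y, hr, fun a ha => (hag a ha).trans (he a ha)⟩

end General

variable {p : ℕ} {𝓦 : Set (∀ (Q : Type u) [Group Q], Subgroup Q)}

/-- The conjugation by `g` of `D ≤ S` is a chain of moves in the `N(W S)`. -/
def Fused (𝓦 : Set (∀ (Q : Type u) [Group Q], Subgroup Q)) {H : Type u} [Group H]
    (S D : Subgroup H) (g : H) : Prop :=
  Chained ((fun W => Cfsg.inducedFunctor (G := H) W) '' 𝓦) S D g

theorem fused_of_mem_normalizer {H : Type u} [Group H] {S D : Subgroup H}
    {W : ∀ (Q : Type u) [Group Q], Subgroup Q} (hW : W ∈ 𝓦) {g : H}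
    (hg : g ∈ Subgroup.normalizer ((Cfsg.inducedFunctor (G := H) W S : Subgroup H) : Set H))
    (hD : D ≤ S) (hgD : cj g D ≤ S) : Fused 𝓦 S D g :=
  ⟨g, Reach.single ⟨_, ⟨W, hW, rfl⟩, hg⟩ hD hgD, fun _ _ => rfl⟩

/-- The constrained input: all fusion in a Sylow subgroup is chained, granted this in the proper
overgroups of the Sylow subgroup. -/
def FusionInput (p : ℕ) (𝓦 : Set (∀ (Q : Type u) [Group Q], Subgroup Q)) (H : Type u) [Group H] :
    Prop :=
  Constrained p H → ∀ S : Sylow p H,
    (∀ L : Subgroup H, (S : Subgroup H) ≤ L → L < ⊤ → ∀ (D : Subgroup H) (g : H),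
      D ≤ (S : Subgroup H) → cj g D ≤ (S : Subgroup H) → g ∈ L → Fused 𝓦 (S : Subgroup H) D g) →
    ∀ (D : Subgroup H) (g : H), D ≤ (S : Subgroup H) → cj g D ≤ (S : Subgroup H) →
      Fused 𝓦 (S : Subgroup H) D g

variable [Fact p.Prime] {G : Type u} [Group G]

/-- Control of fusion in every section follows from the constrained input. -/
theorem fusion_reduce (h𝓦 : ∀ W ∈ 𝓦, Cfsg.IsCharPFunctor.{u} p W)
    (hin : ∀ (H : Type u) [Group H] [Finite H], IsSec G H → FusionInput p 𝓦 H)
    (H : Type u) [Group H] [Finite H] (hsec : IsSec G H) (S : Sylow p H) :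
    ∀ (D : Subgroup H) (g : H), D ≤ (S : Subgroup H) → cj g D ≤ (S : Subgroup H) →
      Fused 𝓦 (S : Subgroup H) D g := by
  suffices main : ∀ (c : ℕ) (H : Type u) [Group H] [Finite H], Nat.card H ≤ c → IsSec G H →
      ∀ (S : Sylow p H) (D : Subgroup H) (g : H), D ≤ (S : Subgroup H) →
        cj g D ≤ (S : Subgroup H) → Fused 𝓦 (S : Subgroup H) D g from main _ H le_rfl hsec S
  intro c
  induction c with
  | zero => intro H _ _ hH; exact absurd hH (Nat.not_le.2 Nat.card_pos)
  | succ c ih =>
    intro H _ _ hc hsec S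
    classical
    haveI hPn := CfsgLib.Solvable.pCore_normal p H
    set P := Cfsg.pCore p H with hP
    have hS := S.isPGroup'
    have hPS : P ≤ (S : Subgroup H) := CfsgLib.Solvable.pCore_le_sylow S
    -- chains inside proper subgroups
    have hlift : ∀ L : Subgroup H, L < ⊤ → ∀ T : Subgroup H, IsSyl p T L →
        ∀ (D : Subgroup H) (g : H), D ≤ T → cj g D ≤ T → g ∈ L →
        ∃ g', Reach T (fun _ y => ∃ W ∈ (fun W => Cfsg.inducedFunctor (G := H) W) '' 𝓦,
            y ∈ L ⊓ Subgroup.normalizer ((W T : Subgroup H) : Set H)) D g' ∧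
          ∀ a ∈ D, g' * a * g'⁻¹ = g * a * g⁻¹ := by
      intro L hL T hT D g hD hgD hg
      obtain ⟨T', hTT, hT'⟩ := exists_sylow_map hT
      have hcard : Nat.card ↥L ≤ c := by
        have : Nat.card ↥L < Nat.card H :=
          (Subgroup.card_le_card_group L).lt_of_ne fun h => hL.ne (Subgroup.eq_top_of_card_eq L h)
        omega
      have hDm : (D.subgroupOf L).map L.subtype = D := by
        rw [Subgroup.subgroupOf_map_subtype, inf_eq_left.2 (hD.trans hT.le)]
      have h1 : D.subgroupOf L ≤ (T' : Subgroup L) := by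
        rw [← Subgroup.map_le_map_iff_of_injective L.subtype_injective, hTT, hDm]; exact hD
      have h2 : cj (⟨g, hg⟩ : L) (D.subgroupOf L) ≤ (T' : Subgroup L) := by
        rw [← Subgroup.map_le_map_iff_of_injective L.subtype_injective, hTT, map_cj, hDm]
        exact hgD
      obtain ⟨y, hr, hag⟩ := ih ↥L hcard (hsec.subgroup L) T' (D.subgroupOf L) ⟨g, hg⟩ h1 h2
      refine ⟨y, ?_, fun a ha => ?_⟩
      · rw [← hDm]
        refine hr.map (f := L.subtype) hTT.le (fun E x hx => ?_)
        obtain ⟨_, ⟨W, hW, rfl⟩, hxN⟩ := hx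
        refine ⟨_, ⟨W, hW, rfl⟩, x.2, ?_⟩
        have h3 := (mem_normalizer_map_iff L.subtype_injective).2 hxN
        rwa [← inducedFunctor_subtype (h𝓦 W hW) L _ T'.isPGroup', hTT] at h3
      · exact congrArg Subtype.val (hag ⟨a, hT.le (hD ha)⟩ ha)
    have hover : ∀ L : Subgroup H, (S : Subgroup H) ≤ L → L < ⊤ → ∀ (D : Subgroup H) (g : H),
        D ≤ (S : Subgroup H) → cj g D ≤ (S : Subgroup H) → g ∈ L →
        Fused 𝓦 (S : Subgroup H) D g := by
      intro L hSL hL D g hD hgD hg
      obtain ⟨y, hr, hag⟩ := hlift L hL S ⟨hSL, hS, fun hd =>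
        S.not_dvd_index (hd.trans (Subgroup.relIndex_dvd_index_of_le hSL))⟩ D g hD hgD hg
      exact ⟨y, hr.imp (fun _ x ⟨W, hW, hx⟩ => ⟨W, hW, hx.2⟩), hag⟩
    by_cases hP0 : P = ⊥
    · refine chained_local_to_global S _ ?_ ?_
      · rintro _ ⟨W, hW, rfl⟩
        exact isConjugacyFunctor_inducedFunctor (h𝓦 W hW)
      · intro T hT hfn
        have hlt : Subgroup.normalizer (T : Set H) < ⊤ := by
          refine lt_top_iff_ne_top.2 fun h => hT (le_bot_iff.1 (hP0 ▸ ?_))
          haveI := Subgroup.normalizer_eq_top_iff.1 h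
          exact CfsgLib.Solvable.le_pCore inferInstance (hS.to_le hfn.1)
        refine ⟨_, hfn.2.le, hfn.2.isPGroup, hfn.2.not_dvd, fun A h hh hA hhA => ?_⟩
        obtain ⟨y, hr, hag⟩ := hlift _ hlt _ hfn.2 (Subgroup.closure A) h
          ((Subgroup.closure_le _).2 hA) (image_subset_iff.1 hhA) hh
        obtain ⟨n, k, hk0, hstep, himg, hlast⟩ := hr.exists_seq
        refine ⟨n, k, hk0, fun i => hstep i, fun i => image_subset_iff.2 (himg i), fun a ha => ?_⟩
        rw [hlast]; exact hag a (Subgroup.subset_closure ha)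
    by_cases hcon : Constrained p H
    · exact hin H hsec hcon S hover
    set C := Subgroup.centralizer (P : Set H) with hC
    haveI : C.Normal := by rw [hC]; infer_instance
    by_cases hL : C ⊔ (S : Subgroup H) = ⊤
    · -- conjugation on `O_p` is that of `S`
      have hStop : (S : Subgroup H) < ⊤ := by
        refine lt_top_iff_ne_top.2 fun h => hcon ?_
        have : P = ⊤ := by
          rw [hP]
          refine CfsgLib.Solvable.pCore_eq_top_of_isPGroup ?_
          exact (h ▸ hS : IsPGroup p (⊤ : Subgroup H)).of_equiv Subgroup.topEquiv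
        intro x _
        rw [← hP, this]; trivial
      -- elements of order prime to `p` centralize `O_p`
      have hcopC : ∀ x : H, (orderOf x).Coprime p → x ∈ C := by
        intro x hx
        have htop : x ∈ C ⊔ (S : Subgroup H) := by rw [hL]; trivial
        obtain ⟨a, ha, s, hs, he⟩ := Subgroup.mem_sup_of_normal_left.1 htop
        refine (QuotientGroup.eq_one_iff x).1 ?_
        obtain ⟨k, hk⟩ := hS ⟨s, hs⟩
        refine orderOf_eq_one_iff.1 (Nat.eq_one_of_dvd_coprimes (hx.pow_right k)
          (orderOf_map_dvd (QuotientGroup.mk' C) x) (orderOf_dvd_of_pow_eq_one ?_))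
        have e : (QuotientGroup.mk' C) x = (QuotientGroup.mk' C) s := by
          rw [← he, map_mul, show (QuotientGroup.mk' C) a = 1 from (QuotientGroup.eq_one_iff a).2 ha,
            one_mul]
        show (QuotientGroup.mk' C) x ^ p ^ k = 1
        rw [e, ← map_pow, show s ^ p ^ k = 1 by simpa using congrArg Subtype.val hk, map_one]
      suffices hall : ∀ (D : Subgroup H) (g : H), D ≤ (S : Subgroup H) →
          cj g D ≤ (S : Subgroup H) → P ≤ D → Fused 𝓦 (S : Subgroup H) D g by
        intro D g hD hgD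
        refine Chained.mono le_sup_left (hall (D ⊔ P) g (sup_le hD hPS) ?_ le_sup_right)
        show (D ⊔ P).map _ ≤ _
        rw [Subgroup.map_sup]
        exact sup_le hgD ((cj_eq_self_of_normal g P).le.trans hPS)
      refine alperin_induction S _ (exists_rep_fullyNorm S)
        (fun D g => P ≤ D → Fused 𝓦 (S : Subgroup H) D g)
        (fun _ _ _ hle _ _ h hP' => Chained.mono hle (h (hP'.trans hle)))
        (fun D g k _ _ _ h₁ h₂ hP' => Chained.comp (h₁ hP')
          (h₂ ((cj_eq_self_of_normal g P).ge.trans (cj_mono hP'))))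
        (fun D g _ _ h hP' => Chained.symm (h ?_))
        (fun U hU hfn D n hDU hn hPD => Chained.mono hDU ?_)
      · have h5 := cj_mono (g := g⁻¹) hP'
        rwa [cj_inv_cj, cj_eq_self_of_normal] at h5
      have hPU : P ≤ U := hPD.trans hDU
      rcases eq_or_lt_of_le hPU with hUP | hUP
      · -- on `O_p` itself
        rw [← hUP]
        have htop : n ∈ C ⊔ (S : Subgroup H) := by rw [hL]; trivial
        obtain ⟨a, ha, s, hs, he⟩ := Subgroup.mem_sup_of_normal_left.1 htop
        refine Chained.congr (hover S le_rfl hStop P s hPS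
          ((cj_eq_self_of_normal s P).le.trans hPS) hs) fun x hx => ?_
        have h6 : a * (s * x * s⁻¹) = s * x * s⁻¹ * a :=
          (Subgroup.mem_centralizer_iff.1 ha _ (hPn.conj_mem x hx s)).symm
        rw [← he, mul_inv_rev]
        calc s * x * s⁻¹ = a * (s * x * s⁻¹) * a⁻¹ := by rw [h6, mul_inv_cancel_right]
          _ = a * s * x * (s⁻¹ * a⁻¹) := by group
      set f := QuotientGroup.mk' P with hf
      have hsurj : Function.Surjective f := QuotientGroup.mk'_surjective P
      have hSP : (S : Subgroup H) ≠ P := fun h => hUP.not_ge (h ▸ hfn.1)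
      have hcard : Nat.card (H ⧸ P) ≤ c := by
        have h1 := Subgroup.card_eq_card_quotient_mul_card_subgroup P
        have h2 : 1 < Nat.card ↥P := (Subgroup.one_lt_card_iff_ne_bot P).2 hP0
        have h3 : 0 < Nat.card (H ⧸ P) := Nat.card_pos
        have : Nat.card (H ⧸ P) < Nat.card H := by rw [h1]; exact lt_mul_of_one_lt_right h3 h2
        omega
      have hcomap : ((S : Subgroup H).map f).comap f = (S : Subgroup H) := by
        rw [Subgroup.comap_map_eq, hf, QuotientGroup.ker_mk', sup_eq_left.2 hPS]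
      have hcomapU : (U.map f).comap f = U := by
        rw [Subgroup.comap_map_eq, hf, QuotientGroup.ker_mk', sup_eq_left.2 hPU]
      have hUn : cj n U = U := cj_eq_self_iff.2 hn
      obtain ⟨g', hr, hag⟩ := ih (H ⧸ P) hcard (hsec.of_surjective hsurj) (S.mapSurjective hsurj)
        (U.map f) (f n)
        (by rw [Sylow.coe_mapSurjective]; exact Subgroup.map_mono hfn.1)
        (by rw [Sylow.coe_mapSurjective, ← map_cj, hUn]; exact Subgroup.map_mono hfn.1)
      -- lift the chain
      have hlifted : ∀ (D' : Subgroup (H ⧸ P)) (x' : H ⧸ P),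
          Reach ((S.mapSurjective hsurj : Sylow p (H ⧸ P)) : Subgroup (H ⧸ P))
            (functorOk ((fun W => Cfsg.inducedFunctor (G := H ⧸ P) W) '' 𝓦)
              ((S.mapSurjective hsurj : Sylow p (H ⧸ P)) : Subgroup (H ⧸ P))) D' x' →
          ∀ E : Subgroup H, E ≤ (S : Subgroup H) → E.map f = D' →
            ∃ h : H, f h = x' ∧ Fused 𝓦 (S : Subgroup H) E h := by
        intro D' x' hr
        induction hr with
        | refl hD' => exact fun E hE _ => ⟨1, map_one f, 1, .refl hE, fun _ _ => rfl⟩
        | @step D' y z hy hD' hr' ihr =>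
          intro E hE hED
          obtain ⟨x, rfl⟩ := hsurj y
          obtain ⟨_, ⟨W, hW, rfl⟩, hxN⟩ := hy
          rw [Sylow.coe_mapSurjective] at hxN
          set Nb := Subgroup.normalizer
            ((Cfsg.inducedFunctor W ((S : Subgroup H).map f) : Subgroup (H ⧸ P)) : Set (H ⧸ P))
            with hNb
          have hWp := hS.map f
          have hlt : Nb.comap f < ⊤ := by
            refine lt_top_iff_ne_top.2 fun h => hSP ?_
            have htop : Nb = ⊤ := by
              rw [← Subgroup.map_comap_eq_self_of_surjective hsurj Nb, h,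
                Subgroup.map_top_of_surjective f hsurj]
            haveI := Subgroup.normalizer_eq_top_iff.1 htop
            have h3 : Cfsg.inducedFunctor W ((S : Subgroup H).map f) ≤ ⊥ :=
              (CfsgLib.Solvable.le_pCore inferInstance
                (hWp.to_le (inducedFunctor_le _))).trans
                (CfsgLib.Solvable.pCore_quotient_eq_bot P hP).le
            have h4 : (S : Subgroup H).map f = ⊥ := by
              by_contra h4
              exact inducedFunctor_ne_bot (h𝓦 W hW) hWp h4 (le_bot_iff.1 h3)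
            rw [Subgroup.map_eq_bot_iff, hf, QuotientGroup.ker_mk'] at h4
            exact le_antisymm h4 hPS
          have hSL : (S : Subgroup H) ≤ Nb.comap f := Subgroup.map_le_iff_le_comap.1
            ((normalizer_le_functor (isConjugacyFunctor_inducedFunctor (h𝓦 W hW)) hWp).trans'
              Subgroup.le_normalizer)
          have hxE : cj x E ≤ (S : Subgroup H) := by
            have h7 := hr'.le
            rw [Sylow.coe_mapSurjective, ← hED, ← map_cj, Subgroup.map_le_iff_le_comap, hcomap]
              at h7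
            exact h7
          obtain ⟨h, hfh, hF⟩ := ihr (cj x E) hxE (by rw [map_cj, hED])
          exact ⟨h * x, by rw [map_mul, hfh],
            Chained.comp (hover _ hSL hlt E x hE hxE hxN) hF⟩
      obtain ⟨h, hfh, hF⟩ := hlifted _ _ hr U hfn.1 rfl
      have hhU : cj h U = U := by
        have h8 : (cj h U).map f = U.map f := by
          rw [map_cj, hfh, cj_congr hag, ← map_cj, hUn]
        refine Subgroup.eq_of_le_of_card_ge ?_ (card_cj h U).ge
        calc cj h U ≤ ((cj h U).map f).comap f := Subgroup.le_comap_map _ _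
          _ = U := by rw [h8, hcomapU]
      set k := h⁻¹ * n with hk
      have hkN : k ∈ Subgroup.normalizer (U : Set H) :=
        mul_mem (inv_mem (cj_eq_self_iff.1 hhU)) hn
      set NU := Subgroup.normalizer (U : Set H) with hNU
      set Y := (Subgroup.centralizer ((U.map f : Subgroup (H ⧸ P)) : Set (H ⧸ P))).comap f ⊓ NU
        with hY
      have hkY : k ∈ Y := by
        refine ⟨Subgroup.mem_centralizer_iff.2 ?_, hkN⟩
        rintro _ ⟨u, hu, rfl⟩
        have h9 := hag (f u) ⟨u, hu, rfl⟩
        rw [← hfh] at h9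
        show f u * f k = f k * f u
        rw [hk, map_mul, map_inv]
        calc f u * ((f h)⁻¹ * f n) = (f h)⁻¹ * (f h * f u * (f h)⁻¹) * f n := by group
          _ = (f h)⁻¹ * (f n * f u * (f n)⁻¹) * f n := by rw [h9]
          _ = (f h)⁻¹ * f n * f u := by group
      let M : Subgroup H :=
        { carrier := {x | ∃ t ∈ (S : Subgroup H) ⊓ NU, ∀ u ∈ U, x * u * x⁻¹ = t * u * t⁻¹}
          one_mem' := ⟨1, one_mem _, fun _ _ => rfl⟩
          mul_mem' := fun {x y} ⟨s, hs, hxs⟩ ⟨t, ht, hyt⟩ => ⟨s * t, mul_mem hs ht, fun u hu => by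
            calc x * y * u * (x * y)⁻¹ = x * (y * u * y⁻¹) * x⁻¹ := by group
              _ = x * (t * u * t⁻¹) * x⁻¹ := by rw [hyt u hu]
              _ = s * (t * u * t⁻¹) * s⁻¹ := hxs _ ((Subgroup.mem_normalizer_iff.1 ht.2 u).1 hu)
              _ = s * t * u * (s * t)⁻¹ := by group⟩
          inv_mem' := fun {x} ⟨s, hs, hxs⟩ => ⟨s⁻¹, inv_mem hs, fun u hu => by
            have h10 := hxs _ ((Subgroup.mem_normalizer_iff.1 (inv_mem hs).2 u).1 hu)
            have h11 : x * (s⁻¹ * u * s⁻¹⁻¹) * x⁻¹ = u := h10.trans (by group)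
            calc x⁻¹ * u * x⁻¹⁻¹ = x⁻¹ * (x * (s⁻¹ * u * s⁻¹⁻¹) * x⁻¹) * x⁻¹⁻¹ := by rw [h11]
              _ = s⁻¹ * u * s⁻¹⁻¹ := by group⟩ }
      have hkM : k ∈ M := by
        suffices h12 : M.relIndex Y = 1 from Subgroup.relIndex_eq_one.1 h12 hkY
        refine Nat.eq_one_iff_not_exists_prime_dvd.2 fun q hq hdvd => ?_
        haveI := Fact.mk hq
        have hYn : ∀ m ∈ NU, cj m Y ≤ Y := by
          intro m hm
          rintro _ ⟨x, hx, rfl⟩
          refine ⟨Subgroup.mem_centralizer_iff.2 ?_,
            Subgroup.mul_mem _ (Subgroup.mul_mem _ hm hx.2) (Subgroup.inv_mem _ hm)⟩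
          rintro _ ⟨u, hu, rfl⟩
          have h13 : m⁻¹ * u * m ∈ U := by
            have := (Subgroup.mem_normalizer_iff.1 (inv_mem hm) u).1 hu
            simpa using this
          have h14 := Subgroup.mem_centralizer_iff.1 hx.1 (f (m⁻¹ * u * m)) ⟨_, h13, rfl⟩
          show f u * f (m * x * m⁻¹) = f (m * x * m⁻¹) * f u
          simp only [map_mul, map_inv] at h14 ⊢
          calc f u * (f m * f x * (f m)⁻¹) =
                f m * ((f m)⁻¹ * f u * f m * f x) * (f m)⁻¹ := by group
            _ = f m * (f x * ((f m)⁻¹ * f u * f m)) * (f m)⁻¹ := by rw [h14]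
            _ = f m * f x * (f m)⁻¹ * f u := by group
        by_cases hqp : q = p
        · subst hqp
          obtain ⟨T₁, hT₁, hle₁⟩ := exists_isSyl_ge (p := q)
            (P := (S : Subgroup H) ⊓ NU ⊓ Y) (hS.to_le (inf_le_left.trans inf_le_left)) inf_le_right
          refine hT₁.not_dvd (hdvd.trans (Subgroup.relIndex_dvd_of_le_left _ ?_))
          obtain ⟨m, hm, hle⟩ := hfn.2.exists_cj_le hT₁.isPGroup (hT₁.le.trans inf_le_right)
          have h15 : cj m T₁ ≤ (S : Subgroup H) ⊓ NU ⊓ Y :=
            le_inf hle ((cj_mono hT₁.le).trans (hYn m hm))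
          have h16 : (S : Subgroup H) ⊓ NU ⊓ Y = T₁ := Subgroup.eq_of_le_of_card_ge hle₁
            (by rw [← card_cj m T₁]; exact Subgroup.card_le_of_le h15)
          rw [← h16]
          exact fun t ht => ⟨t, ht.1, fun _ _ => rfl⟩
        · obtain ⟨T₁, hT₁, -⟩ := exists_isSyl_ge (p := q) (IsPGroup.of_bot (p := q) (G := H))
            (bot_le (a := Y))
          refine hT₁.not_dvd (hdvd.trans (Subgroup.relIndex_dvd_of_le_left _ fun s hs => ?_))
          obtain ⟨i, hi⟩ := hT₁.isPGroup ⟨s, hs⟩
          have hcop : (orderOf s).Coprime p := by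
            refine Nat.Coprime.coprime_dvd_left (orderOf_dvd_of_pow_eq_one
              (by simpa using congrArg Subtype.val hi)) (Nat.Coprime.pow_left i ?_)
            exact (Nat.coprime_primes hq Fact.out).2 hqp
          refine ⟨1, one_mem _, fun u hu => ?_⟩
          have hsY := hT₁.le hs
          have h17 : f u * f s = f s * f u :=
            Subgroup.mem_centralizer_iff.1 hsY.1 (f u) ⟨u, hu, rfl⟩
          have hcP : ⁅s, u⁆ ∈ P := by
            refine (QuotientGroup.eq_one_iff _).1 ?_
            show f ⁅s, u⁆ = 1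
            rw [map_commutatorElement, commutatorElement_eq_one_iff_mul_comm]
            exact h17.symm
          have hsC : Commute s ⁅s, u⁆ :=
            (Subgroup.mem_centralizer_iff.1 (hcopC s hcop) _ hcP).symm
          have he : s * u * s⁻¹ = ⁅s, u⁆ * u := by rw [commutatorElement_def, inv_mul_cancel_right]
          have h18 := eq_one_of_conj_eq_mul he hsC
            (orderOf_coprime_of_isPGroup (CfsgLib.Solvable.pCore_isPGroup p H) hcP hcop)
          rw [he, h18]; group
      obtain ⟨t, ht, htk⟩ := hkM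
      have htU : cj t U = U := cj_eq_self_iff.2 ht.2
      have h19 := Chained.comp (hover S le_rfl hStop U t hfn.1 (by rw [htU]; exact hfn.1) ht.1)
        (by rw [htU]; exact hF)
      refine Chained.congr h19 fun u hu => ?_
      calc h * t * u * (h * t)⁻¹ = h * (t * u * t⁻¹) * h⁻¹ := by group
        _ = h * (k * u * k⁻¹) * h⁻¹ := by rw [htk u hu]
        _ = n * u * n⁻¹ := by rw [hk]; group
    intro D g hD hgD
    by_cases hN : Subgroup.normalizer (((S : Subgroup H) ⊓ C : Subgroup H) : Set H) = ⊤
    · -- a nontrivial `O_{p'}`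
      have hQ0 := pPrimeCore_ne_bot_of_inf_le S hcon (inf_le_pCore_of_normal S C hN)
      set Q := Cfsg.pPrimeCore p H with hQ
      haveI := CfsgLib.Solvable.pPrimeCore_normal p H
      set f := QuotientGroup.mk' Q with hf
      have hsurj : Function.Surjective f := QuotientGroup.mk'_surjective Q
      have hker : (Nat.card ↥f.ker).Coprime p := by
        rw [hf, QuotientGroup.ker_mk']; exact CfsgLib.Solvable.pPrimeCore_card_coprime p H
      have hcard : Nat.card (H ⧸ Q) ≤ c := by
        have h1 := Subgroup.card_eq_card_quotient_mul_card_subgroup Q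
        have h2 : 1 < Nat.card ↥Q := (Subgroup.one_lt_card_iff_ne_bot Q).2 hQ0
        have h3 : 0 < Nat.card (H ⧸ Q) := Nat.card_pos
        have : Nat.card (H ⧸ Q) < Nat.card H := by rw [h1]; exact lt_mul_of_one_lt_right h3 h2
        omega
      have hinj : ∀ a ∈ (S : Subgroup H), ∀ b ∈ (S : Subgroup H), f a = f b → a = b := by
        intro a ha b hb hab
        have hm : a⁻¹ * b ∈ Q := QuotientGroup.eq.1 hab
        have h0 : (S : Subgroup H) ⊓ Q = ⊥ := by
          obtain ⟨n, hn⟩ := hS.exists_card_eq
          refine Subgroup.inf_eq_bot_of_coprime ?_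
          rw [hn]
          exact ((CfsgLib.Solvable.pPrimeCore_card_coprime p H).symm).pow_left n
        have h5 : a⁻¹ * b ∈ (S : Subgroup H) ⊓ Q :=
          ⟨Subgroup.mul_mem _ (Subgroup.inv_mem _ ha) hb, hm⟩
        rw [h0, Subgroup.mem_bot, inv_mul_eq_one] at h5
        exact h5
      obtain ⟨g', hr, hag⟩ := ih (H ⧸ Q) hcard (hsec.of_surjective hsurj) (S.mapSurjective hsurj)
        (D.map f) (f g)
        (by rw [Sylow.coe_mapSurjective]; exact Subgroup.map_mono hD)
        (by rw [Sylow.coe_mapSurjective, ← map_cj]; exact Subgroup.map_mono hgD)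
      have hlifted : ∀ (D' : Subgroup (H ⧸ Q)) (x' : H ⧸ Q),
          Reach ((S.mapSurjective hsurj : Sylow p (H ⧸ Q)) : Subgroup (H ⧸ Q))
            (functorOk ((fun W => Cfsg.inducedFunctor (G := H ⧸ Q) W) '' 𝓦)
              ((S.mapSurjective hsurj : Sylow p (H ⧸ Q)) : Subgroup (H ⧸ Q))) D' x' →
          ∀ E : Subgroup H, E ≤ (S : Subgroup H) → E.map f = D' →
            ∃ h : H, f h = x' ∧ Reach (S : Subgroup H)
              (functorOk ((fun W => Cfsg.inducedFunctor (G := H) W) '' 𝓦) (S : Subgroup H)) E h := by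
        intro D' x' hr
        induction hr with
        | refl hD' => exact fun E hE _ => ⟨1, map_one f, .refl hE⟩
        | @step D' y z hy hD' hr' ihr =>
          intro E hE hED
          obtain ⟨_, ⟨W, hW, rfl⟩, hyN⟩ := hy
          have hWf : Cfsg.inducedFunctor W ((S : Subgroup H).map f) =
              (Cfsg.inducedFunctor W (S : Subgroup H)).map f :=
            inducedFunctor_map (h𝓦 W hW) f _ hS (fun a ha b hb => hinj a ha b hb)
          simp only [Sylow.coe_mapSurjective] at hyN
          rw [hWf, ← map_normalizer_pPrime hsurj hker (hS.to_le (inducedFunctor_le _))] at hyN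
          obtain ⟨x, hx, rfl⟩ := hyN
          set N := Subgroup.normalizer
            ((Cfsg.inducedFunctor W (S : Subgroup H) : Subgroup H) : Set H) with hNW
          have hSN : (S : Subgroup H) ≤ N := fun s hs => normalizer_le_functor
            (isConjugacyFunctor_inducedFunctor (h𝓦 W hW)) hS (Subgroup.le_normalizer hs)
          have hE' : cj x E ≤ N ⊓ ((S : Subgroup H).map f).comap f := by
            refine le_inf (cj_le_of_mem (hE.trans hSN) hx) ?_
            rw [← Subgroup.map_le_iff_le_comap, map_cj, hED]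
            exact hr'.le.trans (Sylow.coe_mapSurjective ..).le
          have hSle : (S : Subgroup H) ≤ N ⊓ ((S : Subgroup H).map f).comap f :=
            le_inf hSN (Subgroup.le_comap_map _ _)
          have hsyl : IsSyl p (S : Subgroup H) (N ⊓ ((S : Subgroup H).map f).comap f) :=
            ⟨hSle, hS, fun hd => S.not_dvd_index
              (hd.trans (Subgroup.relIndex_dvd_index_of_le hSle))⟩
          obtain ⟨m, hm, hle⟩ := hsyl.exists_cj_le (isPGroup_cj (hS.to_le hE)) hE'
          obtain ⟨s, hs, hsm⟩ := hm.2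
          set x₁ := s⁻¹ * m * x with hx₁
          have hfx : f x₁ = f x := by rw [hx₁, map_mul, map_mul, map_inv, hsm, inv_mul_cancel, one_mul]
          have hx₁N : x₁ ∈ N := mul_mem (mul_mem (inv_mem (hSN hs)) hm.1) hx
          have hx₁E : cj x₁ E ≤ (S : Subgroup H) := by
            rw [hx₁, cj_mul, cj_mul]
            exact (cj_mono hle).trans (cj_eq_self_of_mem (inv_mem hs)).le
          obtain ⟨h, hfh, hR⟩ := ihr (cj x₁ E) hx₁E (by rw [map_cj, hfx, hED])
          exact ⟨h * x₁, by rw [map_mul, hfh, hfx], .step ⟨_, ⟨W, hW, rfl⟩, hx₁N⟩ hE hR⟩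
      obtain ⟨h, hfh, hR⟩ := hlifted _ _ hr D hD rfl
      refine ⟨h, hR, fun a ha => hinj _ (hR.image_le (conj_mem_cj ha)) _ (hgD (conj_mem_cj ha)) ?_⟩
      have h20 := hag (f a) ⟨a, ha, rfl⟩
      rw [← hfh] at h20
      simpa using h20
    -- two proper overgroups of `S`
    obtain ⟨y, z, hy, hz, rfl, hyD⟩ := move_split S C hD hgD
    refine Chained.comp (hover _ le_sup_right (lt_top_iff_ne_top.2 hL) D y hD hyD hy) ?_
    refine hover _ (le_normalizer_inf_normal _ C) (lt_top_iff_ne_top.2 hN) (cj y D) z hyD ?_ hz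
    rw [← cj_mul]; exact hgD

/-- From chains to the definition of control by the family. -/
theorem controls_of_fused {H : Type u} [Group H] [Finite H] (S : Sylow p H)
    (h : ∀ (D : Subgroup H) (g : H), D ≤ (S : Subgroup H) → cj g D ≤ (S : Subgroup H) →
      Fused 𝓦 (S : Subgroup H) D g) :
    Cfsg.FamilyControlsStrongFusionIn p ((fun W => Cfsg.inducedFunctor (G := H) W) '' 𝓦) ⊤ := by
  refine ⟨S, le_top, S.isPGroup', (isSyl_top S).not_dvd, fun A x _ hA hxA => ?_⟩
  obtain ⟨g, hr, hag⟩ := h (Subgroup.closure A) x ((Subgroup.closure_le _).2 hA)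
    (image_subset_iff.1 hxA)
  obtain ⟨n, k, hk0, hstep, himg, hlast⟩ := hr.exists_seq
  refine ⟨n, k, hk0, fun i => ?_, fun i => image_subset_iff.2 (himg i), fun a ha => ?_⟩
  · obtain ⟨W, hW, hx⟩ := hstep i
    exact ⟨W, hW, Subgroup.mem_top _, hx⟩
  · rw [hlast]; exact hag a (Subgroup.subset_closure ha)

end CfsgLib.ConjFunctor
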