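import Cfsg.Agent.Lib.ConjFunctor.TransferMain

/-!
# Normal subgroups of index p from control of transfer
-/

set_option autoImplicit false
set_option linter.style.haveILetI false

open scoped commutatorElement

namespace CfsgLib.ConjFunctor

universe u

variable {p : ℕ} [Fact p.Prime]

/-- A Sylow subgroup not inside the derived group gives a normal subgroup of index `p`. -/
theorem exists_normal_index_p {G : Type u} [Group G] [Finite G] (S : Sylow p G)
    (h : ¬ (S : Subgroup G) ≤ commutator G) : ∃ N : Subgroup G, N.Normal ∧ N.index = p := by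
  have hp := (Fact.out : p.Prime)
  set π := (Abelianization.of : G →* Abelianization G)
  have hsurj : Function.Surjective π := QuotientGroup.mk'_surjective (commutator G)
  obtain ⟨s, hs, hsn⟩ : ∃ s ∈ (S : Subgroup G), s ∉ commutator G := SetLike.not_le_iff_exists.1 h
  have hπs : π s ≠ 1 := fun h1 => hsn ((QuotientGroup.eq_one_iff s).1 h1)
  haveI : Finite (Abelianization G) := Finite.of_surjective π hsurj
  have hdvd : p ∣ Nat.card (Abelianization G) := by
    obtain ⟨k, hk⟩ := S.isPGroup' ⟨s, hs⟩
    have hord : orderOf (π s) ∣ p ^ k := orderOf_dvd_of_pow_eq_one (by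
      rw [← map_pow, show s ^ p ^ k = 1 by simpa using congrArg Subtype.val hk, map_one])
    obtain ⟨j, -, hj⟩ := (Nat.dvd_prime_pow hp).1 hord
    refine dvd_trans ?_ (orderOf_dvd_natCard (π s))
    rw [hj]
    refine dvd_pow_self p fun h0 => hπs ?_
    rw [← orderOf_eq_one_iff, hj, h0, pow_zero]
  let φ : Abelianization G →* Abelianization G := powMonoidHom p
  have hφ : φ.range ≠ ⊤ := by
    intro htop
    have hs' : Function.Surjective φ := MonoidHom.range_eq_top.1 htop
    obtain ⟨y, hy⟩ := exists_prime_orderOf_dvd_card' p hdvd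
    have h1 : φ y = φ 1 := by
      show y ^ p = 1 ^ p
      rw [one_pow, ← hy]; exact pow_orderOf_eq_one y
    have h2 := (Finite.injective_iff_surjective.2 hs') h1
    rw [h2, orderOf_one] at hy
    exact hp.one_lt.ne hy
  obtain ⟨M, hM⟩ := (Set.toFinite {M : Subgroup (Abelianization G) | φ.range ≤ M ∧ M ≠ ⊤}).exists_maximal
    ⟨φ.range, le_rfl, hφ⟩
  obtain ⟨x, hx⟩ : ∃ x, x ∉ M := by
    by_contra hne
    push Not at hne
    exact hM.1.2 (eq_top_iff.2 fun y _ => hne y)
  haveI : M.Normal := inferInstance
  set f := QuotientGroup.mk' M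
  have hgen : Subgroup.zpowers (f x) = ⊤ := by
    refine eq_top_iff.2 fun y _ => ?_
    obtain ⟨z, rfl⟩ := QuotientGroup.mk'_surjective M y
    have htop : M ⊔ Subgroup.zpowers x = ⊤ := by
      by_contra hne
      have := hM.2 ⟨hM.1.1.trans le_sup_left, hne⟩ le_sup_left
      exact hx (this (Subgroup.mem_sup_right (Subgroup.mem_zpowers x)))
    obtain ⟨m, hm, w, hw, hmw⟩ := Subgroup.mem_sup_of_normal_left.1
      (show z ∈ M ⊔ Subgroup.zpowers x by rw [htop]; trivial)
    obtain ⟨i, rfl⟩ := Subgroup.mem_zpowers_iff.1 hw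
    refine Subgroup.mem_zpowers_iff.2 ⟨i, ?_⟩
    rw [← hmw, map_mul, show f m = 1 from (QuotientGroup.eq_one_iff m).2 hm, one_mul, map_zpow]
  have hord : orderOf (f x) = p := by
    refine orderOf_eq_prime ?_ fun h1 => hx ((QuotientGroup.eq_one_iff x).1 h1)
    rw [← map_pow]
    exact (QuotientGroup.eq_one_iff _).2 (hM.1.1 ⟨x, rfl⟩)
  refine ⟨M.comap π, inferInstance, ?_⟩
  rw [Subgroup.index_comap_of_surjective _ hsurj, Subgroup.index, ← hord, ← Nat.card_zpowers, hgen,
    Subgroup.card_top]

variable {W : ∀ (Q : Type u) [Group Q], Subgroup Q} {G : Type u} [Group G]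

/-- If `W` controls transfer in all sections and the `p'`-elements normalizing a Sylow subgroup
centralize it, the Sylow subgroup is not in the derived group. -/
theorem not_le_commutator_of_controls (hW : Cfsg.IsCharPFunctor.{u} p W)
    (hctl : ∀ (H : Type u) [Group H] [Finite H], IsSec G H → ∀ S : Sylow p H,
      (S : Subgroup H) ⊓ commutator H = (S : Subgroup H) ⊓
        ⁅Subgroup.normalizer ((Cfsg.inducedFunctor (G := H) W (S : Subgroup H) : Subgroup H) : Set H),
          Subgroup.normalizer
            ((Cfsg.inducedFunctor (G := H) W (S : Subgroup H) : Subgroup H) : Set H)⁆)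
    (H : Type u) [Group H] [Finite H] (hsec : IsSec G H) (S : Sylow p H)
    (hS : (S : Subgroup H) ≠ ⊥)
    (hN : ∀ g ∈ Subgroup.normalizer ((S : Subgroup H) : Set H), (orderOf g).Coprime p →
      g ∈ Subgroup.centralizer ((S : Subgroup H) : Set H)) :
    ¬ (S : Subgroup H) ≤ commutator H := by
  suffices main : ∀ (c : ℕ) (H : Type u) [Group H] [Finite H], Nat.card H ≤ c → IsSec G H →
      ∀ S : Sylow p H, (S : Subgroup H) ≠ ⊥ →
      (∀ g ∈ Subgroup.normalizer ((S : Subgroup H) : Set H), (orderOf g).Coprime p →
        g ∈ Subgroup.centralizer ((S : Subgroup H) : Set H)) → ¬ (S : Subgroup H) ≤ commutator H from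
    main _ H le_rfl hsec S hS hN
  intro c
  induction c with
  | zero => intro H _ _ hH; exact absurd hH (Nat.not_le.2 Nat.card_pos)
  | succ c ih =>
    intro H _ _ hc hsec S hS hN hle
    set W0 := Cfsg.inducedFunctor (G := H) W (S : Subgroup H) with hW0
    set N := Subgroup.normalizer (W0 : Set H) with hN0
    have hSN : (S : Subgroup H) ≤ N := fun s hs => normalizer_le_functor
      (isConjugacyFunctor_inducedFunctor hW) S.isPGroup' (Subgroup.le_normalizer hs)
    have heq := hctl H hsec S
    by_cases htop : N = ⊤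
    swap
    · have hcard : Nat.card ↥N ≤ c := by
        have : Nat.card ↥N < Nat.card H :=
          (Subgroup.card_le_card_group N).lt_of_ne fun h => htop (Subgroup.eq_top_of_card_eq N h)
        omega
      have hT : IsSyl p (S : Subgroup H) N := ⟨hSN, S.isPGroup', fun hd =>
        S.not_dvd_index (hd.trans (Subgroup.relIndex_dvd_index_of_le hSN))⟩
      obtain ⟨T, hTS, hT'⟩ := exists_sylow_map hT
      refine ih ↥N hcard (hsec.subgroup N) T (fun h => hS ?_) (fun g hg hcop => ?_) ?_
      · rw [← hTS, h, Subgroup.map_bot]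
      · have hgN : (g : H) ∈ Subgroup.normalizer ((S : Subgroup H) : Set H) := by
          rw [← hTS]; exact (mem_normalizer_map_iff N.subtype_injective).2 hg
        have hgC := hN _ hgN (by rwa [Subgroup.orderOf_coe])
        refine Subgroup.mem_centralizer_iff.2 fun t ht => Subtype.ext ?_
        exact Subgroup.mem_centralizer_iff.1 hgC t (by rw [hT'] at ht; exact ht)
      · intro t ht
        have h1 : (t : H) ∈ (S : Subgroup H) := by rw [hT'] at ht; exact ht
        have h2 : (t : H) ∈ (S : Subgroup H) ⊓ commutator H := ⟨h1, hle h1⟩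
        rw [heq] at h2
        have h3 : (t : H) ∈ (commutator ↥N).map N.subtype := by
          rw [commutator_def, Subgroup.map_commutator, ← MonoidHom.range_eq_map,
            Subgroup.range_subtype]
          exact h2.2
        exact (Subgroup.mem_map_iff_mem N.subtype_injective).1 h3
    haveI hWn : W0.Normal := Subgroup.normalizer_eq_top_iff.1 htop
    have hWS : W0 ≤ (S : Subgroup H) := inducedFunctor_le _
    have hWne : W0 ≠ ⊥ := inducedFunctor_ne_bot hW S.isPGroup' hS
    rcases eq_or_lt_of_le hWS with hSe | hlt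
    · -- `S` is normal: fusion is inner
      haveI : (S : Subgroup H).Normal := hSe ▸ hWn
      have hfocal : (S : Subgroup H) ⊓ ⁅(⊤ : Subgroup H), ⊤⁆ ≤
          ⁅(S : Subgroup H), (S : Subgroup H)⁆ := by
        refine inf_commutator_le S _ fun D g hD hg a ha => ?_
        obtain ⟨k, m, hm, hkm⟩ := Nat.exists_eq_pow_mul_and_not_dvd (orderOf_pos g).ne' p
          (Fact.out : p.Prime).ne_one
        have hcop : (m).Coprime (p ^ k) :=
          (((Fact.out : p.Prime).coprime_iff_not_dvd.2 hm).symm).pow_right k
        obtain ⟨i, hi⟩ : ∃ i : ℤ, g ^ i ∈ (S : Subgroup H) ∧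
            (g ^ (-i + 1)) ∈ Subgroup.centralizer ((S : Subgroup H) : Set H) := by
          refine ⟨Nat.gcdA m (p ^ k) * m, ?_, ?_⟩
          · have hpp : IsPGroup p ↥(Subgroup.zpowers (g ^ (Nat.gcdA m (p ^ k) * m))) := by
              refine IsPGroup.of_card_dvd_pow (n := k) ?_
              rw [Nat.card_zpowers]
              refine orderOf_dvd_of_pow_eq_one ?_
              rw [← zpow_natCast, ← zpow_mul]
              refine orderOf_dvd_iff_zpow_eq_one.1 ⟨Nat.gcdA m (p ^ k), ?_⟩
              rw [hkm]; push_cast; ring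
            have h1 : Subgroup.zpowers (g ^ (Nat.gcdA m (p ^ k) * m)) ≤ (S : Subgroup H) := by
              obtain ⟨h, -, hh⟩ := (isSyl_top S).exists_cj_le hpp le_top
              rwa [cj_le_iff, cj_eq_self_of_normal] at hh
            exact h1 (Subgroup.mem_zpowers _)
          · have hbez : (1 : ℤ) = m * Nat.gcdA m (p ^ k) + (p ^ k : ℕ) * Nat.gcdB m (p ^ k) := by
              rw [← Nat.gcd_eq_gcd_ab, hcop]; rfl
            have he : -(Nat.gcdA m (p ^ k) * (m : ℤ)) + 1 = (p ^ k : ℕ) * Nat.gcdB m (p ^ k) := by
              linear_combination hbez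
            rw [he]
            refine hN _ (by rw [Subgroup.normalizer_eq_top]; trivial) ?_
            refine Nat.Coprime.coprime_dvd_left (orderOf_dvd_of_pow_eq_one ?_)
              ((Fact.out : p.Prime).coprime_iff_not_dvd.2 hm).symm
            rw [← zpow_natCast, ← zpow_mul]
            refine orderOf_dvd_iff_zpow_eq_one.1 ⟨Nat.gcdB m (p ^ k), ?_⟩
            rw [hkm]; push_cast; ring
        have e : g = g ^ i * g ^ (-i + 1) := by rw [← zpow_add]; simp
        have hc := Subgroup.mem_centralizer_iff.1 hi.2 a (hD ha)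
        have e2 : g * a * g⁻¹ = g ^ i * a * (g ^ i)⁻¹ := by
          conv_lhs => rw [e]
          rw [mul_inv_rev]
          calc g ^ i * g ^ (-i + 1) * a * ((g ^ (-i + 1))⁻¹ * (g ^ i)⁻¹)
              = g ^ i * (g ^ (-i + 1) * a) * (g ^ (-i + 1))⁻¹ * (g ^ i)⁻¹ := by group
            _ = g ^ i * a * (g ^ i)⁻¹ := by rw [← hc]; group
        rw [e2]
        have := Subgroup.commutator_mem_commutator (inv_mem (hD ha)) hi.1
        simpa [commutatorElement_def, mul_assoc] using this
      have h1 : (S : Subgroup H) ≤ ⁅(S : Subgroup H), (S : Subgroup H)⁆ :=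
        (le_inf le_rfl (by rw [← commutator_def]; exact hle)).trans hfocal
      haveI : Group.IsNilpotent ↥(S : Subgroup H) := S.isPGroup'.isNilpotent
      haveI : Nontrivial ↥(S : Subgroup H) := (Subgroup.nontrivial_iff_ne_bot _).2 hS
      haveI : Group.IsSolvable ↥(S : Subgroup H) := inferInstance
      refine (Group.IsSolvable.commutator_lt_top_of_nontrivial (G := ↥(S : Subgroup H))).ne ?_
      refine Subgroup.map_injective (S : Subgroup H).subtype_injective ?_
      rw [commutator_def, Subgroup.map_commutator, ← MonoidHom.range_eq_map, Subgroup.range_subtype]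
      exact le_antisymm (Subgroup.commutator_le_self _) h1
    · -- pass to the quotient by `W S`
      set f := QuotientGroup.mk' W0 with hf
      have hsurj : Function.Surjective f := QuotientGroup.mk'_surjective W0
      have hcard : Nat.card (H ⧸ W0) ≤ c := by
        have h1 := Subgroup.card_eq_card_quotient_mul_card_subgroup W0
        have h2 : 1 < Nat.card ↥W0 := (Subgroup.one_lt_card_iff_ne_bot W0).2 hWne
        have h3 : 0 < Nat.card (H ⧸ W0) := Nat.card_pos
        have : Nat.card (H ⧸ W0) < Nat.card H := by rw [h1]; exact lt_mul_of_one_lt_right h3 h2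
        omega
      have hcomap : ((S : Subgroup H).map f).comap f = (S : Subgroup H) := by
        rw [Subgroup.comap_map_eq, hf, QuotientGroup.ker_mk', sup_eq_left.2 hWS]
      refine ih (H ⧸ W0) hcard (hsec.of_surjective hsurj) (S.mapSurjective hsurj) ?_ ?_ ?_
      · rw [Sylow.coe_mapSurjective, Ne, Subgroup.map_eq_bot_iff, hf, QuotientGroup.ker_mk']
        exact hlt.not_ge
      · intro y hy hcop
        rw [Sylow.coe_mapSurjective] at hy ⊢
        obtain ⟨g, rfl⟩ := hsurj y
        obtain ⟨k, m, hm, hkm⟩ := Nat.exists_eq_pow_mul_and_not_dvd (orderOf_pos g).ne' p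
          (Fact.out : p.Prime).ne_one
        have hgN : g ∈ Subgroup.normalizer ((S : Subgroup H) : Set H) := by
          refine cj_eq_self_iff.1 (Subgroup.eq_of_le_of_card_ge ?_ (card_cj _ _).ge)
          rintro _ ⟨s, hs, rfl⟩
          refine hcomap.le ?_
          have h1 := (Subgroup.mem_normalizer_iff.1 hy (f s)).1 ⟨s, hs, rfl⟩
          simpa using h1
        have hgC := hN (g ^ p ^ k) (pow_mem hgN _) (by
          refine Nat.Coprime.coprime_dvd_left (orderOf_dvd_of_pow_eq_one ?_)
            ((Fact.out : p.Prime).coprime_iff_not_dvd.2 hm).symm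
          rw [← pow_mul, ← hkm, pow_orderOf_eq_one])
        obtain ⟨j, hj⟩ := exists_pow_eq_self_of_coprime (x := f g) (n := p ^ k)
          (Nat.Coprime.pow_left k hcop.symm)
        rw [← hj, ← map_pow, ← map_pow]
        refine Subgroup.mem_centralizer_iff.2 ?_
        rintro _ ⟨s, hs, rfl⟩
        rw [← map_mul, ← map_mul]
        exact congrArg f (Subgroup.mem_centralizer_iff.1 (pow_mem hgC j) s hs)
      · rw [Sylow.coe_mapSurjective]
        refine (Subgroup.map_mono hle).trans ?_
        rw [commutator_def, commutator_def, Subgroup.map_commutator,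
          Subgroup.map_top_of_surjective f hsurj]

end CfsgLib.ConjFunctor
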