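import Cfsg.Agent.Lib.ConjFunctor.Basic

/-!
# Conjugacy functors induced by isomorphism-invariant p-group functors; sections
-/

set_option autoImplicit false
set_option linter.style.haveILetI false

namespace CfsgLib.ConjFunctor

universe u

variable {p : ℕ} {W : ∀ (Q : Type u) [Group Q], Subgroup Q}

/-- An induced functor commutes with homomorphisms that are injective on the `p`-group. -/
theorem inducedFunctor_map (hW : Cfsg.IsCharPFunctor.{u} p W) {H K : Type u} [Group H] [Group K]
    [Finite H] (f : H →* K) (P : Subgroup H) (hP : IsPGroup p ↥P) (hf : Set.InjOn f P) :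
    Cfsg.inducedFunctor W (P.map f) = (Cfsg.inducedFunctor W P).map f := by
  have hbij : Function.Bijective (f.subgroupMap P) :=
    ⟨fun a b h => Subtype.ext (hf a.2 b.2 (congrArg Subtype.val h)),
      f.subgroupMap_surjective P⟩
  let φ : ↥P ≃* ↥(P.map f) := MulEquiv.ofBijective (f.subgroupMap P) hbij
  show (W ↥(P.map f)).map (P.map f).subtype = ((W ↥P).map P.subtype).map f
  rw [← hW.2 ↥P ↥(P.map f) hP φ, Subgroup.map_map, Subgroup.map_map]
  exact congrArg (fun g => Subgroup.map g (W ↥P)) (MonoidHom.ext fun x => rfl)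

theorem inducedFunctor_le {H : Type u} [Group H] (P : Subgroup H) :
    Cfsg.inducedFunctor W P ≤ P :=
  Subgroup.map_subtype_le _

theorem inducedFunctor_ne_bot (hW : Cfsg.IsCharPFunctor.{u} p W) {H : Type u} [Group H] [Finite H]
    {P : Subgroup H} (hP : IsPGroup p ↥P) (hne : P ≠ ⊥) : Cfsg.inducedFunctor W P ≠ ⊥ := fun h =>
  hW.1 ↥P hP ((Subgroup.nontrivial_iff_ne_bot P).2 hne)
    ((Subgroup.map_eq_bot_iff_of_injective _ P.subtype_injective).1 h)

theorem isConjugacyFunctor_inducedFunctor (hW : Cfsg.IsCharPFunctor.{u} p W) {H : Type u}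
    [Group H] [Finite H] : Cfsg.IsConjugacyFunctor p (Cfsg.inducedFunctor (G := H) W) :=
  fun P hP => ⟨inducedFunctor_le P, inducedFunctor_ne_bot hW hP,
    fun g => inducedFunctor_map hW _ P hP (MulAut.conj g).injective.injOn⟩

/-- The subgroup version: computing inside a subgroup gives the same result. -/
theorem inducedFunctor_subtype (hW : Cfsg.IsCharPFunctor.{u} p W) {H : Type u} [Group H] [Finite H]
    (L : Subgroup H) (P : Subgroup ↥L) (hP : IsPGroup p ↥P) :
    Cfsg.inducedFunctor W (P.map L.subtype) = (Cfsg.inducedFunctor W P).map L.subtype :=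
  inducedFunctor_map hW L.subtype P hP L.subtype_injective.injOn

theorem inducedFunctor_subgroupOf (hW : Cfsg.IsCharPFunctor.{u} p W) {H : Type u} [Group H]
    [Finite H] {L P : Subgroup H} (hPL : P ≤ L) (hP : IsPGroup p ↥P) :
    (Cfsg.inducedFunctor W (P.subgroupOf L)).map L.subtype = Cfsg.inducedFunctor W P := by
  rw [← inducedFunctor_subtype hW L (P.subgroupOf L) (hP.comap_of_injective _ L.subtype_injective),
    Subgroup.subgroupOf_map_subtype, inf_eq_left.2 hPL]

theorem normal_inducedFunctor_of_normal (hW : Cfsg.IsCharPFunctor.{u} p W) {H : Type u} [Group H]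
    [Finite H] {P : Subgroup H} (hP : IsPGroup p ↥P) (hn : P.Normal) :
    (Cfsg.inducedFunctor W P).Normal := by
  haveI := hn
  rw [← Subgroup.normalizer_eq_top_iff, eq_top_iff]
  exact le_trans (by rw [Subgroup.normalizer_eq_top])
    (normalizer_le_functor (isConjugacyFunctor_inducedFunctor hW) hP)

end CfsgLib.ConjFunctor
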