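import Cfsg.Agent.Lib.ConjFunctor.Factor

/-!
# The kernel of a chief factor has no p-group above it
-/

set_option autoImplicit false
set_option linter.style.haveILetI false

open scoped commutatorElement

namespace CfsgLib.ConjFunctor

variable {G : Type*} [Group G] [Finite G] {p : ℕ} [Fact p.Prime]

/-- A normal subgroup which is a p-group modulo the kernel of a chief factor below `O_p(G)` lies in
that kernel. -/
theorem le_sectionKernel_of_pow_mem {U V D : Subgroup G} (hU : U ≤ Cfsg.pCore p G)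
    (hc : Cfsg.IsChiefFactor U V) (hD : D.Normal)
    (hp : ∀ x ∈ D, ∃ k : ℕ, ∀ u ∈ U, ⁅u, x ^ p ^ k⁆ ∈ V) :
    ∀ x ∈ D, ∀ u ∈ U, ⁅u, x⁆ ∈ V := by
  haveI := hc.2.1
  haveI := hc.2.2.1
  haveI := hD
  let f := QuotientGroup.mk' V
  let Ub := secImage U V
  let ψ : G →* MulAut ↥Ub := (MulAut.conjNormal : (G ⧸ V) →* MulAut ↥Ub).comp f
  have hker : ∀ x : G, (∀ u ∈ U, ⁅u, x⁆ ∈ V) → ψ x = 1 := by
    intro x hx
    refine MulEquiv.ext fun y => Subtype.ext ?_
    obtain ⟨u, hu, he⟩ := y.2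
    show f x * (y : G ⧸ V) * (f x)⁻¹ = y
    have h1 : ⁅f u, f x⁆ = 1 := by
      rw [← map_commutatorElement]; exact (QuotientGroup.eq_one_iff _).2 (hx u hu)
    rw [← he, ← commutatorElement_eq_one_iff_mul_comm.1 h1, mul_inv_cancel_right]
  let R := D.map ψ
  have hR : IsPGroup p ↥R := by
    rintro ⟨_, x, hx, rfl⟩
    obtain ⟨k, hk⟩ := hp x hx
    refine ⟨k, Subtype.ext ?_⟩
    show ψ x ^ p ^ k = 1
    rw [← map_pow]; exact hker _ hk
  letI : MulAction ↥R ↥Ub := MulAction.compHom ↥Ub R.subtype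
  have hUne : Ub ≠ ⊥ := by
    rw [Ne, Subgroup.map_eq_bot_iff, QuotientGroup.ker_mk']
    exact hc.1.not_ge
  have hUp : IsPGroup p ↥Ub := ((CfsgLib.Solvable.pCore_isPGroup p G).to_le hU).map f
  have hdvd : p ∣ Nat.card ↥Ub := by
    obtain ⟨n, hn⟩ := hUp.exists_card_eq
    rw [hn]
    exact dvd_pow_self p fun h => hUne (Subgroup.card_eq_one.1 (by rw [hn, h, pow_zero]))
  obtain ⟨z, hz, hzne⟩ := hR.exists_fixed_point_of_prime_dvd_card_of_fixed_point ↥Ub hdvd
    (a := 1) (fun r => map_one (r : MulAut ↥Ub))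
  -- the fixed points form a normal subgroup
  let N : Subgroup G :=
    { carrier := {u | u ∈ U ∧ ∀ x ∈ D, ⁅u, x⁆ ∈ V}
      one_mem' := ⟨one_mem _, fun x _ => by rw [commutatorElement_one_left]; exact one_mem _⟩
      mul_mem' := fun {a b} ha hb => ⟨mul_mem ha.1 hb.1, fun x hx => by
        have e : ⁅a * b, x⁆ = a * ⁅b, x⁆ * a⁻¹ * ⁅a, x⁆ := by
          simp only [commutatorElement_def]; group
        rw [e]
        exact mul_mem (Subgroup.Normal.conj_mem ‹V.Normal› _ (hb.2 x hx) a) (ha.2 x hx)⟩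
      inv_mem' := fun {a} ha => ⟨inv_mem ha.1, fun x hx => by
        have e : ⁅a⁻¹, x⁆ = a⁻¹ * ⁅a, x⁆⁻¹ * (a⁻¹)⁻¹ := by
          simp only [commutatorElement_def]; group
        rw [e]
        exact Subgroup.Normal.conj_mem ‹V.Normal› _ (inv_mem (ha.2 x hx)) _⟩ }
  have hNn : N.Normal := by
    refine ⟨fun u hu g => ⟨Subgroup.Normal.conj_mem ‹U.Normal› _ hu.1 g, fun x hx => ?_⟩⟩
    have e : ⁅g * u * g⁻¹, x⁆ = g * ⁅u, g⁻¹ * x * g⁆ * g⁻¹ := by
      simp only [commutatorElement_def]; group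
    rw [e]
    exact Subgroup.Normal.conj_mem ‹V.Normal› _
      (hu.2 _ (by simpa using hD.conj_mem x hx g⁻¹)) g
  obtain ⟨u₀, hu₀, hu₀z⟩ := z.2
  have hu₀N : u₀ ∈ N := by
    refine ⟨hu₀, fun x hx => ?_⟩
    have h1 : ψ x z = z := hz ⟨ψ x, x, hx, rfl⟩
    have h2 : f x * f u₀ * (f x)⁻¹ = f u₀ := by rw [hu₀z]; exact congrArg Subtype.val h1
    rw [← QuotientGroup.eq_one_iff, ← QuotientGroup.mk'_apply, map_commutatorElement,
      commutatorElement_eq_one_iff_mul_comm]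
    exact (mul_inv_eq_iff_eq_mul.1 h2).symm
  have hVN : V ≤ N := fun v hv =>
    ⟨hc.1.le hv, fun x _ => Subgroup.commutator_le_left V ⊤
      (Subgroup.commutator_mem_commutator hv (Subgroup.mem_top x))⟩
  rcases hc.2.2.2 N hNn hVN (fun u hu => hu.1) with h | h
  · rw [h] at hu₀N
    exact absurd (Subtype.ext (hu₀z.symm.trans
      (((QuotientGroup.mk'_apply V u₀).trans ((QuotientGroup.eq_one_iff u₀).2 hu₀N)).trans
        (Subgroup.coe_one _).symm))).symm hzne
  · intro x hx u hu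
    exact (h.ge hu).2 x hx

end CfsgLib.ConjFunctor
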