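import Cfsg.Agent.Lib.ConjFunctor.Basic
import Cfsg.Agent.Lib.Fusion.FrobeniusCriterion

/-!
# A normal p-complement in the normalizer of a self-centralizing p-subgroup
-/

set_option autoImplicit false
set_option linter.style.haveILetI false

namespace CfsgLib.ConjFunctor

universe u

variable {G : Type u} [Group G] [Finite G] {p : ℕ} [Fact p.Prime]

theorem hasNormalPComplement_normalizer_of_centralizing (S : Sylow p G) (T : Subgroup G)
    (hTn : (S : Subgroup G) ≤ Subgroup.normalizer (T : Set G))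
    (hC : (S : Subgroup G) ⊓ Subgroup.centralizer (T : Set G) ≤ T)
    (hN : ∀ g ∈ Subgroup.normalizer (T : Set G), (orderOf g).Coprime p →
      g ∈ Subgroup.centralizer (T : Set G)) :
    Cfsg.HasNormalPComplement p ↥(Subgroup.normalizer (T : Set G)) := by
  classical
  have hpp := (Fact.out : p.Prime)
  set N := Subgroup.normalizer (T : Set G)
  set C := Subgroup.centralizer (T : Set G) with hCdef
  have hCN : C ≤ N := Subgroup.centralizer_le_normalizer _
  have hinv : ∀ n ∈ N, ∀ c ∈ C, n * c * n⁻¹ ∈ C := by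
    intro n hn c hc
    refine Subgroup.mem_centralizer_iff.2 fun t ht => ?_
    have ht' : n⁻¹ * t * n ∈ T := by
      simpa using (Subgroup.mem_normalizer_iff.1 (inv_mem hn) t).1 ht
    calc t * (n * c * n⁻¹) = n * ((n⁻¹ * t * n) * c) * n⁻¹ := by group
      _ = n * (c * (n⁻¹ * t * n)) * n⁻¹ := by rw [Subgroup.mem_centralizer_iff.1 hc _ ht']
      _ = n * c * n⁻¹ * t := by group
  haveI : (C.subgroupOf N).Normal := ⟨fun c hc n => hinv n n.2 c hc⟩
  have hsyl : IsSyl p (S : Subgroup G) N :=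
    ⟨hTn, S.isPGroup', fun hd => S.not_dvd_index (hd.trans (Subgroup.relIndex_dvd_index_of_le hTn))⟩
  -- every p-element of `C` lies in `T`
  have hCT : ∀ c ∈ C, IsPGroup p ↥(Subgroup.zpowers c) → c ∈ T := by
    intro c hc hcp
    obtain ⟨n, hn, hle⟩ := hsyl.exists_cj_le hcp (Subgroup.zpowers_le.2 (hCN hc))
    have h1 : n * c * n⁻¹ ∈ (S : Subgroup G) := hle (conj_mem_cj (Subgroup.mem_zpowers c))
    exact (Subgroup.mem_normalizer_iff.1 hn c).2 (hC ⟨h1, hinv n hn c hc⟩)
  have hCc : Cfsg.HasNormalPComplement p ↥(C.subgroupOf N) := by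
    refine CfsgLib.NPC.frobenius_criterion fun Q hQ g _ _ => ?_
    refine Subgroup.mem_centralizer_iff.2 fun q hq => Subtype.ext (Subtype.ext ?_)
    refine Subgroup.mem_centralizer_iff.1 g.2 _ (hCT _ q.2 ?_)
    refine IsPGroup.to_le (H := Subgroup.zpowers _) (K := (Q.map (C.subgroupOf N).subtype).map N.subtype)
      ((hQ.map _).map _) (Subgroup.zpowers_le.2 ?_)
    exact Subgroup.mem_map_of_mem N.subtype (Subgroup.mem_map_of_mem (C.subgroupOf N).subtype hq)
  have hq : IsPGroup p (↥N ⧸ C.subgroupOf N) := by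
    intro z
    obtain ⟨n, rfl⟩ := QuotientGroup.mk'_surjective _ z
    refine ⟨(orderOf n).factorization p, ?_⟩
    rw [← map_pow, QuotientGroup.mk'_apply, QuotientGroup.eq_one_iff, Subgroup.mem_subgroupOf]
    refine hN _ (n ^ _ : ↥N).2 ?_
    rw [Subgroup.orderOf_coe, orderOf_pow, Nat.gcd_eq_right (Nat.ordProj_dvd _ p)]
    exact (Nat.coprime_ordCompl hpp (orderOf_pos n).ne').symm
  obtain ⟨k, hk⟩ := hq.exists_card_eq
  rw [← Subgroup.index_eq_card] at hk
  exact CfsgLib.NPC.hasNormalPComplement_of_normal _ hk hCc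

end CfsgLib.ConjFunctor
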