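import Cfsg.Agent.Lib.ConjFunctor.PComplement
import Cfsg.Agent.Lib.ConjFunctor.Kernel
import Cfsg.Agent.Lib.ConjFunctor.EngelFix
import Mathlib.Algebra.CharP.Lemmas
import Mathlib.Algebra.Algebra.ZMod
import Mathlib.RingTheory.Polynomial.Cyclotomic.Basic
import Mathlib.Algebra.CharP.Subring

/-!
# An element satisfying the Engel identity of degree `p - 1` on a chief factor
-/

set_option autoImplicit false
set_option linter.style.haveILetI false

open scoped commutatorElement IsMulCommutative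

namespace CfsgLib.ConjFunctor

variable {p : ℕ}

/-- In characteristic `p`, `(s - 1) ^ (p - 1) = 0` gives `1 + s + ... + s ^ (p - 1) = 0`. -/
theorem geom_sum_eq_zero_of_sub_one_pow [Fact p.Prime] {R : Type*} [Ring R] [CharP R p] {s : R}
    (h : (s - 1) ^ (p - 1) = 0) : ∑ i ∈ Finset.range p, s ^ i = 0 := by
  letI : Algebra (ZMod p) R := ZMod.algebra R p
  have hp := (Fact.out : p.Prime)
  have key : ∑ i ∈ Finset.range p, (Polynomial.X : Polynomial (ZMod p)) ^ i =
      (Polynomial.X - 1) ^ (p - 1) := by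
    refine mul_right_cancel₀ (b := (Polynomial.X : Polynomial (ZMod p)) - 1)
      (by simpa using Polynomial.X_sub_C_ne_zero (1 : ZMod p)) ?_
    rw [geom_sum_mul, ← pow_succ, Nat.sub_add_cancel hp.pos, sub_pow_char, one_pow]
  have := congrArg (Polynomial.aeval s) key
  simpa [h] using this

variable [Fact p.Prime]

/-- The elimination: a group `A` of commuting values, of order prime to `p`, normalised by an
element satisfying the identity, is centralised by it. -/
theorem value_commutator_eq_one {X : Type*} [Group X] {R : Type*} [Ring R] [CharP R p]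
    (ψ : X →* R) {A : Subgroup X} [A.Normal] {g : X}
    (hA : ∀ a ∈ A, ∀ b ∈ A, ψ (a * b) = ψ (b * a))
    (hAm : ∀ a ∈ A, ∃ m : ℕ, m.Coprime p ∧ ψ (a ^ m) = 1)
    (hg : (ψ g - 1) ^ (p - 1) = 0) : ∀ a ∈ A, ψ ⁅a, g⁆ = 1 := by
  have hp := (Fact.out : p.Prime)
  intro a0 ha0
  have hcA : ∀ a ∈ A, ∀ y : X, ⁅a, y⁆ ∈ A := fun a ha y =>
    Subgroup.commutator_le_left A ⊤ (Subgroup.commutator_mem_commutator ha (Subgroup.mem_top y))
  have hgp : ψ g ^ p = 1 := by
    refine sub_eq_zero.1 ?_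
    have e : (ψ g - 1) ^ p = ψ g ^ p - 1 := by
      rw [sub_pow_char_of_commute p (Commute.one_right _), one_pow]
    rw [← e, ← Nat.sub_add_cancel hp.pos, pow_succ, hg, zero_mul]
  have hprod : ∀ b ∈ A, ∀ a ∈ A, ∀ y : X, ψ ⁅b * a, y⁆ = ψ ⁅a, y⁆ * ψ ⁅b, y⁆ := by
    intro b hb a ha y
    have e : ⁅b * a, y⁆ = (b * ⁅a, y⁆) * (b⁻¹ * ⁅b, y⁆) := by
      simp only [commutatorElement_def]; group
    rw [e, map_mul, hA b hb _ (hcA a ha y), ← map_mul, ← map_mul]
    congr 1
    group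
  have hrange : ∀ (y : X) (n : ℕ) (a : X), a ∈ A → ∃ b ∈ A, ψ ⁅b, y⁆ = ψ ⁅a, y ^ n⁆ := by
    intro y n
    induction n with
    | zero => intro a _; exact ⟨1, one_mem A, by rw [pow_zero]; simp [commutatorElement_def]⟩
    | succ n ih =>
      intro a ha
      obtain ⟨b, hb, he⟩ := ih a ha
      have hn : y ^ n * a * (y ^ n)⁻¹ ∈ A := Subgroup.Normal.conj_mem ‹_› _ ha _
      refine ⟨y ^ n * a * (y ^ n)⁻¹ * b, mul_mem hn hb, ?_⟩
      rw [hprod _ hn _ hb, he, ← map_mul]
      congr 1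
      simp only [commutatorElement_def, pow_succ]
      group
  obtain ⟨w, hw⟩ : ∃ w : R, w = ψ ⁅a0, g⁆ := ⟨_, rfl⟩
  rw [← hw]
  have hsum : ∀ b ∈ A, ∑ i ∈ Finset.range p, ψ ⁅b, g ^ i⁆ * ψ g ^ i = 0 := by
    intro b hb
    have hbb : ψ b * ψ b⁻¹ = 1 := by rw [← map_mul, mul_inv_cancel, map_one]
    have h1 := congrArg (fun z => ψ b * z * ψ b⁻¹) (geom_sum_eq_zero_of_sub_one_pow hg)
    simp only [mul_zero, zero_mul, Finset.mul_sum, Finset.sum_mul] at h1
    rw [← h1]
    refine Finset.sum_congr rfl fun i _ => ?_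
    rw [← map_pow, ← map_mul, ← map_mul, ← map_mul]
    congr 1
    simp only [commutatorElement_def]
    group
  have hinv : ∀ j : ℕ, 1 ≤ j → j < p → ∃ a ∈ A, ψ ⁅a, g ^ j⁆ = w := by
    intro j hj hjp
    obtain ⟨k, hk⟩ : ∃ k : ℕ, j * k % p = 1 := by
      obtain ⟨k, hk⟩ := Nat.exists_mul_mod_eq_one_of_coprime
        ((hp.coprime_iff_not_dvd.2 (Nat.not_dvd_of_pos_of_lt hj hjp)).symm) hp.one_lt
      exact ⟨k, hk.2⟩
    obtain ⟨b, hb, he⟩ := hrange (g ^ j) k a0 ha0
    refine ⟨b, hb, he.trans ?_⟩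
    have hpow : ψ ((g ^ j) ^ k) = ψ g := by
      rw [← pow_mul, map_pow, ← Nat.div_add_mod (j * k) p, hk, pow_succ, pow_mul, hgp, one_pow,
        one_mul]
    have hinv' : ψ (((g ^ j) ^ k)⁻¹) = ψ g⁻¹ := by
      calc ψ (((g ^ j) ^ k)⁻¹) = ψ (((g ^ j) ^ k)⁻¹) * (ψ g * ψ g⁻¹) := by
            rw [← map_mul, mul_inv_cancel, map_one, mul_one]
        _ = ψ g⁻¹ := by
            rw [← mul_assoc, ← hpow, ← map_mul, inv_mul_cancel, map_one, one_mul]
    rw [hw]
    simp only [commutatorElement_def, map_mul, hpow, hinv']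
  have helim : ∀ j : ℕ, 1 ≤ j → j ≤ p → ∃ c : ℕ → R,
      (∀ i, ∀ a ∈ A, Commute (c i) (ψ a)) ∧ c 0 = (1 - w) ^ (j - 1) ∧
      (∀ i, 1 ≤ i → i < j → c i = 0) ∧
      ∀ b ∈ A, ∑ i ∈ Finset.range p, c i * ψ ⁅b, g ^ i⁆ * ψ g ^ i = 0 := by
    intro j hj
    induction j, hj using Nat.le_induction with
    | base =>
      exact fun _ => ⟨fun _ => 1, fun _ _ _ => Commute.one_left _, by simp,
        fun i h1 h2 => absurd h2 (by omega), fun b hb => by simpa using hsum b hb⟩
    | succ j hj ih =>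
      intro hjp
      obtain ⟨c, hc, hc0, hcz, hcs⟩ := ih (by omega)
      obtain ⟨a, ha, haw⟩ := hinv j hj (by omega)
      have hwc : ∀ x ∈ A, Commute w (ψ x) := fun x hx => by
        rw [hw]
        show ψ _ * ψ _ = ψ _ * ψ _
        rw [← map_mul, ← map_mul]; exact hA _ (hcA a0 ha0 g) _ hx
      refine ⟨fun i => c i * (ψ ⁅a, g ^ i⁆ - w), fun i x hx => (hc i x hx).mul_left
        (Commute.sub_left ?_ (hwc x hx)), ?_, ?_, ?_⟩
      · show ψ _ * ψ _ = ψ _ * ψ _
        rw [← map_mul, ← map_mul]; exact hA _ (hcA a ha _) _ hx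
      · show c 0 * _ = _
        rw [hc0, pow_zero, commutatorElement_one_right, map_one, ← pow_succ,
          Nat.sub_add_cancel hj, Nat.add_sub_cancel]
      · intro i h1 h2
        show c i * _ = 0
        rcases Nat.lt_succ_iff_lt_or_eq.1 h2 with h | h
        · rw [hcz i h1 h, zero_mul]
        · rw [h, haw, sub_self, mul_zero]
      · intro b hb
        have h1 := hcs (b * a) (mul_mem hb ha)
        have h2 := congrArg (fun z => w * z) (hcs b hb)
        simp only [mul_zero, Finset.mul_sum] at h2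
        rw [← sub_self (0 : R)]
        nth_rewrite 1 [← h1]
        rw [← h2, ← Finset.sum_sub_distrib]
        refine Finset.sum_congr rfl fun i _ => ?_
        rw [hprod b hb a ha, hw]
        have hcw : ψ ⁅a0, g⁆ * c i = c i * ψ ⁅a0, g⁆ := (hc i _ (hcA a0 ha0 g)).symm.eq
        simp only [← mul_assoc, hcw, mul_sub, sub_mul]
  obtain ⟨c, -, hc0, hcz, hcs⟩ := helim p hp.one_lt.le le_rfl
  have h0 := hcs 1 (one_mem A)
  rw [Finset.sum_eq_single 0
    (fun i hi hi0 => by rw [hcz i (Nat.pos_of_ne_zero hi0) (Finset.mem_range.1 hi)]; simp)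
    (fun h => absurd (Finset.mem_range.2 hp.pos) h)] at h0
  rw [hc0, pow_zero, pow_zero, commutatorElement_one_right, map_one, mul_one, mul_one] at h0
  have hwp : w ^ p = 1 := by
    refine (sub_eq_zero.1 ?_).symm
    have e : (1 - w) ^ p = 1 - w ^ p := by
      rw [sub_pow_char_of_commute p (Commute.one_left _), one_pow]
    rw [← e, ← Nat.sub_add_cancel hp.pos, pow_succ, h0, zero_mul]
  obtain ⟨m, hm, hm1⟩ := hAm _ (hcA a0 ha0 g)
  have hwm : w ^ m = 1 := by rw [hw, ← map_pow, hm1]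
  have := pow_gcd_eq_one.2 ⟨hwp, hwm⟩
  rwa [Nat.Coprime.gcd_eq_one hm.symm, pow_one] at this

variable {X : Type*} [Group X] [Finite X]

omit [Fact p.Prime] [Finite X] in
theorem secRep_eq_one_iff {U V : Subgroup X} [U.Normal] [V.Normal]
    [IsMulCommutative ↥(secImage U V)] {x : X} :
    secRep U V x = 1 ↔ x ∈ Cfsg.sectionKernel U V := by
  rw [mem_sectionKernel]
  have key : ∀ u : ↥U, secRep U V x (secClass U V u) = secClass U V u ↔ ⁅(u : X), x⁆ ∈ V := by
    intro u
    rw [secRep_class, secClass_eq_iff]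
    have e : ⁅(u : X), x⁆ = u * ((x * u * x⁻¹)⁻¹ * u) * (u : X)⁻¹ := by
      simp only [commutatorElement_def]; group
    rw [e]
    exact ⟨fun h => Subgroup.Normal.conj_mem ‹V.Normal› _ h _,
      fun h => by simpa [mul_assoc] using Subgroup.Normal.conj_mem ‹V.Normal› _ h (u : X)⁻¹⟩
  constructor
  · intro h u hu
    exact (key ⟨u, hu⟩).1 (by rw [h]; rfl)
  · intro h
    refine AddMonoidHom.ext fun y => ?_
    obtain ⟨u, rfl⟩ := secClass_surjective U V y
    exact (key u).2 (h u u.2)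

/-- In a group with abelian normal p-complement modulo a normal p-subgroup, an element cannot
satisfy the Engel identity of degree `p - 1` on a chief factor it moves. -/
theorem engel_trivial_of_nice (hX : ∃ P A : Subgroup X, P.Normal ∧ A.Normal ∧ IsPGroup p ↥P ∧
      (∀ a ∈ A, ∀ b ∈ A, ⁅a, b⁆ ∈ P) ∧ (∀ x : X, ∃ k : ℕ, x ^ p ^ k ∈ A) ∧
      ∀ a ∈ A, ∃ m : ℕ, m.Coprime p ∧ a ^ m ∈ P)
    {U V : Subgroup X} (hc : Cfsg.IsChiefFactor U V) (hU : U ≤ Cfsg.pCore p X) {g : X}
    (hg : Cfsg.iterCommutator U (Subgroup.zpowers g) (p - 1) ≤ V) :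
    ⁅U, Subgroup.zpowers g⁆ ≤ V := by
  obtain ⟨P, A, hPn, hAn, hPp, hab, hpow, hm⟩ := hX
  haveI := hc.2.1
  haveI := hc.2.2.1
  haveI := hPn
  haveI := hAn
  have hp := (Fact.out : p.Prime)
  have habU : ⁅U, U⁆ ≤ V :=
    (Subgroup.commutator_mono le_rfl hU).trans (commutator_chief_le le_rfl hc hU)
  haveI := secImage_comm (U := U) (V := V) habU
  set K := Cfsg.sectionKernel U V with hK
  haveI hKn : K.Normal := sectionKernel_normal
  rw [commutator_le_iff_le_sectionKernel, Subgroup.zpowers_le, ← hK]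
  obtain ⟨u0, hu0, hu0V⟩ := SetLike.exists_of_lt hc.1
  haveI : Nontrivial (AddMonoid.End (Additive ↥(secImage U V))) := by
    refine ⟨0, 1, fun h => hu0V ((secClass_eq_zero U V (u := ⟨u0, hu0⟩)).1 ?_)⟩
    exact (DFunLike.congr_fun h _).symm
  haveI : CharP (AddMonoid.End (Additive ↥(secImage U V))) p := by
    refine (CharP.charP_iff_prime_eq_zero hp).2 (AddMonoidHom.ext fun y => ?_)
    obtain ⟨u, rfl⟩ := secClass_surjective U V y
    show p • secClass U V u = 0
    have : ∀ n : ℕ, n • secClass U V u = secClass U V (u ^ n) := by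
      intro n
      induction n with
      | zero => rw [zero_smul, pow_zero, secClass_one]
      | succ n ih => rw [succ_nsmul, pow_succ, secClass_mul, ih]
    rw [this, secClass_eq_zero, SubmonoidClass.coe_pow]
    exact pow_mem_of_chiefFactor hc hU habU u.2
  have hPK : P ≤ K := fun x hx => mem_sectionKernel.2
    (pCore_le_chiefKernel le_rfl (CfsgLib.Solvable.le_pCore hPn hPp hx) U V hc hU)
  have hone : ∀ x ∈ P, secRep U V x = 1 := fun x hx => secRep_eq_one_iff.2 (hPK hx)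
  have hcomA : ∀ a ∈ A, secRep U V ⁅a, g⁆ = 1 := by
    refine value_commutator_eq_one (secRep U V) (fun a ha b hb => ?_)
      (fun a ha => ?_) ((iterCommutator_zpowers_le_iff U V g (p - 1)).1 hg)
    · have e : a * b = ⁅a, b⁆ * (b * a) := by simp only [commutatorElement_def]; group
      rw [e, map_mul, hone _ (hab a ha b hb), one_mul]
    · obtain ⟨m, hm1, hm2⟩ := hm a ha
      exact ⟨m, hm1, hone _ hm2⟩
  -- the image of `g` generates a normal p-subgroup
  let q := QuotientGroup.mk' K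
  have hq : Function.Surjective q := QuotientGroup.mk'_surjective K
  set Cb := Subgroup.centralizer ((A.map q : Subgroup (X ⧸ K)) : Set (X ⧸ K)) with hCb
  haveI : (A.map q).Normal := hAn.map q hq
  haveI : Cb.Normal := by rw [hCb]; infer_instance
  have hgC : q g ∈ Cb := by
    refine Subgroup.mem_centralizer_iff.2 ?_
    rintro _ ⟨a, ha, rfl⟩
    rw [← commutatorElement_eq_one_iff_mul_comm, ← map_commutatorElement]
    exact (QuotientGroup.eq_one_iff _).2 (secRep_eq_one_iff.1 (hcomA a ha))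
  have hgp : IsPGroup p ↥(Subgroup.zpowers (q g)) := by
    have hord : orderOf (q g) ∣ p := by
      refine orderOf_dvd_of_pow_eq_one ?_
      rw [← map_pow]
      refine (QuotientGroup.eq_one_iff _).2 (secRep_eq_one_iff.1 (sub_eq_zero.1 ?_))
      rw [map_pow]
      have e : (secRep U V g - 1) ^ p = secRep U V g ^ p - 1 := by
        rw [sub_pow_char_of_commute p (Commute.one_right _), one_pow]
      rw [← e, ← Nat.sub_add_cancel hp.pos, pow_succ,
        (iterCommutator_zpowers_le_iff U V g (p - 1)).1 hg, zero_mul]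
    intro z
    refine ⟨1, Subtype.ext ?_⟩
    obtain ⟨n, hn⟩ := Subgroup.mem_zpowers_iff.1 z.2
    rw [pow_one, SubmonoidClass.coe_pow, ← hn, ← zpow_natCast, ← zpow_mul, mul_comm, zpow_mul,
      zpow_natCast, orderOf_dvd_iff_pow_eq_one.1 hord, one_zpow, OneMemClass.coe_one]
  obtain ⟨S, hgS⟩ := hgp.exists_le_sylow
  have htop : A.map q ⊔ (S : Subgroup (X ⧸ K)) = ⊤ := by
    refine Subgroup.index_eq_one.1 ?_
    have hpq : IsPGroup p ((X ⧸ K) ⧸ A.map q) := by
      intro z
      obtain ⟨y, rfl⟩ := QuotientGroup.mk'_surjective (A.map q) z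
      obtain ⟨x, rfl⟩ := hq y
      obtain ⟨k, hk⟩ := hpow x
      refine ⟨k, ?_⟩
      rw [← map_pow, QuotientGroup.mk'_apply, QuotientGroup.eq_one_iff, ← map_pow]
      exact Subgroup.mem_map_of_mem q hk
    obtain ⟨n, hn⟩ := hpq.exists_card_eq
    rw [← Subgroup.index_eq_card] at hn
    refine Nat.eq_one_of_dvd_coprimes
      ((hp.coprime_iff_not_dvd.2 S.not_dvd_index).pow_left n)
      (hn ▸ Subgroup.index_dvd_of_le le_sup_left) (Subgroup.index_dvd_of_le le_sup_right)
  have hcl : Subgroup.normalClosure {q g} ≤ (S : Subgroup (X ⧸ K)) := by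
    rw [Subgroup.normalClosure, Subgroup.closure_le]
    intro y hy
    obtain ⟨z, hz, hzy⟩ := Group.mem_conjugatesOfSet_iff.1 hy
    rw [Set.mem_singleton_iff] at hz
    subst hz
    obtain ⟨x, rfl⟩ := isConj_iff.1 hzy
    have hx : x ∈ A.map q ⊔ (S : Subgroup (X ⧸ K)) := htop ▸ Subgroup.mem_top x
    rw [← SetLike.mem_coe, Subgroup.normal_mul] at hx
    obtain ⟨a, ha, s, hs, rfl⟩ := hx
    have h1 : s * q g * s⁻¹ ∈ Cb := Subgroup.Normal.conj_mem ‹_› _ hgC s
    have h2 : a * (s * q g * s⁻¹) = (s * q g * s⁻¹) * a := Subgroup.mem_centralizer_iff.1 h1 a ha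
    show a * s * q g * (a * s)⁻¹ ∈ (S : Subgroup (X ⧸ K))
    rw [show a * s * q g * (a * s)⁻¹ = (a * (s * q g * s⁻¹)) * a⁻¹ by group, h2,
      mul_inv_cancel_right]
    exact mul_mem (mul_mem hs (hgS (Subgroup.mem_zpowers _))) (inv_mem hs)
  refine mem_sectionKernel.2 (le_sectionKernel_of_pow_mem hU hc
    (Subgroup.normalClosure_normal.comap q) (fun x hx => ?_) g
    (Subgroup.subset_normalClosure (Set.mem_singleton _)))
  obtain ⟨k, hk⟩ := (S.isPGroup'.to_le hcl) ⟨q x, hx⟩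
  refine ⟨k, mem_sectionKernel.1 ((QuotientGroup.eq_one_iff _).1 ?_)⟩
  show q (x ^ p ^ k) = 1
  rw [map_pow]
  simpa using congrArg Subtype.val hk

end CfsgLib.ConjFunctor
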