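import Cfsg.Agent.Lib.ConjFunctor.Section
import Cfsg.Agent.Lib.ConjFunctor.Kernel

/-!
# p-stability in the normalizer form, and chief factors
-/

set_option autoImplicit false
set_option linter.style.haveILetI false

open scoped commutatorElement

namespace CfsgLib.ConjFunctor

universe u

variable {p : ℕ}

/-- p-stability in the normalizer form, without quotient groups. -/
def PStab (p : ℕ) (X : Type u) [Group X] : Prop :=
  ∀ P : Subgroup X, IsPGroup p ↥P → ∀ g ∈ Subgroup.normalizer (P : Set X),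
    ⁅⁅P, Subgroup.zpowers g⁆, Subgroup.zpowers g⁆ = ⊥ →
      ∃ D : Subgroup X, g ∈ D ∧ D ≤ Subgroup.normalizer (P : Set X) ∧
        Subgroup.normalizer (P : Set X) ≤ Subgroup.normalizer (D : Set X) ∧
        ∀ x ∈ D, ∃ k : ℕ, x ^ p ^ k ∈ Subgroup.centralizer (P : Set X)

theorem pStab_of_isNormalizerPStable {X : Type u} [Group X]
    (h : Cfsg.IsNormalizerPStable p X) : PStab p X := by
  intro P hP g hg hq
  have hmem := h P hP g hg hq
  set N := Subgroup.normalizer (P : Set X) with hN
  haveI : ((Subgroup.centralizer (P : Set X)).subgroupOf N).Normal := inferInstance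
  set π := QuotientGroup.mk' ((Subgroup.centralizer (P : Set X)).subgroupOf N) with hπ
  haveI := CfsgLib.Solvable.pCore_normal p (↥N ⧸ (Subgroup.centralizer (P : Set X)).subgroupOf N)
  refine ⟨((Cfsg.pCore p _).comap π).map N.subtype, ⟨⟨g, hg⟩, hmem, rfl⟩,
    Subgroup.map_subtype_le _, ?_, ?_⟩
  · intro n hn
    refine (mem_normalizer_map_iff' N ⟨n, hn⟩ _).2 ?_
    rw [Subgroup.normalizer_eq_top]; trivial
  · rintro _ ⟨x, hx, rfl⟩
    obtain ⟨k, hk⟩ := CfsgLib.Solvable.pCore_isPGroup p _ ⟨π x, hx⟩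
    refine ⟨k, ?_⟩
    have h1 : π x ^ p ^ k = 1 := by simpa using congrArg Subtype.val hk
    rw [← map_pow] at h1
    exact (QuotientGroup.eq_one_iff (x ^ p ^ k)).1 h1
where
  mem_normalizer_map_iff' {X : Type u} [Group X] (N : Subgroup X) (n : ↥N) (D : Subgroup ↥N) :
      (n : X) ∈ Subgroup.normalizer ((D.map N.subtype : Subgroup X) : Set X) ↔
        n ∈ Subgroup.normalizer (D : Set ↥N) := by
    simp only [Subgroup.mem_normalizer_iff]
    constructor
    · intro h z
      have h1 := h (z : X)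
      rw [show (n : X) * z * (n : X)⁻¹ = ((n * z * n⁻¹ : ↥N) : X) from rfl] at h1
      have hi : ∀ w : ↥N, ((w : X) ∈ D.map N.subtype) ↔ w ∈ D := fun w =>
        Subgroup.mem_map_iff_mem (f := N.subtype) N.subtype_injective
      rwa [hi, hi] at h1
    · intro h x
      constructor
      · rintro ⟨z, hz, rfl⟩
        exact ⟨n * z * n⁻¹, (h z).1 hz, rfl⟩
      · rintro ⟨z, hz, he⟩
        have h2 : n⁻¹ * z * n ∈ D := (h _).2 (by simpa [mul_assoc] using hz)
        refine ⟨_, h2, ?_⟩
        simp only [Subgroup.coe_subtype] at he ⊢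
        rw [Subgroup.coe_mul, Subgroup.coe_mul, Subgroup.coe_inv, he]
        group

theorem pStab_equiv {X Y : Type u} [Group X] [Group Y] (e : X ≃* Y) (h : PStab p X) : PStab p Y := by
  intro P hP g hg hq
  have hsymm : ∀ Q : Subgroup Y, (Q.map e.symm.toMonoidHom).map e.toMonoidHom = Q := fun Q => by
    rw [Subgroup.map_map]
    convert Subgroup.map_id Q
    exact MonoidHom.ext fun x => by simp
  obtain ⟨D, hgD, hDN, hND, hD⟩ := h (P.map e.symm.toMonoidHom) (hP.map _) (e.symm g)
    (by rw [← map_normalizer_equiv]; exact Subgroup.mem_map_of_mem _ hg)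
    (by
      rw [show Subgroup.zpowers (e.symm g) = (Subgroup.zpowers g).map e.symm.toMonoidHom from
        (MonoidHom.map_zpowers e.symm.toMonoidHom g).symm, ← Subgroup.map_commutator,
        ← Subgroup.map_commutator, hq, Subgroup.map_bot])
  refine ⟨D.map e.toMonoidHom, ⟨e.symm g, hgD, e.apply_symm_apply g⟩, ?_, ?_, ?_⟩
  · have h1 := Subgroup.map_mono (f := e.toMonoidHom) hDN
    rwa [map_normalizer_equiv, hsymm] at h1
  · have h1 := Subgroup.map_mono (f := e.toMonoidHom) hND
    rwa [map_normalizer_equiv, hsymm, map_normalizer_equiv] at h1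
  · rintro _ ⟨x, hx, rfl⟩
    obtain ⟨k, hk⟩ := hD x hx
    refine ⟨k, ?_⟩
    have h1 := Subgroup.mem_map_of_mem e.toMonoidHom hk
    rwa [map_centralizer_equiv, hsymm, map_pow] at h1

theorem isNormalizerPStable_of_pStab {X : Type u} [Group X] (h : PStab p X) :
    Cfsg.IsNormalizerPStable p X := by
  intro P hP g hg hq
  obtain ⟨D, hgD, hDN, hND, hD⟩ := h P hP g hg hq
  set N := Subgroup.normalizer (P : Set X) with hN
  haveI : ((Subgroup.centralizer (P : Set X)).subgroupOf N).Normal := inferInstance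
  set π := QuotientGroup.mk' ((Subgroup.centralizer (P : Set X)).subgroupOf N)
  haveI : (D.subgroupOf N).Normal := ⟨fun x hx n =>
    (Subgroup.mem_normalizer_iff.1 (hND n.2) (x : X)).1 hx⟩
  refine CfsgLib.Solvable.le_pCore (Subgroup.Normal.map ‹_› π (QuotientGroup.mk'_surjective _))
    ?_ ⟨⟨g, hg⟩, hgD, rfl⟩
  rintro ⟨_, x, hx, rfl⟩
  obtain ⟨k, hk⟩ := hD (x : X) hx
  refine ⟨k, Subtype.ext ?_⟩
  rw [SubmonoidClass.coe_pow, ← map_pow]
  exact (QuotientGroup.eq_one_iff _).2 hk

/-- In a group with p-stable quotients a quadratic element of a chief factor below `O_p` acts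
trivially on it. -/
theorem quadratic_chief_trivial [Fact p.Prime] {H : Type u} [Group H] [Finite H]
    {U V : Subgroup H} (hc : Cfsg.IsChiefFactor U V) (hU : U ≤ Cfsg.pCore p H)
    (hst : ∀ [V.Normal], PStab p (H ⧸ V)) {g : H}
    (hq : ⁅⁅U, Subgroup.zpowers g⁆, Subgroup.zpowers g⁆ ≤ V) :
    ⁅U, Subgroup.zpowers g⁆ ≤ V := by
  haveI := hc.2.1
  haveI := hc.2.2.1
  set f := QuotientGroup.mk' V with hf
  have hUn : (U.map f).Normal := hc.2.1.map f (QuotientGroup.mk'_surjective V)
  have htop : Subgroup.normalizer ((U.map f : Subgroup (H ⧸ V)) : Set (H ⧸ V)) = ⊤ := by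
    haveI := hUn; rw [Subgroup.normalizer_eq_top]
  obtain ⟨D, hgD, -, hND, hD⟩ := hst (U.map f) (((CfsgLib.Solvable.pCore_isPGroup p H).to_le hU).map f)
    (f g) (by rw [htop]; trivial) (by
      rw [← MonoidHom.map_zpowers, ← Subgroup.map_commutator, ← Subgroup.map_commutator,
        Subgroup.map_eq_bot_iff, QuotientGroup.ker_mk']
      exact hq)
  rw [htop] at hND
  haveI : D.Normal := Subgroup.normalizer_eq_top_iff.1 (top_le_iff.1 hND)
  rw [commutator_le_iff_le_sectionKernel, Subgroup.zpowers_le, mem_sectionKernel]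
  refine le_sectionKernel_of_pow_mem hU hc (Subgroup.Normal.comap ‹D.Normal› f) (fun x hx => ?_)
    g hgD
  obtain ⟨k, hk⟩ := hD (f x) hx
  refine ⟨k, fun u hu => ?_⟩
  rw [← QuotientGroup.eq_one_iff, ← QuotientGroup.mk'_apply, map_commutatorElement,
    commutatorElement_eq_one_iff_mul_comm, map_pow]
  exact Subgroup.mem_centralizer_iff.1 hk _ ⟨u, hu, rfl⟩

end CfsgLib.ConjFunctor
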