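import Cfsg.Agent.Lib.ConjFunctor.NiceAction
import Cfsg.Agent.Lib.ConjFunctor.PStable
import Cfsg.Agent.Lib.ConjFunctor.TransferMain

/-!
# Groups with abelian normal p-complement modulo a normal p-subgroup are p-stable for odd p
-/

set_option autoImplicit false
set_option linter.style.haveILetI false

namespace CfsgLib.ConjFunctor

universe u

variable {p : ℕ} [Fact p.Prime]

theorem pStab_of_nice (hp2 : p ≠ 2) {X : Type u} [Group X] [Finite X] (hX : Nice p X) :
    PStab p X := by
  intro P hP g hg hq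
  have hp := (Fact.out : p.Prime)
  set N := Subgroup.normalizer (P : Set X) with hN
  have hPN : P ≤ N := Subgroup.le_normalizer
  set Pn := P.subgroupOf N with hPn
  haveI : Pn.Normal := (Subgroup.normal_subgroupOf_iff_le_normalizer hPN).2 le_rfl
  have hPp : IsPGroup p ↥Pn := hP.comap_of_injective _ N.subtype_injective
  have hPO : Pn ≤ Cfsg.pCore p ↥N := CfsgLib.Solvable.le_pCore inferInstance hPp
  have hD : (⟨g, hg⟩ : ↥N) ∈ chiefKernel Pn := by
    intro U V hc hU u hu
    haveI := hc.2.2.1
    refine Subgroup.commutator_le.1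
      (engel_trivial_of_nice (hX.subgroup N) hc (hU.trans hPO) ?_) u hu _ (Subgroup.mem_zpowers _)
    refine iterCommutator_le_of_le (m := 2) ?_ ?_
    · show ⁅⁅U, Subgroup.zpowers (⟨g, hg⟩ : ↥N)⁆, Subgroup.zpowers (⟨g, hg⟩ : ↥N)⁆ ≤ V
      refine ((Subgroup.commutator_mono (Subgroup.commutator_mono hU le_rfl) le_rfl).trans
        (le_of_eq ?_)).trans bot_le
      refine Subgroup.map_injective N.subtype_injective ?_
      rw [Subgroup.map_commutator, Subgroup.map_commutator, Subgroup.subgroupOf_map_subtype,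
        inf_eq_left.2 hPN, MonoidHom.map_zpowers, Subgroup.map_bot]
      exact hq
    · have := hp.two_le
      omega
  refine ⟨(chiefKernel Pn).map N.subtype, ⟨_, hD, rfl⟩, Subgroup.map_subtype_le _, ?_, ?_⟩
  · haveI := chiefKernel_normal (G := ↥N) Pn
    intro n hn
    refine Subgroup.le_normalizer_map N.subtype ⟨⟨n, hn⟩, ?_, rfl⟩
    rw [Subgroup.normalizer_eq_top]; trivial
  · rintro _ ⟨x, hx, rfl⟩
    refine ⟨(orderOf x).factorization p, Subgroup.mem_centralizer_iff.2 fun y hy => ?_⟩
    have hcop : (orderOf (x ^ p ^ (orderOf x).factorization p)).Coprime p := by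
      rw [orderOf_pow, Nat.gcd_eq_right (Nat.ordProj_dvd _ p)]
      exact (Nat.coprime_ordCompl hp (orderOf_pos x).ne').symm
    exact congrArg Subtype.val (Subgroup.mem_centralizer_iff.1
      (mem_centralizer_of_chiefKernel hPp (pow_mem hx _) hcop) ⟨y, hPN hy⟩ hy)

/-- In the critical configuration a functor value cannot control strong fusion. -/
theorem critical_of_controls {H : Type u} [Group H] [Finite H] (hcon : Constrained p H)
    {W : ∀ (Q : Type u) [Group Q], Subgroup Q} (hW : Cfsg.IsCharPFunctor.{u} p W) (S : Sylow p H)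
    (hmax : ∀ L : Subgroup H, (S : Subgroup H) ≤ L → L ≠ ⊤ → L = (S : Subgroup H))
    (hnn : ¬ (Cfsg.inducedFunctor (G := H) W (S : Subgroup H)).Normal) :
    ¬ Cfsg.ControlsStrongFusion p (Cfsg.inducedFunctor (G := H) W (S : Subgroup H)) := by
  rintro ⟨T, -, hT⟩
  have hN : Subgroup.normalizer
      ((Cfsg.inducedFunctor (G := H) W (S : Subgroup H) : Subgroup H) : Set H) = (S : Subgroup H) :=
    hmax _ ((normalizer_le_functor (isConjugacyFunctor_inducedFunctor hW) S.isPGroup').trans'
      Subgroup.le_normalizer) fun h => hnn (Subgroup.normalizer_eq_top_iff.1 h)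
  haveI hPn := CfsgLib.Solvable.pCore_normal p H
  set P := Cfsg.pCore p H
  have hST : (S : Subgroup H) ≠ ⊤ := fun h => hnn
    (normal_inducedFunctor_of_normal hW S.isPGroup' (h ▸ inferInstance))
  refine hST (eq_top_iff.2 fun y _ => ?_)
  obtain ⟨x, hx, hxy⟩ := (hT (P : Set H) (CfsgLib.Solvable.pCore_le_sylow T)).2 y (by
    rintro _ ⟨a, ha, rfl⟩
    exact CfsgLib.Solvable.pCore_le_sylow T (hPn.conj_mem a ha y))
  rw [hN] at hx
  have hc : x⁻¹ * y ∈ Subgroup.centralizer (P : Set H) := by
    refine Subgroup.mem_centralizer_iff.2 fun a ha => ?_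
    calc a * (x⁻¹ * y) = x⁻¹ * (x * a * x⁻¹) * y := by group
      _ = x⁻¹ * (y * a * y⁻¹) * y := by rw [hxy a ha]
      _ = x⁻¹ * y * a := by group
  simpa using mul_mem hx (CfsgLib.Solvable.pCore_le_sylow S (hcon hc))

end CfsgLib.ConjFunctor
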