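import Cfsg.Agent.Lib.ConjFunctor.Section
import Cfsg.Agent.Lib.ConjFunctor.WeakClosure
import Mathlib.GroupTheory.SchurZassenhaus

/-!
# Groups that are not p-constrained: the two ways out
-/

set_option autoImplicit false
set_option linter.style.haveILetI false

namespace CfsgLib.ConjFunctor

universe u

variable {H : Type u} [Group H] [Finite H] {p : ℕ} [Fact p.Prime]

instance centralizer_pCore_normal : (Subgroup.centralizer (Cfsg.pCore p H : Set H)).Normal := by
  haveI := CfsgLib.Solvable.pCore_normal p H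
  infer_instance

theorem le_normalizer_inf_normal (S : Subgroup H) (C : Subgroup H) [C.Normal] :
    S ≤ Subgroup.normalizer ((S ⊓ C : Subgroup H) : Set H) := fun s hs => by
  refine cj_eq_self_iff.1 ?_
  rw [cj_inf, cj_eq_self_of_mem hs, cj_eq_self_of_normal]

theorem inf_le_pCore_of_normal (S : Sylow p H) (C : Subgroup H) [C.Normal]
    (h : Subgroup.normalizer (((S : Subgroup H) ⊓ C : Subgroup H) : Set H) = ⊤) :
    (S : Subgroup H) ⊓ C ≤ Cfsg.pCore p H := by
  haveI := Subgroup.normalizer_eq_top_iff.1 h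
  exact CfsgLib.Solvable.le_pCore inferInstance (S.isPGroup'.to_le inf_le_left)

/-- With `O_{p'} = 1`, a normal subgroup centralizing `O_p` whose Sylow subgroup lies in `O_p`
lies in `O_p`. -/
theorem le_pCore_of_inf_le (S : Sylow p H) (C : Subgroup H) [C.Normal]
    (hC : C ≤ Subgroup.centralizer (Cfsg.pCore p H : Set H))
    (hQ : Cfsg.pPrimeCore p H = ⊥) (h : (S : Subgroup H) ⊓ C ≤ Cfsg.pCore p H) :
    C ≤ Cfsg.pCore p H := by
  haveI := CfsgLib.Solvable.pCore_normal p H
  set Z := (Cfsg.pCore p H).subgroupOf C with hZ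
  have hZp : IsPGroup p ↥Z :=
    (CfsgLib.Solvable.pCore_isPGroup p H).comap_of_injective _ C.subtype_injective
  have hidx : ¬ p ∣ Z.index := by
    intro hd
    refine (isSyl_inf_normal S C).not_dvd (hd.trans ?_)
    refine Subgroup.index_dvd_of_le (fun x hx => ?_)
    exact h hx
  have hcop : (Nat.card ↥Z).Coprime Z.index := by
    obtain ⟨n, hn⟩ := hZp.exists_card_eq
    rw [hn]
    exact ((Fact.out : p.Prime).coprime_iff_not_dvd.2 hidx).pow_left n
  obtain ⟨Q, hQc⟩ := Subgroup.exists_right_complement'_of_coprime hcop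
  have hQn : Q.Normal := by
    refine ⟨fun x hx c => ?_⟩
    obtain ⟨⟨⟨z, hz⟩, ⟨q, hq⟩⟩, hzq⟩ := hQc.2 c
    simp only at hzq
    subst hzq
    have hzc : ∀ y : ↥C, Commute z y := fun y =>
      Subtype.ext (Subgroup.mem_centralizer_iff.1 (hC y.2) _ hz)
    have e : z * q * x * (z * q)⁻¹ = q * x * q⁻¹ := by
      rw [mul_inv_rev]
      calc z * q * x * (q⁻¹ * z⁻¹) = z * (q * x * q⁻¹) * z⁻¹ := by group
        _ = q * x * q⁻¹ := by rw [(hzc (q * x * q⁻¹)).eq, mul_inv_cancel_right]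
    rw [e]
    exact mul_mem (mul_mem hq hx) (inv_mem hq)
  have hQcard : Nat.card ↥Q = Z.index := (hQc.symm.index_eq_card).symm
  have hQle : Q.map C.subtype ≤ Cfsg.pPrimeCore p H := by
    refine (Subgroup.map_mono (CfsgLib.Solvable.le_pPrimeCore hQn ?_)).trans
      (CfsgLib.Solvable.map_subtype_pPrimeCore_le C)
    rw [hQcard]
    exact (((Fact.out : p.Prime).coprime_iff_not_dvd.2 hidx).symm)
  rw [hQ, le_bot_iff, Subgroup.map_eq_bot_iff_of_injective _ C.subtype_injective] at hQle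
  rw [hQle, Subgroup.card_bot] at hQcard
  intro x hx
  have h1 : (⟨x, hx⟩ : ↥C) ∈ Z := by
    rw [Subgroup.index_eq_one.1 hQcard.symm]; trivial
  exact h1

/-- If the Sylow subgroup of `C(O_p)` lies in `O_p` and `C(O_p)` does not, `O_{p'}` is nontrivial. -/
theorem pPrimeCore_ne_bot_of_inf_le (S : Sylow p H) (hc : ¬ Constrained p H)
    (h : (S : Subgroup H) ⊓ Subgroup.centralizer (Cfsg.pCore p H : Set H) ≤ Cfsg.pCore p H) :
    Cfsg.pPrimeCore p H ≠ ⊥ :=
  fun hQ => hc (le_pCore_of_inf_le S _ le_rfl hQ h)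

/-- A move inside the Sylow subgroup `S` is a move inside `C ⊔ S` followed by one inside the
normalizer of `S ∩ C`. -/
theorem move_split (S : Sylow p H) (C : Subgroup H) [C.Normal] {D : Subgroup H} {h : H}
    (hD : D ≤ (S : Subgroup H)) (hh : cj h D ≤ (S : Subgroup H)) :
    ∃ y z : H, y ∈ C ⊔ (S : Subgroup H) ∧
      z ∈ Subgroup.normalizer (((S : Subgroup H) ⊓ C : Subgroup H) : Set H) ∧
      h = z * y ∧ cj y D ≤ (S : Subgroup H) := by
  set N := Subgroup.normalizer (((S : Subgroup H) ⊓ C : Subgroup H) : Set H) with hN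
  set L := C ⊔ (S : Subgroup H) with hL
  have hSN : (S : Subgroup H) ≤ N := le_normalizer_inf_normal _ C
  obtain ⟨c', hc', hcn⟩ := frattini_argument S C h⁻¹


  have hnN : h * c'⁻¹ ∈ N := by
    have h0 : (c' * h⁻¹)⁻¹ ∈ N := inv_mem hcn
    rwa [mul_inv_rev, inv_inv] at h0
  have hcL : c' ∈ L := Subgroup.mem_sup_left hc'
  have hE : cj c' D ≤ L ⊓ N := by
    refine le_inf (cj_le_of_mem (hD.trans le_sup_right) hcL) ?_
    have e : cj c' D = cj (h * c'⁻¹)⁻¹ (cj h D) := by
      rw [← cj_mul]; congr 1; group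
    rw [e]
    exact cj_le_of_mem (hh.trans hSN) (inv_mem hnN)
  have hsyl : IsSyl p (S : Subgroup H) (L ⊓ N) :=
    ⟨le_inf le_sup_right hSN, S.isPGroup', fun hd => S.not_dvd_index
      (hd.trans (Subgroup.relIndex_dvd_index_of_le (le_inf le_sup_right hSN)))⟩
  obtain ⟨m, hm, hle⟩ := hsyl.exists_cj_le (isPGroup_cj (S.isPGroup'.to_le hD)) hE
  refine ⟨m * c', h * c'⁻¹ * m⁻¹, mul_mem hm.1 hcL, mul_mem hnN (inv_mem hm.2), by group, ?_⟩
  rw [cj_mul]; exact hle

/-- Passing to the quotient by a normal `p'`-subgroup preserves normalizers of `p`-subgroups. -/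
theorem map_normalizer_pPrime {H' : Type u} [Group H'] {f : H →* H'} (hf : Function.Surjective f)
    (hker : (Nat.card ↥f.ker).Coprime p) {X : Subgroup H} (hX : IsPGroup p ↥X) :
    (Subgroup.normalizer (X : Set H)).map f =
      Subgroup.normalizer ((X.map f : Subgroup H') : Set H') := by
  refine le_antisymm (Subgroup.le_normalizer_map f) fun y hy => ?_
  obtain ⟨x, rfl⟩ := hf y
  haveI : Finite H' := Finite.of_surjective f hf
  set M := (X.map f).comap f with hM
  have hXM : X ≤ M := Subgroup.le_comap_map f X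
  have hsyl : IsSyl p X M := by
    refine ⟨hXM, hX, fun hd => ?_⟩
    have h1 : f.ker.relIndex M = Nat.card ↥(X.map f) := by
      rw [hM, ← MonoidHom.comap_bot, Subgroup.relIndex_comap,
        Subgroup.map_comap_eq_self_of_surjective hf, Subgroup.relIndex_bot_left]
    have h2 := Subgroup.relIndex_mul_relIndex ⊥ X M bot_le hXM
    have h3 := Subgroup.relIndex_mul_relIndex ⊥ f.ker M bot_le (MonoidHom.ker_le_comap f _)
    rw [Subgroup.relIndex_bot_left, Subgroup.relIndex_bot_left] at h2 h3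
    rw [h1] at h3
    have hXf : Nat.card ↥(X.map f) ∣ Nat.card ↥X := Subgroup.card_map_dvd _ _
    obtain ⟨c, hc⟩ := hXf
    have h4 : Nat.card ↥(X.map f) * (c * X.relIndex M) = Nat.card ↥(X.map f) * Nat.card ↥f.ker := by
      rw [← mul_assoc, ← hc, h2, ← h3, mul_comm]
    have h5 : c * X.relIndex M = Nat.card ↥f.ker := Nat.eq_of_mul_eq_mul_left Nat.card_pos h4
    exact (Fact.out : p.Prime).not_dvd_one
      ((Nat.coprime_self p).mp (Nat.Coprime.coprime_dvd_left
        ((hd.trans (dvd_mul_left _ c)).trans h5.dvd) hker) ▸ dvd_refl p)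
  have hxM : cj x X ≤ M := by
    intro z hz
    rw [mem_cj] at hz
    rw [hM, Subgroup.mem_comap]
    have h1 := (Subgroup.mem_normalizer_iff.1 hy (f (x⁻¹ * z * x))).1 ⟨_, hz, rfl⟩
    simpa [mul_assoc] using h1
  obtain ⟨m, hm, hle⟩ := hsyl.exists_cj_le (isPGroup_cj hX) hxM
  rw [← cj_mul] at hle
  have hmx : m * x ∈ Subgroup.normalizer (X : Set H) :=
    cj_eq_self_iff.1 (Subgroup.eq_of_le_of_card_ge hle (card_cj _ _).ge)
  obtain ⟨w, hw, hwm⟩ := hm
  refine ⟨w⁻¹ * (m * x), mul_mem (inv_mem (Subgroup.le_normalizer hw)) hmx, ?_⟩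
  rw [map_mul, map_inv, map_mul, hwm, inv_mul_cancel_left]

end CfsgLib.ConjFunctor
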