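import Cfsg.Agent.Lib.ConjFunctor.NonConstrained
import Cfsg.Agent.Lib.ConjFunctor.FixLocal
import Cfsg.Agent.Lib.Fusion.FrobeniusCriterion
import Cfsg.Agent.Lib.Transfer.PResidual

/-!
# Normal p-complements from the normalizer of a functor value
-/

set_option autoImplicit false
set_option linter.style.haveILetI false

open scoped commutatorElement

namespace CfsgLib.ConjFunctor

universe u

/-- `X` modulo a normal p-subgroup `P` has an abelian normal p-complement `A / P`. -/
def Nice (p : ℕ) (X : Type u) [Group X] : Prop :=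
  ∃ P A : Subgroup X, P.Normal ∧ A.Normal ∧ IsPGroup p ↥P ∧
    (∀ a ∈ A, ∀ b ∈ A, ⁅a, b⁆ ∈ P) ∧ (∀ x : X, ∃ k : ℕ, x ^ p ^ k ∈ A) ∧
    ∀ a ∈ A, ∃ m : ℕ, m.Coprime p ∧ a ^ m ∈ P

variable {p : ℕ} [Fact p.Prime]

omit [Fact p.Prime] in
theorem Nice.subgroup {X : Type u} [Group X] (h : Nice p X) (L : Subgroup X) : Nice p ↥L := by
  obtain ⟨P, A, hP, hA, hPp, hab, hp, hm⟩ := h
  refine ⟨P.subgroupOf L, A.subgroupOf L, inferInstance, inferInstance,
    hPp.comap_of_injective _ L.subtype_injective, fun a ha b hb => ?_, fun x => ?_, fun a ha => ?_⟩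
  · exact hab _ ha _ hb
  · obtain ⟨k, hk⟩ := hp x
    exact ⟨k, by rw [Subgroup.mem_subgroupOf, SubmonoidClass.coe_pow]; exact hk⟩
  · obtain ⟨m, hm1, hm2⟩ := hm _ ha
    exact ⟨m, hm1, by rw [Subgroup.mem_subgroupOf, SubmonoidClass.coe_pow]; exact hm2⟩

omit [Fact p.Prime] in
theorem Nice.map {X Y : Type u} [Group X] [Group Y] (h : Nice p X) {f : X →* Y}
    (hf : Function.Surjective f) : Nice p Y := by
  obtain ⟨P, A, hP, hA, hPp, hab, hp, hm⟩ := h
  refine ⟨P.map f, A.map f, hP.map f hf, hA.map f hf, hPp.map f, ?_, fun y => ?_, ?_⟩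
  · rintro _ ⟨a, ha, rfl⟩ _ ⟨b, hb, rfl⟩
    rw [← map_commutatorElement]
    exact Subgroup.mem_map_of_mem f (hab a ha b hb)
  · obtain ⟨x, rfl⟩ := hf y
    obtain ⟨k, hk⟩ := hp x
    exact ⟨k, by rw [← map_pow]; exact Subgroup.mem_map_of_mem f hk⟩
  · rintro _ ⟨a, ha, rfl⟩
    obtain ⟨m, hm1, hm2⟩ := hm a ha
    exact ⟨m, hm1, by rw [← map_pow]; exact Subgroup.mem_map_of_mem f hm2⟩

variable {W : ∀ (Q : Type u) [Group Q], Subgroup Q} {G : Type u} [Group G]

/-- A minimal counterexample to the complement criterion: what the caller has to refute. -/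
def CriticalInput (p : ℕ) (W : ∀ (Q : Type u) [Group Q], Subgroup Q) (H : Type u) [Group H] :
    Prop :=
  Constrained p H → Nice p H →
    (∀ [(Cfsg.pCore p H).Normal], Cfsg.HasNormalPComplement p (H ⧸ Cfsg.pCore p H)) →
    ∀ S : Sylow p H, IsCoatom (S : Subgroup H) →
    (∀ L : Subgroup H, (S : Subgroup H) ≤ L → L ≠ ⊤ → L = (S : Subgroup H)) →
    ¬ (Cfsg.inducedFunctor (G := H) W (S : Subgroup H)).Normal →
    Cfsg.HasNormalPComplement p H

theorem pComplement_reduce (hW : Cfsg.IsCharPFunctor.{u} p W)
    (hin : ∀ (H : Type u) [Group H] [Finite H], IsSec G H → CriticalInput p W H)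
    (H : Type u) [Group H] [Finite H] (hsec : IsSec G H) (S : Sylow p H)
    (hN : Cfsg.HasNormalPComplement p ↥(Subgroup.normalizer
      ((Cfsg.inducedFunctor (G := H) W (S : Subgroup H) : Subgroup H) : Set H))) :
    Cfsg.HasNormalPComplement p H := by
  suffices main : ∀ (c : ℕ) (H : Type u) [Group H] [Finite H], Nat.card H ≤ c → IsSec G H →
      ∀ S : Sylow p H, Cfsg.HasNormalPComplement p ↥(Subgroup.normalizer
        ((Cfsg.inducedFunctor (G := H) W (S : Subgroup H) : Subgroup H) : Set H)) →
      Cfsg.HasNormalPComplement p H from main _ H le_rfl hsec S hN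
  intro c
  induction c with
  | zero => intro H _ _ hH; exact absurd hH (Nat.not_le.2 Nat.card_pos)
  | succ c ih =>
    intro H _ _ hc hsec S hN
    classical
    have hpp := (Fact.out : p.Prime)
    haveI hPn := CfsgLib.Solvable.pCore_normal p H
    set P := Cfsg.pCore p H with hP
    have hS := S.isPGroup'
    have hPS : P ≤ (S : Subgroup H) := CfsgLib.Solvable.pCore_le_sylow S
    have hW' := isConjugacyFunctor_inducedFunctor (H := H) hW
    by_cases hnorm : (Cfsg.inducedFunctor (G := H) W (S : Subgroup H)).Normal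
    · have h := hN
      rw [Subgroup.normalizer_eq_top] at h
      exact CfsgLib.NPC.hasNormalPComplement_of_equiv Subgroup.topEquiv h
    have hcardlt : ∀ L : Subgroup H, L ≠ ⊤ → Nat.card ↥L ≤ c := fun L hL => by
      have : Nat.card ↥L < Nat.card H :=
        (Subgroup.card_le_card_group L).lt_of_ne fun h => hL (Subgroup.eq_top_of_card_eq L h)
      omega
    -- proper subgroups: enough to look at their own normalizer
    have hsub : ∀ (L T : Subgroup H), L ≠ ⊤ → IsSyl p T L →
        Cfsg.HasNormalPComplement p ↥(L ⊓ Subgroup.normalizer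
          ((Cfsg.inducedFunctor (G := H) W T : Subgroup H) : Set H)) →
        Cfsg.HasNormalPComplement p ↥L := by
      intro L T hL hT hLN
      obtain ⟨T', hTT, hT'⟩ := exists_sylow_map hT
      refine ih ↥L (hcardlt L hL) (hsec.subgroup L) T' ?_
      set N' := Subgroup.normalizer
        ((Cfsg.inducedFunctor (G := ↥L) W (T' : Subgroup L) : Subgroup L) : Set L)
      have hle : N'.map L.subtype ≤ L ⊓ Subgroup.normalizer
          ((Cfsg.inducedFunctor (G := H) W T : Subgroup H) : Set H) := by
        refine le_inf (Subgroup.map_subtype_le _) ?_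
        refine (Subgroup.le_normalizer_map L.subtype).trans ?_
        rw [← inducedFunctor_subtype hW L _ T'.isPGroup', hTT]
      exact CfsgLib.NPC.hasNormalPComplement_of_equiv
        (N'.equivMapOfInjective L.subtype L.subtype_injective).symm
        (CfsgLib.NPC.hasNormalPComplement_of_le hle hLN)
    have hover : ∀ L : Subgroup H, (S : Subgroup H) ≤ L → L ≠ ⊤ →
        Cfsg.HasNormalPComplement p ↥L := fun L hSL hL =>
      hsub L S hL ⟨hSL, hS, fun hd => S.not_dvd_index
        (hd.trans (Subgroup.relIndex_dvd_index_of_le hSL))⟩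
        (CfsgLib.NPC.hasNormalPComplement_of_le inf_le_right hN)
    by_cases hQ : Cfsg.pPrimeCore p H = ⊥
    swap
    · set Q := Cfsg.pPrimeCore p H
      haveI := CfsgLib.Solvable.pPrimeCore_normal p H
      set f := QuotientGroup.mk' Q with hf
      have hsurj : Function.Surjective f := QuotientGroup.mk'_surjective Q
      have hQc : (Nat.card ↥Q).Coprime p := CfsgLib.Solvable.pPrimeCore_card_coprime p H
      have hker : (Nat.card ↥f.ker).Coprime p := by rw [hf, QuotientGroup.ker_mk']; exact hQc
      have hcard : Nat.card (H ⧸ Q) ≤ c := by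
        have h1 := Subgroup.card_eq_card_quotient_mul_card_subgroup Q
        have h2 : 1 < Nat.card ↥Q := (Subgroup.one_lt_card_iff_ne_bot Q).2 hQ
        have h3 : 0 < Nat.card (H ⧸ Q) := Nat.card_pos
        have : Nat.card (H ⧸ Q) < Nat.card H := by rw [h1]; exact lt_mul_of_one_lt_right h3 h2
        omega
      refine CfsgLib.Transfer.hasNormalPComplement_of_quotient Q
        (hpp.coprime_iff_not_dvd.1 hQc.symm) ?_
      refine ih (H ⧸ Q) hcard (hsec.of_surjective hsurj) (S.mapSurjective hsurj) ?_
      have hinj : Set.InjOn f ((S : Subgroup H) : Set H) := by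
        intro a ha b hb hab
        have hm : a⁻¹ * b ∈ Q := QuotientGroup.eq.1 hab
        have h0 : (S : Subgroup H) ⊓ Q = ⊥ := by
          obtain ⟨n, hn⟩ := hS.exists_card_eq
          refine Subgroup.inf_eq_bot_of_coprime ?_
          rw [hn]
          exact (hQc.symm).pow_left n
        have h5 : a⁻¹ * b ∈ (S : Subgroup H) ⊓ Q :=
          ⟨Subgroup.mul_mem _ (Subgroup.inv_mem _ ha) hb, hm⟩
        rw [h0, Subgroup.mem_bot, inv_mul_eq_one] at h5
        exact h5
      rw [Sylow.coe_mapSurjective, inducedFunctor_map hW f _ hS hinj,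
        ← map_normalizer_pPrime hsurj hker (hS.to_le (inducedFunctor_le _))]
      exact CfsgLib.NPC.hasNormalPComplement_of_surjective (f.subgroupMap _)
        (f.subgroupMap_surjective _) hN
    by_cases hP0 : P = ⊥
    · -- the local subgroups
      refine CfsgLib.NPC.frobenius_local fun U hU hUne => ?_
      obtain ⟨a, -, ha⟩ := (isSyl_top S).exists_cj_le hU le_top
      obtain ⟨b, hb, hfn⟩ := exists_fullyNorm_cj S ha
      suffices hfull : ∀ (k : ℕ) (V : Subgroup H),
          Nat.card H - Nat.card ↥((S : Subgroup H) ⊓ Subgroup.normalizer (V : Set H)) ≤ k →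
          FullyNorm p (S : Subgroup H) V → V ≠ ⊥ →
          Cfsg.HasNormalPComplement p ↥(Subgroup.normalizer (V : Set H)) by
        have h1 := hfull _ (cj b (cj a U)) le_rfl hfn
          (fun h => hUne (cj_eq_bot_iff.1 (cj_eq_bot_iff.1 h)))
        rw [← cj_normalizer, ← cj_normalizer, ← cj_mul] at h1
        exact CfsgLib.NPC.hasNormalPComplement_of_equiv
          ((Subgroup.normalizer (U : Set H)).equivMapOfInjective _
            (MulAut.conj (b * a)).injective).symm h1
      intro k
      induction k using Nat.strong_induction_on with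
      | _ k ihk =>
        intro V hk hVfn hVne
        have hlt : Subgroup.normalizer (V : Set H) ≠ ⊤ := by
          intro h
          haveI := Subgroup.normalizer_eq_top_iff.1 h
          exact hVne (le_bot_iff.1 (hP0 ▸
            CfsgLib.Solvable.le_pCore inferInstance (hS.to_le hVfn.1)))
        set R := (S : Subgroup H) ⊓ Subgroup.normalizer (V : Set H) with hR
        refine hsub _ R hlt hVfn.2 ?_
        rcases eq_or_lt_of_le (inf_le_left : R ≤ (S : Subgroup H)) with heq | hltR
        · exact CfsgLib.NPC.hasNormalPComplement_of_le inf_le_right (by rw [hR, heq]; exact hN)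
        have hlt' := inf_normalizer_lt_functor hW' hS hltR
        set R1 := (S : Subgroup H) ⊓ Subgroup.normalizer
          ((Cfsg.inducedFunctor (G := H) W R : Subgroup H) : Set H) with hR1
        have hRne : R ≠ ⊥ := fun h => hVne (le_bot_iff.1 (hVfn.self_le.trans h.le))
        obtain ⟨d, hd, hdfn⟩ := exists_fullyNorm_cj S
          (D := Cfsg.inducedFunctor (G := H) W R)
          ((inducedFunctor_le _).trans inf_le_left)
        have hcard : Nat.card ↥R < Nat.card ↥R1 :=
          (Subgroup.card_le_of_le hlt'.le).lt_of_ne fun h =>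
            hlt'.ne (Subgroup.eq_of_le_of_card_ge hlt'.le h.ge)
        have hdR1 : cj d R1 ≤ (S : Subgroup H) ⊓ Subgroup.normalizer
            ((cj d (Cfsg.inducedFunctor (G := H) W R) : Subgroup H) : Set H) := by
          rw [← cj_normalizer]; exact le_inf hd (cj_mono inf_le_right)
        have hcard' : Nat.card ↥R < Nat.card ↥((S : Subgroup H) ⊓ Subgroup.normalizer
            ((cj d (Cfsg.inducedFunctor (G := H) W R) : Subgroup H) : Set H)) :=
          lt_of_lt_of_le (by rwa [card_cj]) (Subgroup.card_le_of_le hdR1)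
        have hG := Subgroup.card_le_card_group ((S : Subgroup H) ⊓ Subgroup.normalizer
            ((cj d (Cfsg.inducedFunctor (G := H) W R) : Subgroup H) : Set H))
        have h1 := ihk _ (by omega) _ le_rfl hdfn fun h =>
          inducedFunctor_ne_bot hW (hS.to_le inf_le_left) hRne (cj_eq_bot_iff.1 h)
        rw [← cj_normalizer] at h1
        exact CfsgLib.NPC.hasNormalPComplement_of_le inf_le_right
          (CfsgLib.NPC.hasNormalPComplement_of_equiv
            ((Subgroup.normalizer ((Cfsg.inducedFunctor (G := H) W R : Subgroup H) : Set H))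
              |>.equivMapOfInjective _ (MulAut.conj d).injective).symm h1)
    -- modulo `O_p`
    have hSP : (S : Subgroup H) ≠ P := by
      intro h
      refine hnorm ?_
      exact normal_inducedFunctor_of_normal hW hS (h ▸ hPn)
    set f := QuotientGroup.mk' P with hf
    have hsurj : Function.Surjective f := QuotientGroup.mk'_surjective P
    have hcomap : ((S : Subgroup H).map f).comap f = (S : Subgroup H) := by
      rw [Subgroup.comap_map_eq, hf, QuotientGroup.ker_mk', sup_eq_left.2 hPS]
    have hquot : Cfsg.HasNormalPComplement p (H ⧸ P) := by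
      have hcard : Nat.card (H ⧸ P) ≤ c := by
        have h1 := Subgroup.card_eq_card_quotient_mul_card_subgroup P
        have h2 : 1 < Nat.card ↥P := (Subgroup.one_lt_card_iff_ne_bot P).2 hP0
        have h3 : 0 < Nat.card (H ⧸ P) := Nat.card_pos
        have : Nat.card (H ⧸ P) < Nat.card H := by rw [h1]; exact lt_mul_of_one_lt_right h3 h2
        omega
      refine ih (H ⧸ P) hcard (hsec.of_surjective hsurj) (S.mapSurjective hsurj) ?_
      rw [Sylow.coe_mapSurjective]
      have hWp := hS.map f
      set Nb := Subgroup.normalizer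
        ((Cfsg.inducedFunctor W ((S : Subgroup H).map f) : Subgroup (H ⧸ P)) : Set (H ⧸ P))
      have hlt : Nb.comap f ≠ ⊤ := by
        intro h
        refine hSP ?_
        have htop : Nb = ⊤ := by
          rw [← Subgroup.map_comap_eq_self_of_surjective hsurj Nb, h,
            Subgroup.map_top_of_surjective f hsurj]
        haveI := Subgroup.normalizer_eq_top_iff.1 htop
        have h3 : Cfsg.inducedFunctor W ((S : Subgroup H).map f) ≤ ⊥ :=
          (CfsgLib.Solvable.le_pCore inferInstance
            (hWp.to_le (inducedFunctor_le _))).trans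
            (CfsgLib.Solvable.pCore_quotient_eq_bot P hP).le
        have h4 : (S : Subgroup H).map f = ⊥ := by
          by_contra h4
          exact inducedFunctor_ne_bot hW hWp h4 (le_bot_iff.1 h3)
        rw [Subgroup.map_eq_bot_iff, hf, QuotientGroup.ker_mk'] at h4
        exact le_antisymm h4 hPS
      have hSL : (S : Subgroup H) ≤ Nb.comap f := Subgroup.map_le_iff_le_comap.1
        ((normalizer_le_functor (isConjugacyFunctor_inducedFunctor hW) hWp).trans'
          Subgroup.le_normalizer)
      exact CfsgLib.NPC.hasNormalPComplement_of_surjective (f.subgroupComap Nb)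
        (fun y => by
          obtain ⟨x, hx⟩ := hsurj y
          exact ⟨⟨x, show f x ∈ Nb by rw [hx]; exact y.2⟩, Subtype.ext hx⟩)
        (hover _ hSL hlt)
    obtain ⟨Kb, hKb⟩ := CfsgLib.NPC.hasNormalPComplement_iff.1 hquot
    haveI := hKb.1
    set K := Kb.comap f with hK
    haveI : K.Normal := by rw [hK]; infer_instance
    obtain ⟨kk, hkk⟩ := hKb.2.2
    have hxK : ∀ x : H, x ^ p ^ kk ∈ K := fun x => by
      rw [hK, Subgroup.mem_comap, map_pow, ← hkk]
      exact Kb.pow_index_mem (f x)
    have hKm : ∀ x ∈ K, x ^ Nat.card ↥Kb ∈ P := fun x hx => by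
      refine (QuotientGroup.eq_one_iff _).1 ?_
      show f (x ^ Nat.card ↥Kb) = 1
      rw [map_pow]
      have h6 : (⟨f x, hx⟩ : ↥Kb) ^ Nat.card ↥Kb = 1 := pow_card_eq_one'
      exact (SubmonoidClass.coe_pow (⟨f x, hx⟩ : ↥Kb) _).symm.trans (congrArg Subtype.val h6)
    have hPK : P ≤ K := fun x hx => by
      rw [hK, Subgroup.mem_comap, show f x = 1 from (QuotientGroup.eq_one_iff x).2 hx]
      exact one_mem _
    have hpK : ∀ x ∈ (S : Subgroup H), x ∈ K → x ∈ P := by
      intro x hx hxK
      obtain ⟨j, hj⟩ := hS ⟨x, hx⟩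
      refine (QuotientGroup.eq_one_iff x).1 (orderOf_eq_one_iff.1
        (Nat.eq_one_of_dvd_coprimes (hKb.2.1.pow_right j) (Subgroup.orderOf_dvd_natCard Kb hxK)
          (orderOf_dvd_of_pow_eq_one ?_)))
      show f x ^ p ^ j = 1
      rw [← map_pow, show x ^ p ^ j = 1 by simpa using congrArg Subtype.val hj, map_one]
    -- constrained
    set C := Subgroup.centralizer (P : Set H) with hC
    haveI : C.Normal := by rw [hC]; infer_instance
    have hcon : Constrained p H := by
      have hCK : C ⊓ K ≤ P := le_pCore_of_inf_le S (C ⊓ K) inf_le_left hQ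
        (fun x hx => hpK x hx.1 hx.2.2)
      refine CfsgLib.Solvable.le_pCore (inferInstance : C.Normal) fun x => ?_
      obtain ⟨j, hj⟩ := CfsgLib.Solvable.pCore_isPGroup p H
        ⟨(x : H) ^ p ^ kk, hCK ⟨pow_mem x.2 _, hxK x⟩⟩
      refine ⟨kk + j, Subtype.ext ?_⟩
      rw [SubmonoidClass.coe_pow, pow_add, pow_mul]
      simpa using congrArg Subtype.val hj
    -- the Sylow subgroup is maximal
    have hmax : ∀ L : Subgroup H, (S : Subgroup H) ≤ L → L ≠ ⊤ → L = (S : Subgroup H) := by
      intro L hSL hL
      obtain ⟨M, hM⟩ := CfsgLib.NPC.hasNormalPComplement_iff.1 (hover L hSL hL)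
      haveI := hM.1
      have hMbot : M = ⊥ := by
        refine (Subgroup.eq_bot_iff_forall M).2 fun y hy => ?_
        have hyC : (y : H) ∈ C := by
          refine Subgroup.mem_centralizer_iff.2 fun z hz => ?_
          have hzL : z ∈ L := hSL (hPS hz)
          have hdis : Disjoint M (P.subgroupOf L) := by
            rw [Subgroup.disjoint_def]
            intro w hw hwP
            obtain ⟨j, hj⟩ := CfsgLib.Solvable.pCore_isPGroup p H ⟨(w : H), hwP⟩
            refine orderOf_eq_one_iff.1 (Nat.eq_one_of_dvd_coprimes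
              ((hM.2.1.coprime_dvd_left (Subgroup.orderOf_dvd_natCard M hw)).pow_right j) dvd_rfl
              (orderOf_dvd_of_pow_eq_one (Subtype.ext (by simpa using congrArg Subtype.val hj))))
          exact (congrArg Subtype.val (Subgroup.commute_of_normal_of_disjoint M (P.subgroupOf L)
            hM.1 inferInstance hdis y ⟨z, hzL⟩ hy hz).eq).symm
        have hyP : (y : H) ∈ P := hcon hyC
        obtain ⟨j, hj⟩ := CfsgLib.Solvable.pCore_isPGroup p H ⟨(y : H), hyP⟩
        exact orderOf_eq_one_iff.1 (Nat.eq_one_of_dvd_coprimes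
          ((hM.2.1.coprime_dvd_left (Subgroup.orderOf_dvd_natCard M hy)).pow_right j) dvd_rfl
          (orderOf_dvd_of_pow_eq_one (Subtype.ext (by simpa using congrArg Subtype.val hj))))
      obtain ⟨j, hj⟩ := hM.2.2
      rw [hMbot, Subgroup.index_bot] at hj
      exact (S.is_maximal' (IsPGroup.of_card hj) hSL)
    have hStop : (S : Subgroup H) ≠ ⊤ := by
      intro h
      refine hnorm ?_
      exact normal_inducedFunctor_of_normal hW hS (h ▸ inferInstance)
    have hcoatom : IsCoatom (S : Subgroup H) :=
      ⟨hStop, fun L hL => by_contra fun hne => hL.ne (hmax L hL.le hne).symm⟩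
    -- `K / P` is abelian
    have hsmall : ∀ B : Subgroup (H ⧸ P), B ≤ Kb →
        ((S : Subgroup H).map f) ≤ Subgroup.normalizer (B : Set (H ⧸ P)) → B ≠ ⊥ → B = Kb := by
      intro B hB hBn hBne
      set L := (B ⊔ (S : Subgroup H).map f).comap f with hL
      have hSL : (S : Subgroup H) ≤ L := Subgroup.map_le_iff_le_comap.1 le_sup_right
      have hsepa : ∀ z ∈ Kb, z ∈ (S : Subgroup H).map f → z = 1 := by
        rintro _ hz ⟨x, hx, rfl⟩
        exact (QuotientGroup.eq_one_iff x).2 (hpK x hx hz)
      by_cases htop : L = ⊤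
      · refine le_antisymm hB fun z hz => ?_
        have hz' : z ∈ B ⊔ (S : Subgroup H).map f := by
          rw [← Subgroup.map_comap_eq_self_of_surjective hsurj (B ⊔ _), ← hL, htop,
            Subgroup.map_top_of_surjective f hsurj]; trivial
        rw [← SetLike.mem_coe, Subgroup.coe_mul_of_right_le_normalizer_left B _ hBn] at hz'
        obtain ⟨b, hb, s, hs, rfl⟩ := hz'
        have hsK : s ∈ Kb := by simpa using mul_mem (inv_mem (hB hb)) hz
        show b * s ∈ B
        rw [hsepa s hsK hs, mul_one]; exact hb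
      · exfalso
        refine hBne ((Subgroup.eq_bot_iff_forall B).2 fun z hz => hsepa z (hB hz) ?_)
        obtain ⟨x, rfl⟩ := hsurj z
        refine ⟨x, ?_, rfl⟩
        rw [← hmax L hSL htop]
        exact Subgroup.mem_sup_left hz
    have hKab : ∀ a ∈ Kb, ∀ b ∈ Kb, Commute a b := by
      rcases eq_or_ne Kb ⊥ with h0 | h0
      · intro a ha b _
        rw [h0, Subgroup.mem_bot] at ha
        subst ha
        exact Commute.one_left b
      obtain ⟨q, hq, hqd⟩ : ∃ q : ℕ, q.Prime ∧ q ∣ Nat.card ↥Kb :=
        Nat.exists_prime_and_dvd fun h => h0 (Subgroup.card_eq_one.1 h)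
      haveI := Fact.mk hq
      obtain ⟨Q⟩ : Nonempty (Sylow q (H ⧸ P)) := inferInstance
      set B := (Q : Subgroup (H ⧸ P)) ⊓ Kb with hB
      obtain ⟨a, ha⟩ : ∃ a : H ⧸ P, cj a ((S : Subgroup H).map f) ≤
          Subgroup.normalizer (B : Set (H ⧸ P)) := by
        obtain ⟨T, hT, -⟩ := exists_isSyl_ge (p := p) (IsPGroup.of_bot (p := p) (G := H ⧸ P))
          (bot_le (a := Subgroup.normalizer (B : Set (H ⧸ P))))
        have hsupN : ∀ g : H ⧸ P, ∃ k ∈ Kb, k * g ∈ Subgroup.normalizer (B : Set (H ⧸ P)) :=
          frattini_argument Q Kb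
        have hidx : ¬ p ∣ (Subgroup.normalizer (B : Set (H ⧸ P))).index := by
          intro hd
          have h1 : (Subgroup.normalizer (B : Set (H ⧸ P))).index ∣ Nat.card ↥Kb := by
            have hsup : Kb ⊔ Subgroup.normalizer (B : Set (H ⧸ P)) = ⊤ := by
              refine eq_top_iff.2 fun g _ => ?_
              obtain ⟨k, hk, hkg⟩ := hsupN g
              rw [← inv_mul_cancel_left k g]
              exact mul_mem (Subgroup.mem_sup_left (inv_mem hk)) (Subgroup.mem_sup_right hkg)
            exact index_dvd_card_of_sup _ Kb hsup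
          exact hpp.coprime_iff_not_dvd.1 hKb.2.1.symm (hd.trans h1)
        have hTtop : IsSyl p T ⊤ := by
          refine ⟨le_top, hT.isPGroup, fun hd => ?_⟩
          rw [← Subgroup.relIndex_mul_relIndex T _ ⊤ hT.le le_top, Subgroup.relIndex_top_right] at hd
          exact (hpp.dvd_mul.1 hd).elim hT.not_dvd hidx
        obtain ⟨g, -, hg⟩ := hTtop.exists_cj_le (hS.map f) le_top
        exact ⟨g, hg.trans hT.le⟩
      have hB' : cj a⁻¹ B = Kb := by
        refine hsmall _ ((cj_mono inf_le_right).trans (cj_eq_self_of_normal _ Kb).le) ?_ ?_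
        · rw [← cj_normalizer]
          exact cj_le_iff.1 ha
        · intro h
          have hB0 := cj_eq_bot_iff.1 h
          have h1 := (isSyl_inf_normal Q Kb).not_dvd
          rw [← hB, hB0, Subgroup.relIndex_bot_left] at h1
          exact h1 hqd
      have hqgrp : IsPGroup q ↥Kb := hB' ▸ isPGroup_cj (Q.isPGroup'.to_le inf_le_left)
      haveI : Group.IsNilpotent ↥Kb := hqgrp.isNilpotent
      haveI : Nontrivial ↥Kb := (Subgroup.nontrivial_iff_ne_bot _).2 h0
      have hlt : ⁅Kb, Kb⁆ ≠ Kb := by
        intro he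
        haveI : Group.IsSolvable ↥Kb := inferInstance
        refine (Group.IsSolvable.commutator_lt_top_of_nontrivial (G := ↥Kb)).ne
          (Subgroup.map_injective Kb.subtype_injective ?_)
        rw [commutator_def, Subgroup.map_commutator, ← MonoidHom.range_eq_map, Subgroup.range_subtype]
        exact he
      have hD : ⁅Kb, Kb⁆ = ⊥ := by
        by_contra hne
        exact hlt (hsmall _ (Subgroup.commutator_le_self Kb)
          (fun x _ => by rw [Subgroup.normalizer_eq_top]; trivial) hne)
      intro x hx y hy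
      rw [← le_bot_iff] at hD
      exact commutatorElement_eq_one_iff_mul_comm.1
        (Subgroup.mem_bot.1 (hD (Subgroup.commutator_mem_commutator hx hy)))
    have hnice : Nice p H := by
      refine ⟨P, K, hPn, inferInstance, CfsgLib.Solvable.pCore_isPGroup p H, fun a ha b hb => ?_,
        fun x => ⟨kk, hxK x⟩, fun a ha => ⟨Nat.card ↥Kb, hKb.2.1, hKm a ha⟩⟩
      refine (QuotientGroup.eq_one_iff _).1 ?_
      show f ⁅a, b⁆ = 1
      rw [map_commutatorElement, commutatorElement_eq_one_iff_mul_comm]
      exact hKab _ ha _ hb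
    exact hin H hsec hcon hnice hquot S hcoatom hmax hnorm
where
  index_dvd_card_of_sup {X : Type u} [Group X] [Finite X] (N K : Subgroup X) [K.Normal]
      (h : K ⊔ N = ⊤) : N.index ∣ Nat.card ↥K := by
    have h1 : Nat.card X * Nat.card ↥(K ⊓ N : Subgroup X) = Nat.card ↥K * Nat.card ↥N := by
      have h2 := Subgroup.relIndex_sup_right (H := N) (K := K)
      rw [sup_comm, h, Subgroup.relIndex_top_right] at h2
      have h3 := Subgroup.card_mul_index K
      have h4 := Subgroup.relIndex_mul_relIndex ⊥ (K ⊓ N) N bot_le inf_le_right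
      rw [Subgroup.relIndex_bot_left, Subgroup.relIndex_bot_left, Subgroup.inf_relIndex_right] at h4
      rw [← h3, h2, ← h4]; ring
    refine ⟨Nat.card ↥(K ⊓ N : Subgroup X), ?_⟩
    have h5 := Subgroup.card_mul_index N
    have : Nat.card ↥N * (N.index * Nat.card ↥(K ⊓ N : Subgroup X)) = Nat.card ↥N * Nat.card ↥K := by
      rw [← mul_assoc, h5, h1, mul_comm]
    exact (Nat.eq_of_mul_eq_mul_left Nat.card_pos this).symm

end CfsgLib.ConjFunctor
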