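import Cfsg.Agent.Lib.Qd.Basic
import Cfsg.Agent.Lib.PLocal.QdLift
import Cfsg.Agent.Lib.ConjFunctor.WeakClosure
import Cfsg.Agent.Lib.LocalEven.Involves

/-!
# The Sylow subgroup of `Qd(p)`; liftings of `SL(2, p)` into normalizers
-/

set_option autoImplicit false
set_option linter.style.haveILetI false

open scoped commutatorElement MatrixGroups

namespace CfsgLib.ConjFunctor

open CfsgLib.Qd

variable {p : ℕ}

/-- The upper unitriangular subgroup of `Qd(p)`. -/
def qdUpper (p : ℕ) : Subgroup ↥(Cfsg.qd p) where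
  carrier := {g | ∃ b x y h, g = mk 1 b 0 1 x y h}
  mul_mem' := by
    rintro _ _ ⟨b, x, y, h, rfl⟩ ⟨b', x', y', h', rfl⟩
    refine ⟨b + b', x' + b * y' + x, y' + y, by simp, ?_⟩
    rw [mk_mul]
    exact mk_eq (by ring) (by ring) (by ring) (by ring) (by ring) (by ring)
  one_mem' := ⟨0, 0, 0, by simp, mk_one.symm⟩
  inv_mem' := by
    rintro _ ⟨b, x, y, h, rfl⟩
    refine ⟨-b, -x + b * y, -y, by simp, inv_eq_of_mul_eq_one_right ?_⟩
    rw [mk_mul, ← mk_one]
    exact mk_eq (by ring) (by ring) (by ring) (by ring) (by ring) (by ring)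

theorem tra_mem_qdUpper (x y : ZMod p) : tra x y ∈ qdUpper p := ⟨0, x, y, by simp, rfl⟩

theorem up_mem_qdUpper (s : ZMod p) : up s ∈ qdUpper p := ⟨s, 0, 0, by simp, rfl⟩

theorem qdUpper_commutator_le :
    ⁅qdUpper p, qdUpper p⁆ ≤ Subgroup.centralizer (qdUpper p : Set ↥(Cfsg.qd p)) := by
  rw [Subgroup.commutator_le]
  rintro _ ⟨b, x, y, h, rfl⟩ _ ⟨b', x', y', h', rfl⟩
  have e : mk 1 b 0 1 x y h * mk 1 b' 0 1 x' y' h' =
      tra (b * y' - b' * y) 0 * (mk 1 b' 0 1 x' y' h' * mk 1 b 0 1 x y h) := by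
    simp only [tra, mk_mul]
    exact mk_eq (by ring) (by ring) (by ring) (by ring) (by ring) (by ring)
  have e2 : ⁅mk 1 b 0 1 x y h, mk 1 b' 0 1 x' y' h'⁆ = tra (b * y' - b' * y) 0 := by
    rw [commutatorElement_def, e]; group
  rw [e2, Subgroup.mem_centralizer_iff]
  rintro _ ⟨c, u, v, h'', rfl⟩
  simp only [tra, mk_mul]
  exact mk_eq (by ring) (by ring) (by ring) (by ring) (by ring) (by ring)

variable [Fact p.Prime]

theorem isPGroup_qdUpper : IsPGroup p ↥(qdUpper p) := by
  rintro ⟨g, b, x, y, h, rfl⟩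
  refine ⟨2, Subtype.ext ?_⟩
  have key : ∀ n : ℕ, ∃ u, (mk 1 b 0 1 x y h) ^ n = mk 1 ((n : ZMod p) * b) 0 1 u
      ((n : ZMod p) * y) (by simp) := by
    intro n
    induction n with
    | zero =>
      refine ⟨0, ?_⟩
      rw [pow_zero, ← mk_one]
      exact mk_eq rfl (by simp) rfl rfl rfl (by simp)
    | succ n ih =>
      obtain ⟨u, hu⟩ := ih
      refine ⟨x + (n : ZMod p) * b * y + u, ?_⟩
      rw [pow_succ, hu, mk_mul]
      exact mk_eq (by ring) (by push_cast; ring) (by ring) (by ring) (by ring) (by push_cast; ring)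
  show (mk 1 b 0 1 x y h) ^ p ^ 2 = 1
  obtain ⟨u, hu⟩ := key p
  rw [pow_two, pow_mul, hu, show mk 1 ((p : ZMod p) * b) 0 1 u ((p : ZMod p) * y) (by simp) = tra u 0
    from mk_eq rfl (by simp) rfl rfl rfl (by simp), translations_pow (tra_mem u 0)]

/-- An element normalizing the upper unitriangular subgroup has triangular linear part. -/
theorem eq_zero_of_mem_normalizer_qdUpper {a b c d x y : ZMod p} {h}
    (hg : mk a b c d x y h ∈ Subgroup.normalizer (qdUpper p : Set ↥(Cfsg.qd p))) : c = 0 := by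
  set g := mk a b c d x y h
  have h1 : g * tra 1 0 * g⁻¹ = tra a c := by rw [conj_tra]; congr 1 <;> ring
  -- `tra 1 0` is central in the upper subgroup, hence so is its conjugate
  have hc : Commute (up (1 : ZMod p)) (tra a c) := by
    have hu : g⁻¹ * up 1 * g ∈ qdUpper p := by
      have := (Subgroup.mem_normalizer_iff.1 (inv_mem hg) (up 1)).1 (up_mem_qdUpper 1)
      simpa using this
    obtain ⟨b', x', y', h', he⟩ := hu
    have hcomm : Commute (g⁻¹ * up 1 * g) (tra 1 0) := by
      rw [he]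
      show _ * _ = _ * _
      simp only [tra, mk_mul]
      exact mk_eq (by ring) (by ring) (by ring) (by ring) (by ring) (by ring)
    have h2 := hcomm.map (MulAut.conj g).toMonoidHom
    simp only [MulEquiv.coe_toMonoidHom, MulAut.conj_apply, h1] at h2
    simpa [mul_assoc] using h2
  have h3 : tra (a + 1 * c) c = tra a c := by
    rw [← up_conj_tra, hc.eq, mul_inv_cancel_right]
  simp only [tra, mk_inj] at h3
  simpa using h3.2.2.2.2.1

/-- The upper unitriangular subgroup is a Sylow subgroup. -/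
theorem qdUpper_isSylow : ∃ T : Sylow p ↥(Cfsg.qd p), (T : Subgroup ↥(Cfsg.qd p)) = qdUpper p := by
  haveI : NeZero p := ⟨(Fact.out : p.Prime).ne_zero⟩
  obtain ⟨T, hT⟩ := (isPGroup_qdUpper (p := p)).exists_le_sylow
  refine ⟨T, le_antisymm ?_ hT⟩
  by_contra hne
  have hlt := lt_inf_normalizer T.isPGroup' (lt_of_le_of_ne hT fun h => hne h.ge)
  obtain ⟨g, ⟨hgT, hgN⟩, hgU⟩ := SetLike.exists_of_lt hlt
  obtain ⟨a, b, c, d, x, y, h, rfl⟩ := exists_eq_mk g
  obtain rfl := eq_zero_of_mem_normalizer_qdUpper hgN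
  have key : ∀ n : ℕ, ∃ b' x' y' h', (mk a b 0 d x y h) ^ n = mk (a ^ n) b' 0 (d ^ n) x' y' h' := by
    intro n
    induction n with
    | zero =>
      refine ⟨0, 0, 0, by simp, ?_⟩
      rw [pow_zero, ← mk_one]
      exact mk_eq (by simp) rfl rfl (by simp) rfl rfl
    | succ n ih =>
      obtain ⟨b', x', y', h', hn⟩ := ih
      refine ⟨a ^ n * b + b' * d, a ^ n * x + b' * y + x', d ^ n * y + y',
        by linear_combination (a ^ n * d ^ n) * h + h', ?_⟩
      rw [pow_succ, hn, mk_mul]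
      exact mk_eq (by ring) (by ring) (by ring) (by ring) (by ring) (by ring)
  obtain ⟨k, hk⟩ := T.isPGroup' ⟨_, hgT⟩
  obtain ⟨b', x', y', h', hn⟩ := key (p ^ k)
  have hk' : (mk a b 0 d x y h) ^ p ^ k = 1 := by simpa using congrArg Subtype.val hk
  rw [hn, ← mk_one, mk_inj] at hk'
  have hpow : ∀ z : ZMod p, z ^ p ^ k = z := by
    intro z
    induction k with
    | zero => simp
    | succ n ihn => rw [pow_succ, pow_mul, ZMod.pow_card]; exact pow_pow_card z n
  rw [hpow, hpow] at hk'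
  exact hgU ⟨b, x, y, by simp, mk_eq hk'.1 rfl rfl hk'.2.2.2.1 rfl rfl⟩
where
  pow_pow_card (z : ZMod p) : ∀ n : ℕ, z ^ p ^ n = z
    | 0 => by simp
    | n + 1 => by rw [pow_succ, pow_mul, pow_pow_card z n, ZMod.pow_card]

/-- `SL(2,p)` is involved in the normalizer of a nontrivial `p`-subgroup if `Qd(p)` is a section. -/
theorem involves_sl2_of_hasQdSection {G : Type*} [Group G] [Finite G]
    (h : CfsgLib.PLoc.HasQdSection p G) :
    ∃ P : Subgroup G, IsPGroup p ↥P ∧ P ≠ ⊥ ∧
      Cfsg.Involves (Matrix.SpecialLinearGroup (Fin 2) (ZMod p))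
        ↥(Subgroup.normalizer (P : Set G)) := by
  haveI : NeZero p := ⟨(Fact.out : p.Prime).ne_zero⟩
  haveI := translations_normal (p := p)
  obtain ⟨K, f, hf⟩ := CfsgLib.LocalEven.exists_surjective_of_involves
    (show Cfsg.Involves ↥(Cfsg.qd p) G from h)
  set π := QuotientGroup.mk' (translations p)
  have hbij : Function.Bijective (π.comp (CfsgLib.PLoc.qdLinear p)) := by
    constructor
    · refine (injective_iff_map_eq_one _).2 fun A hA => ?_
      obtain ⟨u, v, he⟩ := (QuotientGroup.eq_one_iff _).1 (show π (CfsgLib.PLoc.qdLinear p A) = 1 from hA)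
      have hdet : (A : Matrix (Fin 2) (Fin 2) (ZMod p)) 0 0 * (A : Matrix (Fin 2) (Fin 2) (ZMod p)) 1 1
          - (A : Matrix (Fin 2) (Fin 2) (ZMod p)) 0 1 * (A : Matrix (Fin 2) (Fin 2) (ZMod p)) 1 0
          = 1 := by rw [← Matrix.det_fin_two]; exact A.2
      obtain ⟨h00, h01, h10, h11, -, -⟩ := (mk_inj (h := hdet)).1 he
      refine Matrix.SpecialLinearGroup.ext A 1 fun i j => ?_
      fin_cases i <;> fin_cases j <;> simp [h00, h01, h10, h11]
    · intro z
      obtain ⟨g, rfl⟩ := QuotientGroup.mk'_surjective _ z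
      obtain ⟨a, b, c, d, x, y, hh, rfl⟩ := exists_eq_mk g
      let A : Matrix.SpecialLinearGroup (Fin 2) (ZMod p) :=
        ⟨!![a, b; c, d], by rw [Matrix.det_fin_two_of]; exact hh⟩
      refine ⟨A, QuotientGroup.eq.2 ⟨d * x - b * y, a * y - c * x, ?_⟩⟩
      rw [inv_mul_eq_iff_eq_mul]
      show mk a b c d x y hh = mk a b c d 0 0 hh * tra _ _
      simp only [tra, mk_mul]
      exact mk_eq (by ring) (by ring) (by ring) (by ring)
        (by linear_combination (-x) * hh) (by linear_combination (-y) * hh)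
  let e := MulEquiv.ofBijective _ hbij
  set q : ↥K →* ↥(Cfsg.qd p) ⧸ translations p := π.comp f with hq
  have hqs : Function.Surjective q := (QuotientGroup.mk'_surjective _).comp hf
  set M := q.ker with hM
  obtain ⟨S⟩ : Nonempty (Sylow p ↥K) := inferInstance
  set N0 := Subgroup.normalizer (((S : Subgroup ↥K) ⊓ M : Subgroup ↥K) : Set ↥K) with hN0
  have hN0s : ∀ z, ∃ n ∈ N0, q n = z := by
    intro z
    obtain ⟨k, rfl⟩ := hqs z
    obtain ⟨c, hc, hck⟩ := frattini_argument S M k
    exact ⟨c * k, hck, by rw [map_mul, MonoidHom.mem_ker.1 hc, one_mul]⟩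
  refine ⟨((S : Subgroup ↥K) ⊓ M).map K.subtype, (S.isPGroup'.to_le inf_le_left).map _, ?_, ?_⟩
  · rw [Ne, Subgroup.map_eq_bot_iff_of_injective _ K.subtype_injective]
    intro hbot
    have h1 := (isSyl_inf_normal S M).not_dvd
    rw [hbot, Subgroup.relIndex_bot_left] at h1
    refine h1 (dvd_trans ?_ (Subgroup.card_map_dvd M f))
    have h2 : M.map f = translations p := by
      rw [hM, hq, ← MonoidHom.comap_ker, QuotientGroup.ker_mk',
        Subgroup.map_comap_eq_self_of_surjective hf]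
    rw [h2, card_translations]
    exact dvd_mul_left p p
  · set N := Subgroup.normalizer ((((S : Subgroup ↥K) ⊓ M).map K.subtype : Subgroup G) : Set G)
    refine CfsgLib.LocalEven.involves_of_surjective
      (((N0.map K.subtype)).subgroupOf N) ((e.symm.toMonoidHom.comp (q.comp N0.subtype)).comp
        ((N0.equivMapOfInjective K.subtype K.subtype_injective).symm.toMonoidHom.comp
          (Subgroup.subgroupOfEquivOfLe (Subgroup.le_normalizer_map K.subtype)).toMonoidHom)) ?_
    have hs : Function.Surjective (q.comp N0.subtype) := fun z => by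
      obtain ⟨n, hn, he⟩ := hN0s z; exact ⟨⟨n, hn⟩, he⟩
    simp only [MonoidHom.coe_comp, MulEquiv.coe_toMonoidHom]
    exact (e.symm.surjective.comp hs).comp
      (Function.Surjective.comp (MulEquiv.surjective _) (MulEquiv.surjective _))

end CfsgLib.ConjFunctor
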