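import Cfsg.Agent.Lib.ConjFunctor.Alperin

/-!
# Chains of conjugations
-/

set_option autoImplicit false

namespace CfsgLib.ConjFunctor

variable {G : Type*} [Group G]

/-- `Reach S ok D g`: the conjugation by `g` of `D ≤ S` into `S` is a composite of elementary moves `ok`,
all intermediate images lying in `S`. -/
inductive Reach (S : Subgroup G) (ok : Subgroup G → G → Prop) : Subgroup G → G → Prop
  | refl {D : Subgroup G} : D ≤ S → Reach S ok D 1
  | step {D : Subgroup G} {x g : G} :
      ok D x → D ≤ S → Reach S ok (cj x D) g → Reach S ok D (g * x)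

theorem Reach.le {S : Subgroup G} {ok : Subgroup G → G → Prop} {D : Subgroup G} {g : G}
    (h : Reach S ok D g) : D ≤ S := by
  cases h <;> assumption

theorem Reach.image_le {S : Subgroup G} {ok : Subgroup G → G → Prop} {D : Subgroup G} {g : G}
    (h : Reach S ok D g) : cj g D ≤ S := by
  induction h with
  | refl hD => rwa [cj_one]
  | step _ _ _ ih => rwa [cj_mul]

theorem Reach.trans {S : Subgroup G} {ok : Subgroup G → G → Prop} {D : Subgroup G} {g h : G}
    (h₁ : Reach S ok D g) (h₂ : Reach S ok (cj g D) h) : Reach S ok D (h * g) := by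
  induction h₁ generalizing h with
  | refl _ => rw [cj_one] at h₂; rwa [mul_one]
  | step hok hD _ ih => rw [← mul_assoc]; exact .step hok hD (ih (by rwa [← cj_mul]))

theorem Reach.single {S : Subgroup G} {ok : Subgroup G → G → Prop} {D : Subgroup G} {g : G}
    (hok : ok D g) (hD : D ≤ S) (hg : cj g D ≤ S) : Reach S ok D g := by
  simpa using Reach.step hok hD (Reach.refl hg)

theorem Reach.mono {S : Subgroup G} {ok : Subgroup G → G → Prop}
    (hok : ∀ (D D' : Subgroup G) (x : G), D' ≤ D → ok D x → ok D' x)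
    {D : Subgroup G} {g : G} (h : Reach S ok D g) :
    ∀ D' : Subgroup G, D' ≤ D → Reach S ok D' g := by
  induction h with
  | refl hD => exact fun D' hle => .refl (hle.trans hD)
  | step hx hD _ ih =>
    exact fun D' hle => .step (hok _ _ _ hle hx) (hle.trans hD) (ih _ (cj_mono hle))

theorem Reach.symm {S : Subgroup G} {ok : Subgroup G → G → Prop}
    (hok : ∀ (D : Subgroup G) (x : G), ok D x → ok (cj x D) x⁻¹)
    {D : Subgroup G} {g : G} (h : Reach S ok D g) : Reach S ok (cj g D) g⁻¹ := by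
  induction h with
  | refl hD => rw [cj_one, inv_one]; exact .refl hD
  | @step D x g hx hD hr ih =>
    rw [cj_mul, mul_inv_rev]
    exact ih.trans (Reach.single (by rw [cj_inv_cj]; exact hok _ _ hx) (by rw [cj_inv_cj]; exact hr.le)
      (by rw [cj_inv_cj, cj_inv_cj]; exact hD))

/-- A chain as a finite sequence of partial products. -/
theorem Reach.exists_seq {S : Subgroup G} {ok : Subgroup G → G → Prop} {D : Subgroup G} {g : G}
    (h : Reach S ok D g) : ∃ (n : ℕ) (c : Fin (n + 1) → G), c 0 = 1 ∧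
      (∀ i : Fin n, ok (cj (c i.castSucc) D) (c i.succ * (c i.castSucc)⁻¹)) ∧
      (∀ i : Fin (n + 1), cj (c i) D ≤ S) ∧ c (Fin.last n) = g := by
  induction h with
  | refl hD =>
    exact ⟨0, fun _ => 1, rfl, fun i => i.elim0, fun _ => by rw [cj_one]; exact hD, rfl⟩
  | @step D x g hx hD _ ih =>
    obtain ⟨n, c, hc0, hstep, himg, hlast⟩ := ih
    refine ⟨n + 1, Fin.cons 1 (fun i => c i * x), rfl, ?_, ?_, ?_⟩
    · intro i
      refine Fin.cases ?_ (fun j => ?_) i
      · simpa [hc0, cj_one] using hx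
      · have := hstep j
        simpa [cj_mul, mul_assoc] using this
    · intro i
      refine Fin.cases ?_ (fun j => ?_) i
      · simpa [cj_one] using hD
      · simpa [cj_mul] using himg j
    · simp [← Fin.succ_last, hlast]

/-- Moves inside normalizers of members of a family containing the moved subgroup. -/
def familyOk (𝓕 : Set (Subgroup G)) (D : Subgroup G) (x : G) : Prop :=
  ∃ U ∈ 𝓕, D ≤ U ∧ x ∈ Subgroup.normalizer (U : Set G)

theorem familyOk.symm {𝓕 : Set (Subgroup G)} {D : Subgroup G} {x : G} (h : familyOk 𝓕 D x) :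
    familyOk 𝓕 (cj x D) x⁻¹ := by
  obtain ⟨U, hU, hDU, hx⟩ := h
  exact ⟨U, hU, (cj_mono hDU).trans (cj_eq_self_iff.2 hx).le, inv_mem hx⟩

theorem familyOk.mono {𝓕 : Set (Subgroup G)} (D D' : Subgroup G) (x : G) (hle : D' ≤ D)
    (h : familyOk 𝓕 D x) : familyOk 𝓕 D' x := by
  obtain ⟨U, hU, hDU, hx⟩ := h
  exact ⟨U, hU, hle.trans hDU, hx⟩

theorem isConjugationFamily_of_reach (S : Subgroup G) (𝓕 : Set (Subgroup G))
    (h𝓕 : ∀ U ∈ 𝓕, U ≤ S)
    (h : ∀ (D : Subgroup G) (g : G), D ≤ S → cj g D ≤ S → Reach S (familyOk 𝓕) D g) :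
    Cfsg.IsConjugationFamily 𝓕 S := by
  have key : ∀ (D : Subgroup G) (g : G), Reach S (familyOk 𝓕) D g →
      ∃ (n : ℕ) (T : Fin n → Subgroup G) (x : Fin n → G), (List.ofFn x).prod = g⁻¹ ∧
        (∀ i, T i ∈ 𝓕) ∧ (∀ i, x i ∈ Subgroup.normalizer ((T i : Subgroup G) : Set G)) ∧
        (∀ h : 0 < n, D ≤ T ⟨0, h⟩) ∧
        ∀ (i : Fin n) (h : i.val + 1 < n),
          cj (((List.ofFn x).take (i.val + 1)).prod)⁻¹ D ≤ T ⟨i.val + 1, h⟩ := by
    intro D g hr
    induction hr with
    | refl hD => exact ⟨0, Fin.elim0, Fin.elim0, by simp, fun i => i.elim0, fun i => i.elim0,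
        fun h => absurd h (Nat.lt_irrefl 0), fun i => i.elim0⟩
    | @step D x g hx _ _ ih =>
      obtain ⟨n, T, y, hprod, hT, hy, h0, hnext⟩ := ih
      obtain ⟨U, hU, hDU, hxU⟩ := hx
      refine ⟨n + 1, Fin.cons U T, Fin.cons x⁻¹ y, ?_, ?_, ?_, fun _ => hDU, ?_⟩
      · simp [List.ofFn_succ, hprod, mul_inv_rev]
      · exact fun i => Fin.cases hU hT i
      · exact fun i => Fin.cases (inv_mem hxU) hy i
      · rintro ⟨i, hi⟩ hi'
        have hlt : i < n := by simpa using hi'
        show cj _ D ≤ T ⟨i, hlt⟩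
        simp only [List.ofFn_succ, Fin.cons_zero, Fin.cons_succ, List.take_succ_cons,
          List.prod_cons, mul_inv_rev, inv_inv, cj_mul]
        cases i with
        | zero => simpa [cj_one] using h0 hlt
        | succ j => exact hnext ⟨j, by omega⟩ hlt
  refine ⟨h𝓕, fun A g hne hA hg => ?_⟩
  have hg' : cj g⁻¹ (Subgroup.closure A) ≤ S := image_subset_iff.1 (by simpa using hg)
  obtain ⟨n, T, x, hprod, hT, hx, h0, hnext⟩ :=
    key _ _ (h (Subgroup.closure A) g⁻¹ ((Subgroup.closure_le _).2 hA) hg')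
  refine ⟨n, T, x, by simpa using hprod, hT, hx,
    fun hn => Subgroup.subset_closure.trans (h0 hn), fun i hi => ?_⟩
  have := image_subset_iff.2 (hnext i hi)
  simpa using this

/-- Alperin's theorem: a family of fully normalized representatives is a conjugation family. -/
theorem reach_of_reps [Finite G] {p : ℕ} [Fact p.Prime] (S : Sylow p G) (𝓕 : Set (Subgroup G))
    (h𝓕 : ∀ T : Subgroup G, T ≤ (S : Subgroup G) → ∃ U ∈ 𝓕,
      (∃ g : G, cj g T = U) ∧ FullyNorm p (S : Subgroup G) U) :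
    ∀ (D : Subgroup G) (g : G), D ≤ (S : Subgroup G) → cj g D ≤ (S : Subgroup G) →
      Reach (S : Subgroup G) (familyOk 𝓕) D g :=
  alperin_induction S 𝓕 h𝓕 _ (fun _ _ _ hle _ _ h => h.mono familyOk.mono _ hle)
    (fun _ _ _ _ _ _ h₁ h₂ => h₁.trans h₂) (fun _ _ _ _ h => h.symm fun _ _ => familyOk.symm)
    (fun U hU hUfn D n hD hn => Reach.single ⟨U, hU, hD, hn⟩ (hD.trans hUfn.1)
      ((cj_mono hD).trans ((cj_eq_self_iff.2 hn).le.trans hUfn.1)))

end CfsgLib.ConjFunctor
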