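import Cfsg.Agent.Lib.ConjFunctor.Induced
import Cfsg.Agent.Lib.Solvable.Core
import Cfsg.Prelude.Def_LocalEven
import Cfsg.Prelude.Def_PLocal

/-!
# Sections of a group up to isomorphism
-/

set_option autoImplicit false
set_option linter.style.haveILetI false

namespace CfsgLib.ConjFunctor

universe u

/-- `H` is isomorphic to a section of `G`. -/
def IsSec (G : Type u) [Group G] (H : Type u) [Group H] : Prop :=
  ∃ (K : Subgroup G) (f : ↥K →* H), Function.Surjective f

variable {G : Type u} [Group G]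

theorem isSec_self : IsSec G G :=
  ⟨⊤, (⊤ : Subgroup G).subtype, fun x => ⟨⟨x, Subgroup.mem_top x⟩, rfl⟩⟩

theorem isSec_quot (K R : Subgroup G) [(R.subgroupOf K).Normal] :
    IsSec G (↥K ⧸ R.subgroupOf K) :=
  ⟨K, QuotientGroup.mk' _, QuotientGroup.mk'_surjective _⟩

theorem IsSec.of_surjective {H H' : Type u} [Group H] [Group H'] (h : IsSec G H) {f : H →* H'}
    (hf : Function.Surjective f) : IsSec G H' := by
  obtain ⟨K, g, hg⟩ := h
  exact ⟨K, f.comp g, hf.comp hg⟩

theorem IsSec.subgroup {H : Type u} [Group H] (h : IsSec G H) (L : Subgroup H) : IsSec G ↥L := by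
  obtain ⟨K, g, hg⟩ := h
  refine ⟨(L.comap g).map K.subtype, (g.subgroupComap L).comp
    ((L.comap g).equivMapOfInjective K.subtype K.subtype_injective).symm.toMonoidHom, ?_⟩
  intro y
  obtain ⟨x, hx⟩ := hg y
  refine ⟨(L.comap g).equivMapOfInjective K.subtype K.subtype_injective
    ⟨x, show g x ∈ L by rw [hx]; exact y.2⟩, ?_⟩
  simp only [MonoidHom.coe_comp, MulEquiv.coe_toMonoidHom, Function.comp_apply,
    MulEquiv.symm_apply_apply]
  exact Subtype.ext hx

theorem IsSec.finite {H : Type u} [Group H] [Finite G] (h : IsSec G H) : Finite H := by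
  obtain ⟨K, g, hg⟩ := h
  exact Finite.of_surjective g hg

theorem IsSec.exists_equiv {H : Type u} [Group H] (h : IsSec G H) :
    ∃ (K R : Subgroup G) (_ : (R.subgroupOf K).Normal),
      Nonempty ((↥K ⧸ R.subgroupOf K) ≃* H) := by
  obtain ⟨K, g, hg⟩ := h
  have e : (g.ker.map K.subtype).subgroupOf K = g.ker :=
    Subgroup.comap_map_eq_self_of_injective K.subtype_injective _
  haveI : ((g.ker.map K.subtype).subgroupOf K).Normal := by rw [e]; infer_instance
  exact ⟨K, g.ker.map K.subtype, inferInstance,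
    ⟨(QuotientGroup.quotientMulEquivOfEq e).trans
      (QuotientGroup.quotientKerEquivOfSurjective g hg)⟩⟩

/-! ### Transport along isomorphisms -/

section Equiv

variable {H H' : Type u} [Group H] [Group H']

theorem map_centralizer_equiv (e : H ≃* H') (A : Subgroup H) :
    (Subgroup.centralizer (A : Set H)).map e.toMonoidHom =
      Subgroup.centralizer ((A.map e.toMonoidHom : Subgroup H') : Set H') := by
  ext y
  simp only [Subgroup.mem_map, Subgroup.mem_centralizer_iff, SetLike.mem_coe]
  constructor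
  · rintro ⟨x, hx, rfl⟩ _ ⟨a, ha, rfl⟩
    rw [← map_mul, ← map_mul, hx a ha]
  · intro hy
    refine ⟨e.symm y, fun a ha => e.injective ?_, e.apply_symm_apply y⟩
    rw [map_mul, map_mul, e.apply_symm_apply]
    exact hy _ ⟨a, ha, rfl⟩

/-- `C(O_p) ≤ O_p`. -/
abbrev Constrained (p : ℕ) (H : Type u) [Group H] : Prop :=
  Subgroup.centralizer ((Cfsg.pCore p H : Subgroup H) : Set H) ≤ Cfsg.pCore p H

variable {p : ℕ}

theorem constrained_equiv (e : H ≃* H') (h : Constrained p H) : Constrained p H' := by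
  show Subgroup.centralizer _ ≤ _
  rw [← CfsgLib.Solvable.map_pCore_mulEquiv (p := p) e, ← map_centralizer_equiv]
  exact Subgroup.map_mono h

theorem map_normalizer_equiv (e : H ≃* H') (A : Subgroup H) :
    (Subgroup.normalizer (A : Set H)).map e.toMonoidHom =
      Subgroup.normalizer ((A.map e.toMonoidHom : Subgroup H') : Set H') := by
  ext y
  simp only [Subgroup.mem_map, Subgroup.mem_normalizer_iff, SetLike.mem_coe]
  constructor
  · rintro ⟨x, hx, rfl⟩ z
    constructor
    · rintro ⟨a, ha, rfl⟩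
      exact ⟨x * a * x⁻¹, (hx a).1 ha, by simp⟩
    · rintro ⟨a, ha, he⟩
      refine ⟨x⁻¹ * a * x, (hx _).2 (by simpa [mul_assoc] using ha), ?_⟩
      simp only [MulEquiv.coe_toMonoidHom, map_mul, map_inv] at he ⊢
      rw [he]; group
  · intro hy
    refine ⟨e.symm y, fun a => ?_, e.apply_symm_apply y⟩
    have h1 := hy (e a)
    constructor
    · intro ha
      obtain ⟨b, hb, he⟩ := h1.1 ⟨a, ha, rfl⟩
      rwa [show e.symm y * a * (e.symm y)⁻¹ = b from
        e.injective (by simpa using he.symm)]
    · intro ha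
      obtain ⟨b, hb, he⟩ := h1.2 ⟨_, ha, by simp⟩
      rwa [show a = b from e.injective (by simpa using he.symm)]

theorem map_inducedFunctor_equiv {W : ∀ (Q : Type u) [Group Q], Subgroup Q}
    (hW : Cfsg.IsCharPFunctor.{u} p W) [Finite H] (e : H ≃* H') (T : Subgroup H)
    (hT : IsPGroup p ↥T) :
    (Cfsg.inducedFunctor W T).map e.toMonoidHom = Cfsg.inducedFunctor W (T.map e.toMonoidHom) :=
  (inducedFunctor_map hW e.toMonoidHom T hT e.injective.injOn).symm

theorem isChiefFactor_equiv (e : H ≃* H') {U V : Subgroup H} (h : Cfsg.IsChiefFactor U V) :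
    Cfsg.IsChiefFactor (U.map e.toMonoidHom) (V.map e.toMonoidHom) := by
  obtain ⟨hlt, hU, hV, hmax⟩ := h
  refine ⟨(Subgroup.map_lt_map_iff_of_injective e.injective).2 hlt, hU.map _ e.surjective,
    hV.map _ e.surjective, fun N hN hVN hNU => ?_⟩
  have hN' : N = (N.comap e.toMonoidHom).map e.toMonoidHom :=
    (Subgroup.map_comap_eq_self_of_surjective e.surjective N).symm
  rcases hmax _ (hN.comap e.toMonoidHom) (Subgroup.map_le_iff_le_comap.1 hVN)
      ((Subgroup.comap_mono hNU).trans
        (Subgroup.comap_map_eq_self_of_injective e.injective U).le) with h | h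
  · exact Or.inl (hN'.trans (by rw [h]))
  · exact Or.inr (hN'.trans (by rw [h]))

end Equiv

end CfsgLib.ConjFunctor
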