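import Cfsg.Agent.Lib.ConjFunctor.Reach

/-!
# Local-to-global control of transfer by conjugacy functors
-/

set_option autoImplicit false

namespace CfsgLib.ConjFunctor

open scoped commutatorElement

variable {G : Type*} [Group G] [Finite G] {p : ℕ} [Fact p.Prime]

omit [Finite G] [Fact p.Prime] in
theorem cj_commutator (g : G) (H K : Subgroup G) : cj g ⁅H, K⁆ = ⁅cj g H, cj g K⁆ :=
  Subgroup.map_commutator H K _

omit [Finite G] [Fact p.Prime] in
theorem cj_iSup {ι : Sort*} (g : G) (f : ι → Subgroup G) : cj g (iSup f) = ⨆ i, cj g (f i) :=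
  Subgroup.map_iSup _ f

/-- The moves whose difference lies in `K`. -/
def DiffIn (K D : Subgroup G) (g : G) : Prop := ∀ a ∈ D, a⁻¹ * (g * a * g⁻¹) ∈ K

omit [Finite G] [Fact p.Prime] in
theorem DiffIn.comp {K D : Subgroup G} {g h : G} (h₁ : DiffIn K D g) (h₂ : DiffIn K (cj g D) h) :
    DiffIn K D (h * g) := by
  intro a ha
  have := K.mul_mem (h₁ a ha) (h₂ _ (conj_mem_cj ha))
  simpa [mul_assoc] using this

omit [Finite G] [Fact p.Prime] in
theorem DiffIn.symm {K D : Subgroup G} {g : G} (h : DiffIn K D g) : DiffIn K (cj g D) g⁻¹ := by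
  intro b hb
  rw [mem_cj] at hb
  have := K.inv_mem (h _ hb)
  simpa [mul_assoc] using this

omit [Finite G] [Fact p.Prime] in
theorem diffIn_of_le {U D : Subgroup G} {n : G} (hD : D ≤ U)
    (hn : n ∈ Subgroup.normalizer (U : Set G)) :
    DiffIn (U ⊓ ⁅Subgroup.normalizer (U : Set G), Subgroup.normalizer (U : Set G)⁆) D n := by
  intro a ha
  refine Subgroup.mem_inf.2 ⟨U.mul_mem (U.inv_mem (hD ha)) ((Subgroup.mem_normalizer_iff.1 hn a).1 (hD ha)), ?_⟩
  have h := Subgroup.commutator_mem_commutator (inv_mem (Subgroup.le_normalizer (hD ha))) hn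
  simpa [commutatorElement_def, mul_assoc] using h

/-- The focal subgroup argument: if all fusion differences lie in `K`, so does `S ∩ G'`. -/
theorem inf_commutator_le (S : Sylow p G) (K : Subgroup G)
    (h : ∀ (D : Subgroup G) (g : G), D ≤ (S : Subgroup G) → cj g D ≤ (S : Subgroup G) →
      DiffIn K D g) :
    (S : Subgroup G) ⊓ ⁅(⊤ : Subgroup G), ⊤⁆ ≤ K := by
  rw [inf_comm, ← commutator_def, Subgroup.commutator_inf_eq_focalSubgroup S,
    Subgroup.focalSubgroup_def, Subgroup.closure_le]
  rintro z ⟨hz, x, hx, u, rfl⟩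
  have hux : u * x⁻¹ * u⁻¹ ∈ (S : Subgroup G) := by
    have := mul_mem (inv_mem hx) hz
    simpa [commutatorElement_def, mul_assoc] using this
  have := h (Subgroup.zpowers x⁻¹) u ((Subgroup.zpowers_le).2 (inv_mem hx))
    (by
      show (Subgroup.zpowers x⁻¹).map _ ≤ _
      rw [MonoidHom.map_zpowers]
      exact (Subgroup.zpowers_le).2 (by simpa using hux))
    x⁻¹ (Subgroup.mem_zpowers _)
  simpa [commutatorElement_def, mul_assoc] using this

/-- Control of transfer in `H` can be read in any Sylow subgroup of `H`. -/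
theorem transfer_of_controls {W : Subgroup G → Subgroup G} {H : Subgroup G}
    (hW : Cfsg.IsConjugacyFunctor p W) (h : Cfsg.ControlsTransferIn p W H)
    {T : Subgroup G} (hT : IsSyl p T H) :
    T ⊓ ⁅H, H⁆ = T ⊓ ⁅H ⊓ Subgroup.normalizer ((W T : Subgroup G) : Set G),
      H ⊓ Subgroup.normalizer ((W T : Subgroup G) : Set G)⁆ := by
  obtain ⟨T₀, hle, hP, hdvd, heq⟩ := h
  obtain ⟨a, ha, rfl⟩ := (IsSyl.mk hle hP hdvd).exists_cj_eq hT
  have := congrArg (cj a) heq
  rwa [cj_inf, cj_inf, cj_commutator, cj_commutator, cj_eq_self_of_mem ha, cj_inf, cj_normalizer,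
    cj_eq_self_of_mem ha, ← functor_cj hW hP] at this

/-- Climbing the tower of a well placed subgroup. -/
theorem transfer_climb (S : Sylow p G) {W : Subgroup G → Subgroup G}
    (hW : Cfsg.IsConjugacyFunctor p W)
    (hloc : ∀ T : Subgroup G, T ≠ ⊥ → Cfsg.IsWellPlaced p W (S : Subgroup G) T →
      Cfsg.ControlsTransferIn p W (Subgroup.normalizer (T : Set G))) :
    ∀ U : Subgroup G, Cfsg.IsWellPlaced p W (S : Subgroup G) U → U ≠ ⊥ →
      (S : Subgroup G) ⊓ Subgroup.normalizer (U : Set G) ⊓
        ⁅Subgroup.normalizer (U : Set G), Subgroup.normalizer (U : Set G)⁆ ≤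
      (S : Subgroup G) ⊓ ⁅Subgroup.normalizer ((W (S : Subgroup G) : Subgroup G) : Set G),
        Subgroup.normalizer ((W (S : Subgroup G) : Subgroup G) : Set G)⁆ := by
  suffices H : ∀ (k : ℕ) (U : Subgroup G),
      Nat.card G - Nat.card ↥((S : Subgroup G) ⊓ Subgroup.normalizer (U : Set G)) ≤ k →
      Cfsg.IsWellPlaced p W (S : Subgroup G) U → U ≠ ⊥ →
      (S : Subgroup G) ⊓ Subgroup.normalizer (U : Set G) ⊓
        ⁅Subgroup.normalizer (U : Set G), Subgroup.normalizer (U : Set G)⁆ ≤
      (S : Subgroup G) ⊓ ⁅Subgroup.normalizer ((W (S : Subgroup G) : Subgroup G) : Set G),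
        Subgroup.normalizer ((W (S : Subgroup G) : Subgroup G) : Set G)⁆ from
    fun U => H _ U le_rfl
  intro k
  induction k using Nat.strong_induction_on with
  | _ k ih =>
    intro U hk hU hne
    have hS := S.isPGroup'
    have hfn := IsWellPlaced.fullyNorm hS hU
    rw [transfer_of_controls hW (hloc U hne hU) hfn.2]
    rcases eq_or_lt_of_le (inf_le_left :
      (S : Subgroup G) ⊓ Subgroup.normalizer (U : Set G) ≤ S) with heq | hlt
    · rw [heq]
      exact inf_le_inf_left _ (Subgroup.commutator_mono inf_le_right inf_le_right)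
    · have hlt' := inf_normalizer_lt_functor hW hS hlt
      have hne1 : W ((S : Subgroup G) ⊓ Subgroup.normalizer (U : Set G)) ≠ ⊥ :=
        (hW _ (hS.to_le inf_le_left)).2.1 fun h => hne (le_bot_iff.1 (hfn.self_le.trans h.le))
      have hcard := (Subgroup.card_le_of_le hlt'.le).lt_of_ne fun h =>
        hlt'.ne (Subgroup.eq_of_le_of_card_ge hlt'.le h.ge)
      have hG := Subgroup.card_le_card_group ((S : Subgroup G) ⊓ Subgroup.normalizer
            ((W ((S : Subgroup G) ⊓ Subgroup.normalizer (U : Set G)) : Subgroup G) : Set G))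
      exact (inf_le_inf hlt'.le (Subgroup.commutator_mono inf_le_right inf_le_right)).trans
        (ih _ (by omega) _ le_rfl (IsWellPlaced.tower hW hS hU 1) hne1)

theorem controlsTransferIn_of_local (S : Sylow p G) {W : Subgroup G → Subgroup G}
    (hW : Cfsg.IsConjugacyFunctor p W)
    (hloc : ∀ T : Subgroup G, T ≠ ⊥ → Cfsg.IsWellPlaced p W (S : Subgroup G) T →
      Cfsg.ControlsTransferIn p W (Subgroup.normalizer (T : Set G))) :
    Cfsg.ControlsTransferIn p W ⊤ := by
  refine ⟨S, le_top, S.isPGroup', (isSyl_top S).not_dvd, le_antisymm ?_ ?_⟩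
  · simp only [top_inf_eq]
    refine inf_commutator_le S _ (alperin_induction S _ (exists_rep_wellPlaced S hW) _
      (fun _ _ _ hle _ _ h a ha => h a (hle ha)) (fun _ _ _ _ _ _ => DiffIn.comp)
      (fun _ _ _ _ => DiffIn.symm) (fun U hU hfn D n hD hn a ha => ?_))
    rcases eq_or_ne U ⊥ with rfl | hne
    · rw [Subgroup.mem_bot.1 (hD ha)]
      simp
    · exact transfer_climb S hW hloc U hU hne
        ((inf_le_inf_right _ hfn.self_le) (diffIn_of_le hD hn a ha))
  · exact inf_le_inf_left _ (Subgroup.commutator_mono inf_le_left inf_le_left)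

theorem familyControlsTransferIn_of_local (S : Sylow p G) (𝓦 : Set (Subgroup G → Subgroup G))
    (h𝓦 : ∀ W ∈ 𝓦, Cfsg.IsConjugacyFunctor p W)
    (hloc : ∀ T : Subgroup G, T ≠ ⊥ → FullyNorm p (S : Subgroup G) T →
      Cfsg.FamilyControlsTransferIn p 𝓦 (Subgroup.normalizer (T : Set G))) :
    Cfsg.FamilyControlsTransferIn p 𝓦 ⊤ := by
  have hS := S.isPGroup'
  set K := ⨆ W ∈ 𝓦, (S : Subgroup G) ⊓ ⁅(⊤ : Subgroup G) ⊓ Subgroup.normalizer
      ((W (S : Subgroup G) : Subgroup G) : Set G),
    ⊤ ⊓ Subgroup.normalizer ((W (S : Subgroup G) : Subgroup G) : Set G)⁆ with hK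
  have hstep : ∀ (k : ℕ) (U : Subgroup G),
      Nat.card G - Nat.card ↥((S : Subgroup G) ⊓ Subgroup.normalizer (U : Set G)) ≤ k →
      FullyNorm p (S : Subgroup G) U → U ≠ ⊥ →
      (S : Subgroup G) ⊓ Subgroup.normalizer (U : Set G) ⊓
        ⁅Subgroup.normalizer (U : Set G), Subgroup.normalizer (U : Set G)⁆ ≤ K := by
    intro k
    induction k using Nat.strong_induction_on with
    | _ k ih =>
      intro U hk hfn hne
      obtain ⟨T₀, hle, hP, hdvd, heq⟩ := hloc U hne hfn
      obtain ⟨a, ha, hT⟩ := (IsSyl.mk hle hP hdvd).exists_cj_eq hfn.2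
      set R := (S : Subgroup G) ⊓ Subgroup.normalizer (U : Set G) with hR
      have heq' : R ⊓ ⁅Subgroup.normalizer (U : Set G), Subgroup.normalizer (U : Set G)⁆ =
          ⨆ W ∈ 𝓦, R ⊓ ⁅Subgroup.normalizer (U : Set G) ⊓
              Subgroup.normalizer ((W R : Subgroup G) : Set G),
            Subgroup.normalizer (U : Set G) ⊓
              Subgroup.normalizer ((W R : Subgroup G) : Set G)⁆ := by
        have := congrArg (cj a) heq
        rw [cj_inf, cj_commutator, cj_eq_self_of_mem ha, hT] at this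
        simp only [cj_iSup] at this
        rw [this]
        refine iSup_congr fun W => iSup_congr fun hW => ?_
        rw [cj_inf, cj_commutator, hT, cj_inf, cj_eq_self_of_mem ha, cj_normalizer,
          ← functor_cj (h𝓦 W hW) hP, hT]
      rw [heq']
      refine iSup₂_le fun W hW => ?_
      have hRle : R ≤ (S : Subgroup G) := inf_le_left
      rcases eq_or_lt_of_le hRle with hRS | hlt
      · rw [hRS]
        refine le_trans (inf_le_inf_left _ (Subgroup.commutator_mono ?_ ?_))
          (le_iSup₂_of_le W hW le_rfl) <;> exact inf_le_inf_right _ le_top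
      have hW' := h𝓦 W hW
      have hlt' := inf_normalizer_lt_functor hW' hS hlt
      set R1 := (S : Subgroup G) ⊓ Subgroup.normalizer ((W R : Subgroup G) : Set G) with hR1
      have hRne : R ≠ ⊥ := fun h => hne (le_bot_iff.1 (hfn.self_le.trans h.le))
      obtain ⟨b, hb, hbfn⟩ := exists_fullyNorm_cj S (D := W R)
        ((functor_le hW' (hS.to_le inf_le_left)).trans inf_le_left)
      have hcard : Nat.card ↥R < Nat.card ↥R1 :=
        (Subgroup.card_le_of_le hlt'.le).lt_of_ne fun h =>
          hlt'.ne (Subgroup.eq_of_le_of_card_ge hlt'.le h.ge)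
      have hdiff : DiffIn K R1 b := by
        refine alperin_induction S _ (exists_rep_fullyNorm S)
          (fun E g => Nat.card ↥R < Nat.card ↥E → DiffIn K E g)
          (fun _ _ _ hle _ _ h hlt a ha =>
            h (hlt.trans_le (Subgroup.card_le_of_le hle)) a (hle ha))
          (fun E g h _ _ _ h₁ h₂ hlt => (h₁ hlt).comp (h₂ (by rwa [card_cj])))
          (fun E g _ _ h hlt => (h (by rwa [card_cj] at hlt)).symm)
          (fun V hV hVfn E m hEV hm hlt a ha => ?_) R1 b inf_le_left hb hcard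
        rcases eq_or_ne V ⊥ with rfl | hV0
        · rw [Subgroup.mem_bot.1 (hEV ha)]
          simp
        have h1 := Subgroup.card_le_of_le (hEV.trans hVfn.self_le)
        have h2 := Subgroup.card_le_card_group
          ((S : Subgroup G) ⊓ Subgroup.normalizer (V : Set G))
        exact ih _ (by omega) V le_rfl hVfn hV0
          ((inf_le_inf_right _ hVfn.self_le) (diffIn_of_le hEV hm a ha))
      have hbR1 : cj b R1 ≤ (S : Subgroup G) ⊓
          Subgroup.normalizer ((cj b (W R) : Subgroup G) : Set G) := by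
        rw [← cj_normalizer]; exact le_inf hb (cj_mono inf_le_right)
      have hVne : cj b (W R) ≠ ⊥ := fun h =>
        (hW' _ (hS.to_le inf_le_left)).2.1 hRne (cj_eq_bot_iff.1 h)
      have hcard' : Nat.card ↥R < Nat.card ↥((S : Subgroup G) ⊓
          Subgroup.normalizer ((cj b (W R) : Subgroup G) : Set G)) :=
        lt_of_lt_of_le (by rwa [card_cj]) (Subgroup.card_le_of_le hbR1)
      have hG := Subgroup.card_le_card_group ((S : Subgroup G) ⊓
          Subgroup.normalizer ((cj b (W R) : Subgroup G) : Set G))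
      intro z hz
      have hzb : b * z * b⁻¹ ∈ K := by
        refine ih _ (by omega) _ le_rfl hbfn hVne ⟨hbR1 (conj_mem_cj (hlt'.le hz.1)), ?_⟩
        rw [← cj_normalizer, ← cj_commutator]
        exact conj_mem_cj (Subgroup.commutator_mono inf_le_right inf_le_right hz.2)
      have := K.mul_mem hzb (K.inv_mem (hdiff z (hlt'.le hz.1)))
      simpa [mul_assoc] using this
  refine ⟨S, le_top, hS, (isSyl_top S).not_dvd, le_antisymm ?_ ?_⟩
  · refine inf_commutator_le S _ (alperin_induction S _ (exists_rep_fullyNorm S) _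
      (fun _ _ _ hle _ _ h a ha => h a (hle ha)) (fun _ _ _ _ _ _ => DiffIn.comp)
      (fun _ _ _ _ => DiffIn.symm) (fun U hU hfn D n hD hn a ha => ?_))
    rcases eq_or_ne U ⊥ with rfl | hne
    · rw [Subgroup.mem_bot.1 (hD ha)]
      simp
    · exact hstep _ U le_rfl hfn hne ((inf_le_inf_right _ hfn.self_le) (diffIn_of_le hD hn a ha))
  · exact iSup₂_le fun W _ => inf_le_inf_left _ (Subgroup.commutator_mono inf_le_left inf_le_left)

end CfsgLib.ConjFunctor
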