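import Cfsg.Agent.Lib.ConjFunctor.TransferMain
import Cfsg.Agent.Lib.ConjFunctor.WeakClosure

/-!
# A minimal failure of control of transfer
-/

set_option autoImplicit false
set_option linter.style.haveILetI false

open scoped commutatorElement

namespace CfsgLib.ConjFunctor

universe u

variable {p : ℕ} [Fact p.Prime] {𝓦 : Set (∀ (Q : Type u) [Group Q], Subgroup Q)}

/-- All proper sections control transfer. -/
def ProperControl (p : ℕ) (𝓦 : Set (∀ (Q : Type u) [Group Q], Subgroup Q)) (G : Type u) [Group G] :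
    Prop :=
  ∀ (H : Type u) [Group H] [Finite H], IsSec G H → Nat.card H < Nat.card G →
    ∀ S : Sylow p H, (S : Subgroup H) ⊓ commutator H ≤ tgt 𝓦 (S : Subgroup H)

theorem properControl_of_sections (h𝓦 : ∀ W ∈ 𝓦, Cfsg.IsCharPFunctor.{u} p W) {G : Type u} [Group G]
    [Finite G]
    (hsec : ∀ (K R : Subgroup G) [hR : (R.subgroupOf K).Normal], (K = ⊤ → R ≠ ⊥) →
      Cfsg.FamilyControlsTransferIn p
        ((fun W => Cfsg.inducedFunctor (G := (↥K ⧸ R.subgroupOf K)) W) '' 𝓦) ⊤) :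
    ProperControl p 𝓦 G := by
  intro H _ _ hs hlt S
  obtain ⟨K, R, hR, ⟨e⟩⟩ := hs.exists_equiv
  haveI := hR
  obtain ⟨T, hT⟩ := exists_sylow_equiv e S
  have h1 := inf_commutator_le_tgt_of_controls h𝓦 (hsec K R fun hK hR0 => hlt.ne ?_) T
  · have h2 := Subgroup.map_mono (f := e.toMonoidHom) h1
    rwa [map_tgt_equiv h𝓦 e T.isPGroup', Subgroup.map_inf _ _ _ e.injective, hT, commutator_def,
      Subgroup.map_commutator, Subgroup.map_top_of_surjective _ e.surjective, ← commutator_def] at h2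
  · subst hK
    subst hR0
    rw [← Nat.card_congr e.toEquiv, ← Nat.card_congr (Subgroup.topEquiv (G := G)).toEquiv,
      Subgroup.card_eq_card_quotient_mul_card_subgroup ((⊥ : Subgroup G).subgroupOf ⊤),
      Subgroup.bot_subgroupOf, Subgroup.card_bot, mul_one]

variable {G : Type u} [Group G] [Finite G]

theorem exists_critical (h𝓦 : ∀ W ∈ 𝓦, Cfsg.IsCharPFunctor.{u} p W) (hprop : ProperControl p 𝓦 G)
    (S : Sylow p G) (hG : ¬ (S : Subgroup G) ⊓ commutator G ≤ tgt 𝓦 (S : Subgroup G)) :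
    Constrained p G ∧ ¬ Cfsg.pCore p G ⊓ commutator G ≤ tgt 𝓦 (S : Subgroup G) := by
  have key : ¬ (Constrained p G → Cfsg.pCore p G ⊓ commutator G ≤ tgt 𝓦 (S : Subgroup G)) := by
    intro hP
    refine hG (transfer_reduce h𝓦 (fun H _ _ hs hcon T _ => ?_) G isSec_self S)
    obtain ⟨K, f, hf⟩ := hs
    rcases lt_or_ge (Nat.card H) (Nat.card G) with hlt | hge
    · exact (inf_le_inf_right _ (CfsgLib.Solvable.pCore_le_sylow T)).trans
        (hprop H ⟨K, f, hf⟩ hlt T)
    · have hKtop : K = ⊤ := by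
        refine Subgroup.eq_top_of_card_eq K ((Subgroup.card_le_card_group K).antisymm ?_)
        exact hge.trans (Nat.card_le_card_of_surjective f hf)
      subst hKtop
      have hbij : Function.Bijective f := (Nat.bijective_iff_surjective_and_card f).2
        ⟨hf, ((Nat.card_le_card_of_surjective f hf).antisymm (by
          rw [Nat.card_congr (Subgroup.topEquiv (G := G)).toEquiv]; exact hge)).symm⟩
      set e : G ≃* H := Subgroup.topEquiv.symm.trans (MulEquiv.ofBijective f hbij)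
      obtain ⟨T', hT'⟩ := exists_sylow_equiv e T
      obtain ⟨a, -, ha⟩ := (isSyl_top S).exists_cj_eq (isSyl_top T')
      haveI := CfsgLib.Solvable.pCore_normal p G
      have h1 := cj_mono (g := a) (hP (constrained_equiv e.symm hcon))
      rw [cj_inf, cj_eq_self_of_normal, cj_eq_self_of_normal] at h1
      have h2 : Cfsg.pCore p G ⊓ commutator G ≤ tgt 𝓦 (T' : Subgroup G) := by
        refine h1.trans ?_
        show (tgt 𝓦 (S : Subgroup G)).map (MulAut.conj a).toMonoidHom ≤ _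
        rw [map_tgt_equiv h𝓦 _ S.isPGroup', ← ha]
      have h3 := Subgroup.map_mono (f := e.toMonoidHom) h2
      rwa [map_tgt_equiv h𝓦 e T'.isPGroup', Subgroup.map_inf _ _ _ e.injective, hT',
        CfsgLib.Solvable.map_pCore_mulEquiv (p := p) e, commutator_def,
        Subgroup.map_commutator, Subgroup.map_top_of_surjective _ e.surjective,
        ← commutator_def] at h3
  exact ⟨by_contra fun hcon => key fun h => absurd h hcon, fun h => key fun _ => h⟩

theorem inf_commutator_le_tgt_of_proper (h𝓦 : ∀ W ∈ 𝓦, Cfsg.IsCharPFunctor.{u} p W)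
    (hprop : ProperControl p 𝓦 G) (S : Sylow p G) {L : Subgroup G} (hSL : (S : Subgroup G) ≤ L)
    (hL : L ≠ ⊤) : (S : Subgroup G) ⊓ ⁅L, L⁆ ≤ tgt 𝓦 (S : Subgroup G) := by
  have hsyl : IsSyl p (S : Subgroup G) L := ⟨hSL, S.isPGroup', fun hd =>
    S.not_dvd_index (hd.trans (Subgroup.relIndex_dvd_index_of_le hSL))⟩
  obtain ⟨S', hS'T, hS'⟩ := exists_sylow_map hsyl
  have hcard : Nat.card ↥L < Nat.card G :=
    (Subgroup.card_le_card_group L).lt_of_ne fun h => hL (Subgroup.eq_top_of_card_eq L h)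
  have h1 := hprop ↥L (isSec_self.subgroup L) hcard S'
  rintro x ⟨hxT, hxc⟩
  rw [← Subgroup.range_subtype L, MonoidHom.range_eq_map, ← Subgroup.map_commutator,
    ← commutator_def] at hxc
  obtain ⟨y, hy, rfl⟩ := hxc
  have hyS : y ∈ (S' : Subgroup L) := by rw [hS']; exact hxT
  refine SetLike.le_def.1 ?_ (Subgroup.mem_map_of_mem L.subtype (h1 ⟨hyS, hy⟩))
  simp only [tgt, Subgroup.map_iSup]
  refine iSup₂_mono fun W hW => ?_
  rw [Subgroup.map_inf _ _ _ L.subtype_injective, Subgroup.map_commutator, hS'T]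
  refine inf_le_inf_left _ ?_
  have hN : (Subgroup.normalizer ((Cfsg.inducedFunctor W (S' : Subgroup L) : Subgroup L) :
      Set L)).map L.subtype ≤ Subgroup.normalizer
        ((Cfsg.inducedFunctor W (S : Subgroup G) : Subgroup G) : Set G) := by
    refine (Subgroup.le_normalizer_map L.subtype).trans ?_
    rw [← inducedFunctor_subtype (h𝓦 W hW) L _ S'.isPGroup', hS'T]
  exact Subgroup.commutator_mono hN hN

theorem transfer_critical (h𝓦 : ∀ W ∈ 𝓦, Cfsg.IsCharPFunctor.{u} p W) (hne : 𝓦.Nonempty)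
    (hprop : ProperControl p 𝓦 G) (S : Sylow p G)
    (hG : ¬ (S : Subgroup G) ⊓ commutator G ≤ tgt 𝓦 (S : Subgroup G)) :
    ∃ M : Subgroup G,
      M = Subgroup.normalizer ((tgt 𝓦 (S : Subgroup G) ⊓ Cfsg.pCore p G : Subgroup G) : Set G) ∧
      Constrained p G ∧ (M ≠ ⊤ ∧ ∀ H : Subgroup G, (S : Subgroup G) ≤ H → H ≠ ⊤ → H ≤ M) ∧
      (⁅Cfsg.pCore p G, M⁆ ≤ Cfsg.pCore p G ⊓ ⁅M, M⁆ ∧
        Cfsg.pCore p G ⊓ ⁅M, M⁆ ≤ Cfsg.pCore p G ⊓ tgt 𝓦 (S : Subgroup G)) ∧
      ∀ u : G, u ∈ (S : Subgroup G) → u ∉ Cfsg.pCore p G → ∃ U V : Subgroup G,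
        Cfsg.IsChiefFactor U V ∧ U ≤ Cfsg.pCore p G ∧
          ¬ Cfsg.iterCommutator U (Subgroup.zpowers u) (p - 1) ≤ V := by
  classical
  obtain ⟨hcon, hP⟩ := exists_critical h𝓦 hprop S hG
  haveI hPn := CfsgLib.Solvable.pCore_normal p G
  set P := Cfsg.pCore p G
  set T := tgt 𝓦 (S : Subgroup G) with hT
  have hPS : P ≤ (S : Subgroup G) := CfsgLib.Solvable.pCore_le_sylow S
  have hS' : ⁅(S : Subgroup G), (S : Subgroup G)⁆ ≤ T := by
    obtain ⟨W, hW⟩ := hne
    have hSN : (S : Subgroup G) ≤ Subgroup.normalizer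
        ((Cfsg.inducedFunctor (G := G) W (S : Subgroup G) : Subgroup G) : Set G) :=
      (normalizer_le_functor (isConjugacyFunctor_inducedFunctor (h𝓦 W hW)) S.isPGroup').trans'
        Subgroup.le_normalizer
    exact (le_inf (Subgroup.commutator_le_self _) (Subgroup.commutator_mono hSN hSN)).trans
      (le_iSup₂_of_le W hW le_rfl)
  have hStop : (S : Subgroup G) ≠ ⊤ := by
    intro h
    refine hG (inf_le_right.trans ?_)
    rw [commutator_def, ← h]
    exact hS'
  have hPL : ∀ L : Subgroup G, (S : Subgroup G) ≤ L → L ≠ ⊤ → ⁅P, L⁆ ≤ T ⊓ P := fun L hSL hL =>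
    le_inf ((le_inf (le_trans (Subgroup.commutator_le_left P L) hPS)
      (Subgroup.commutator_mono (hPS.trans hSL) le_rfl)).trans
      (inf_commutator_le_tgt_of_proper h𝓦 hprop S hSL hL)) (Subgroup.commutator_le_left P L)
  set M := Subgroup.normalizer ((T ⊓ P : Subgroup G) : Set G) with hMdef
  have hLM : ∀ L : Subgroup G, (S : Subgroup G) ≤ L → L ≠ ⊤ → L ≤ M := by
    intro L hSL hL
    rw [hMdef, Subgroup.le_normalizer_iff_commutator_le_right, Subgroup.commutator_comm]
    exact (Subgroup.commutator_mono inf_le_right le_rfl).trans (hPL L hSL hL)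
  have hMtop : M ≠ ⊤ := by
    intro htop
    haveI hDn : (T ⊓ P).Normal := Subgroup.normalizer_eq_top_iff.1 htop
    -- `O_p` is central modulo `T ⊓ O_p`
    have hcen : ⁅P, (⊤ : Subgroup G)⁆ ≤ T ⊓ P := by
      rw [commutator_le_iff_le_sectionKernel]
      by_contra hnot
      haveI : (Cfsg.sectionKernel P (T ⊓ P)).Normal := sectionKernel_normal
      set L := Cfsg.sectionKernel P (T ⊓ P) with hL
      have hLtop : L ≠ ⊤ := fun h => hnot h.ge
      have hover : ∀ K : Subgroup G, (S : Subgroup G) ≤ K → K ≠ ⊤ → K ≤ L := fun K hSK hK =>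
        commutator_le_iff_le_sectionKernel.1 (hPL K hSK hK)
      have hSL : (S : Subgroup G) ≤ L := hover _ le_rfl hStop
      by_cases hN : Subgroup.normalizer ((S : Subgroup G) : Set G) = ⊤
      · haveI := Subgroup.normalizer_eq_top_iff.1 hN
        obtain ⟨W, hW⟩ := hne
        refine hG (le_trans ?_ (le_iSup₂_of_le W hW le_rfl))
        haveI := normal_inducedFunctor_of_normal (h𝓦 W hW) S.isPGroup' ‹(S : Subgroup G).Normal›
        rw [Subgroup.normalizer_eq_top, ← commutator_def]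
      · refine hLtop (eq_top_iff.2 fun g _ => ?_)
        obtain ⟨c, hc, hcg⟩ := frattini_argument S L g
        rw [inf_eq_left.2 hSL] at hcg
        simpa using mul_mem (inv_mem hc) (hover _ Subgroup.le_normalizer hN hcg)
    -- transfer into the abelianized Sylow subgroup
    refine hP fun r hr => ?_
    haveI : Fintype (G ⧸ (S : Subgroup G)) := Fintype.ofFinite _
    have hconj : ∀ a : G, a⁻¹ * r * a ∈ (S : Subgroup G) := fun a =>
      hPS (by simpa using hPn.conj_mem r hr.1 a⁻¹)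
    haveI : ((T ⊓ P).subgroupOf (S : Subgroup G)).Normal := inferInstance
    set D' := commutator ↥(S : Subgroup G) ⊔ (T ⊓ P).subgroupOf (S : Subgroup G) with hD'
    haveI : D'.Normal := by rw [hD']; infer_instance
    have hcomm : ∀ a b : ↥(S : Subgroup G) ⧸ D', a * b = b * a := by
      rintro ⟨a⟩ ⟨b⟩
      refine QuotientGroup.eq.2 (Subgroup.mem_sup_left ?_)
      rw [show (a * b)⁻¹ * (b * a) = ⁅b⁻¹, a⁻¹⁆ by
        simp only [commutatorElement_def]; group, commutator_def]
      exact Subgroup.commutator_mem_commutator (Subgroup.mem_top _) (Subgroup.mem_top _)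
    letI : CommGroup (↥(S : Subgroup G) ⧸ D') := { mul_comm := hcomm }
    let ϕ : ↥(S : Subgroup G) →* ↥(S : Subgroup G) ⧸ D' := QuotientGroup.mk' D'
    have hV : MonoidHom.transfer ϕ r = 1 :=
      MonoidHom.mem_ker.1 (Abelianization.commutator_subset_ker _ hr.2)
    rw [transfer_eq_prod_conj _ ϕ r hconj] at hV
    have hconst : ∀ q : G ⧸ (S : Subgroup G),
        ϕ ⟨q.out⁻¹ * r * q.out, hconj _⟩ = ϕ ⟨r, hPS hr.1⟩ := fun q => by
      refine QuotientGroup.eq.2 (Subgroup.mem_sup_right ?_)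
      show (q.out⁻¹ * r * q.out)⁻¹ * r ∈ T ⊓ P
      have hm : ⁅r, q.out⁆ ∈ T ⊓ P := hcen (Subgroup.commutator_mem_commutator hr.1 (Subgroup.mem_top _))
      have e : (q.out⁻¹ * r * q.out)⁻¹ * r = (r * q.out)⁻¹ * ⁅r, q.out⁆⁻¹ * (r * q.out) := by
        simp only [commutatorElement_def]; group
      rw [e]
      simpa using hDn.conj_mem _ (inv_mem hm) (r * q.out)⁻¹
    rw [Finset.prod_congr rfl (fun q _ => hconst q), Finset.prod_const, Finset.card_univ,
      ← Nat.card_eq_fintype_card] at hV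
    obtain ⟨n, hn⟩ := S.isPGroup' ⟨r, hPS hr.1⟩
    have hcop : (Nat.card (G ⧸ (S : Subgroup G))).Coprime (p ^ n) :=
      (((Fact.out : p.Prime).coprime_iff_not_dvd.2 S.not_dvd_index).symm).pow_right n
    have hone : ϕ ⟨r, hPS hr.1⟩ = 1 := by
      refine orderOf_eq_one_iff.1 (Nat.eq_one_of_dvd_coprimes hcop
        (orderOf_dvd_of_pow_eq_one hV) (orderOf_dvd_of_pow_eq_one ?_))
      rw [← map_pow, hn, map_one]
    have hmem : (⟨r, hPS hr.1⟩ : ↥(S : Subgroup G)) ∈ D' := (QuotientGroup.eq_one_iff _).1 hone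
    have h := Subgroup.mem_map_of_mem (S : Subgroup G).subtype hmem
    rw [hD', Subgroup.map_sup, commutator_def, Subgroup.map_commutator, ← MonoidHom.range_eq_map,
      Subgroup.range_subtype, Subgroup.subgroupOf_map_subtype] at h
    exact (sup_le hS' ((inf_le_left).trans inf_le_left)) h
  have hSM : (S : Subgroup G) ≤ M := hLM _ le_rfl hStop
  refine ⟨M, rfl, hcon, ⟨hMtop, hLM⟩, ⟨le_inf (Subgroup.commutator_le_left P M)
    (Subgroup.commutator_mono (hPS.trans hSM) le_rfl), le_inf inf_le_left ?_⟩, ?_⟩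
  · exact (inf_le_inf_right _ hPS).trans (inf_commutator_le_tgt_of_proper h𝓦 hprop S hSM hMtop)
  · intro u hu huP
    by_contra hno
    push Not at hno
    obtain ⟨N, hSN, hN, hle⟩ := engel_transfer S hu huP hno
    exact hP fun x hx => inf_commutator_le_tgt_of_proper h𝓦 hprop S hSN hN.ne ⟨hPS hx.1, hle hx⟩

end CfsgLib.ConjFunctor
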