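import Cfsg.Agent.Lib.ConjFunctor.NonConstrained
import Cfsg.Agent.Lib.ConjFunctor.FixLocal
import Cfsg.Agent.Lib.ConjFunctor.Transfer
import Cfsg.Agent.Lib.ConjFunctor.EngelTransfer

/-!
# Reduction of control of transfer to constrained sections
-/

set_option autoImplicit false
set_option linter.style.haveILetI false

open scoped commutatorElement

namespace CfsgLib.ConjFunctor

universe u

variable {p : ℕ} {𝓦 : Set (∀ (Q : Type u) [Group Q], Subgroup Q)}

/-- The subgroup generated by the `S ∩ N(W S)'`. -/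
def tgt (𝓦 : Set (∀ (Q : Type u) [Group Q], Subgroup Q)) {H : Type u} [Group H] (S : Subgroup H) :
    Subgroup H :=
  ⨆ W ∈ 𝓦, S ⊓ ⁅Subgroup.normalizer ((Cfsg.inducedFunctor (G := H) W S : Subgroup H) : Set H),
    Subgroup.normalizer ((Cfsg.inducedFunctor (G := H) W S : Subgroup H) : Set H)⁆

theorem tgt_le {H : Type u} [Group H] (S : Subgroup H) : tgt 𝓦 S ≤ S ⊓ commutator H := by
  rw [commutator_def]
  exact iSup₂_le fun W _ => inf_le_inf_left _ (Subgroup.commutator_mono le_top le_top)

theorem map_tgt_equiv (h𝓦 : ∀ W ∈ 𝓦, Cfsg.IsCharPFunctor.{u} p W) {H H' : Type u} [Group H]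
    [Group H'] [Finite H] (e : H ≃* H') {S : Subgroup H} (hS : IsPGroup p ↥S) :
    (tgt 𝓦 S).map e.toMonoidHom = tgt 𝓦 (S.map e.toMonoidHom) := by
  simp only [tgt, Subgroup.map_iSup]
  refine iSup_congr fun W => iSup_congr fun hW => ?_
  rw [Subgroup.map_inf _ _ _ e.injective, Subgroup.map_commutator, map_normalizer_equiv,
    map_inducedFunctor_equiv (h𝓦 W hW) e S hS]

variable [Fact p.Prime]

/-- Control of transfer by the family can be read in any Sylow subgroup. -/
theorem inf_commutator_le_tgt_of_controls (h𝓦 : ∀ W ∈ 𝓦, Cfsg.IsCharPFunctor.{u} p W)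
    {H : Type u} [Group H] [Finite H]
    (h : Cfsg.FamilyControlsTransferIn p ((fun W => Cfsg.inducedFunctor (G := H) W) '' 𝓦) ⊤)
    (S : Sylow p H) : (S : Subgroup H) ⊓ commutator H ≤ tgt 𝓦 (S : Subgroup H) := by
  obtain ⟨T, hle, hT, hdvd, heq⟩ := h
  simp only [iSup_image, top_inf_eq] at heq
  have heq' : T ⊓ commutator H = tgt 𝓦 T := by rw [commutator_def]; exact heq
  obtain ⟨a, -, ha⟩ := (IsSyl.mk hle hT hdvd).exists_cj_eq (isSyl_top S)
  have h1 := congrArg (cj a) heq'
  rw [cj_inf, ha, commutator_def, cj_commutator, cj_eq_self_of_mem (Subgroup.mem_top a)] at h1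
  rw [commutator_def, h1]
  show (tgt 𝓦 T).map (MulAut.conj a).toMonoidHom ≤ tgt 𝓦 (S : Subgroup H)
  rw [map_tgt_equiv h𝓦 _ hT, ← ha]

theorem controls_of_inf_commutator_le {H : Type u} [Group H] [Finite H] (S : Sylow p H)
    (h : (S : Subgroup H) ⊓ commutator H ≤ tgt 𝓦 (S : Subgroup H)) :
    Cfsg.FamilyControlsTransferIn p ((fun W => Cfsg.inducedFunctor (G := H) W) '' 𝓦) ⊤ := by
  refine ⟨S, le_top, S.isPGroup', (isSyl_top S).not_dvd, ?_⟩
  simp only [iSup_image, top_inf_eq]
  rw [← commutator_def]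
  exact le_antisymm h (tgt_le _)

/-- The constrained input: `O_p(H) ∩ H'` lies in the target. -/
def TransferInput (p : ℕ) (𝓦 : Set (∀ (Q : Type u) [Group Q], Subgroup Q)) (H : Type u) [Group H] :
    Prop :=
  Constrained p H → ∀ S : Sylow p H,
    (∀ L : Subgroup H, (S : Subgroup H) ≤ L → L < ⊤ →
      (S : Subgroup H) ⊓ ⁅L, L⁆ ≤ tgt 𝓦 (S : Subgroup H)) →
    Cfsg.pCore p H ⊓ commutator H ≤ tgt 𝓦 (S : Subgroup H)

variable {G : Type u} [Group G]

/-- Control of transfer in every section follows from the constrained input. -/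
theorem transfer_reduce (h𝓦 : ∀ W ∈ 𝓦, Cfsg.IsCharPFunctor.{u} p W)
    (hin : ∀ (H : Type u) [Group H] [Finite H], IsSec G H → TransferInput p 𝓦 H)
    (H : Type u) [Group H] [Finite H] (hsec : IsSec G H) (S : Sylow p H) :
    (S : Subgroup H) ⊓ commutator H ≤ tgt 𝓦 (S : Subgroup H) := by
  suffices main : ∀ (c : ℕ) (H : Type u) [Group H] [Finite H], Nat.card H ≤ c → IsSec G H →
      ∀ S : Sylow p H, (S : Subgroup H) ⊓ commutator H ≤ tgt 𝓦 (S : Subgroup H) from
    main _ H le_rfl hsec S
  intro c
  induction c with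
  | zero => intro H _ _ hH; exact absurd hH (Nat.not_le.2 Nat.card_pos)
  | succ c ih =>
    intro H _ _ hc hsec S
    classical
    haveI hPn := CfsgLib.Solvable.pCore_normal p H
    set P := Cfsg.pCore p H with hP
    set K := tgt 𝓦 (S : Subgroup H) with hK
    have hPS : P ≤ (S : Subgroup H) := CfsgLib.Solvable.pCore_le_sylow S
    -- control in the proper subgroups
    have hlocal : ∀ L : Subgroup H, L < ⊤ → ∀ T : Subgroup H, IsSyl p T L →
        T ⊓ ⁅L, L⁆ ≤ ⨆ W ∈ 𝓦, T ⊓ ⁅L ⊓ Subgroup.normalizer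
            ((Cfsg.inducedFunctor (G := H) W T : Subgroup H) : Set H),
          L ⊓ Subgroup.normalizer ((Cfsg.inducedFunctor (G := H) W T : Subgroup H) : Set H)⁆ := by
      intro L hL T hT
      obtain ⟨S', hS'T, hS'⟩ := exists_sylow_map hT
      have hcard : Nat.card ↥L ≤ c := by
        have : Nat.card ↥L < Nat.card H :=
          (Subgroup.card_le_card_group L).lt_of_ne fun h => hL.ne (Subgroup.eq_top_of_card_eq L h)
        omega
      have h1 := ih ↥L hcard (hsec.subgroup L) S'
      rintro x ⟨hxT, hxc⟩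
      rw [← Subgroup.range_subtype L, MonoidHom.range_eq_map, ← Subgroup.map_commutator,
        ← commutator_def] at hxc
      obtain ⟨y, hy, rfl⟩ := hxc
      have hyS : y ∈ (S' : Subgroup L) := by rw [hS']; exact hxT
      refine SetLike.le_def.1 ?_ (Subgroup.mem_map_of_mem L.subtype (h1 ⟨hyS, hy⟩))
      simp only [tgt, Subgroup.map_iSup]
      refine iSup₂_mono fun W hW => ?_
      rw [Subgroup.map_inf _ _ _ L.subtype_injective, Subgroup.map_commutator, hS'T]
      refine inf_le_inf_left _ ?_
      have hN : (Subgroup.normalizer ((Cfsg.inducedFunctor W (S' : Subgroup L) : Subgroup L) :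
          Set L)).map L.subtype ≤ L ⊓ Subgroup.normalizer
            ((Cfsg.inducedFunctor W T : Subgroup H) : Set H) := by
        refine le_inf (Subgroup.map_subtype_le _) ?_
        refine (Subgroup.le_normalizer_map L.subtype).trans ?_
        rw [← inducedFunctor_subtype (h𝓦 W hW) L _ S'.isPGroup', hS'T]
      exact Subgroup.commutator_mono hN hN
    have hover : ∀ L : Subgroup H, (S : Subgroup H) ≤ L → L < ⊤ →
        (S : Subgroup H) ⊓ ⁅L, L⁆ ≤ K := fun L hSL hL =>
      (hlocal L hL S ⟨hSL, S.isPGroup', fun hd =>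
        S.not_dvd_index (hd.trans (Subgroup.relIndex_dvd_index_of_le hSL))⟩).trans
        (iSup₂_mono fun W _ => inf_le_inf_left _
          (Subgroup.commutator_mono inf_le_right inf_le_right))
    by_cases hP0 : P = ⊥
    · -- all local subgroups are proper
      refine inf_commutator_le_tgt_of_controls h𝓦
        (familyControlsTransferIn_of_local S _ ?_ ?_) S
      · rintro _ ⟨W, hW, rfl⟩
        exact isConjugacyFunctor_inducedFunctor (h𝓦 W hW)
      · intro T hT hfn
        have hlt : Subgroup.normalizer (T : Set H) < ⊤ := by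
          refine lt_top_iff_ne_top.2 fun h => hT (le_bot_iff.1 (hP0 ▸ ?_))
          haveI := Subgroup.normalizer_eq_top_iff.1 h
          exact CfsgLib.Solvable.le_pCore inferInstance (S.isPGroup'.to_le hfn.1)
        refine ⟨_, hfn.2.le, hfn.2.isPGroup, hfn.2.not_dvd, ?_⟩
        simp only [iSup_image]
        exact le_antisymm (hlocal _ hlt _ hfn.2) (iSup₂_le fun W _ => inf_le_inf_left _
          (Subgroup.commutator_mono inf_le_left inf_le_left))
    -- `S ∩ H' ≤ O_p(H) ⊔ K`
    have hsplit : (P ⊓ commutator H ≤ K) → (S : Subgroup H) ⊓ commutator H ≤ K := by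
      intro hPK
      by_cases hSP : (S : Subgroup H) = P
      · rw [hSP]; exact hPK
      set f := QuotientGroup.mk' P with hf
      have hsurj : Function.Surjective f := QuotientGroup.mk'_surjective P
      have hcard : Nat.card (H ⧸ P) ≤ c := by
        have h1 := Subgroup.card_eq_card_quotient_mul_card_subgroup P
        have h2 : 1 < Nat.card ↥P := (Subgroup.one_lt_card_iff_ne_bot P).2 hP0
        have h3 : 0 < Nat.card (H ⧸ P) := Nat.card_pos
        have : Nat.card (H ⧸ P) < Nat.card H := by rw [h1]; exact lt_mul_of_one_lt_right h3 h2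
        omega
      have h1 := ih (H ⧸ P) hcard (hsec.of_surjective hsurj) (S.mapSurjective hsurj)
      rw [Sylow.coe_mapSurjective] at h1
      have hcomap : ((S : Subgroup H).map f).comap f = (S : Subgroup H) := by
        rw [Subgroup.comap_map_eq, hf, QuotientGroup.ker_mk', sup_eq_left.2 hPS]
      have h2 : tgt 𝓦 ((S : Subgroup H).map f) ≤ K.map f := by
        refine iSup₂_le fun W hW => ?_
        set Nb := Subgroup.normalizer
          ((Cfsg.inducedFunctor W ((S : Subgroup H).map f) : Subgroup (H ⧸ P)) : Set (H ⧸ P))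
        have hWp := S.isPGroup'.map f
        have hlt : Nb.comap f < ⊤ := by
          refine lt_top_iff_ne_top.2 fun h => hSP ?_
          have htop : Nb = ⊤ := by
            rw [← Subgroup.map_comap_eq_self_of_surjective hsurj Nb, h,
              Subgroup.map_top_of_surjective f hsurj]
          haveI := Subgroup.normalizer_eq_top_iff.1 htop
          have h3 : Cfsg.inducedFunctor W ((S : Subgroup H).map f) ≤ ⊥ :=
            (CfsgLib.Solvable.le_pCore inferInstance
              (hWp.to_le (inducedFunctor_le _))).trans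
              (CfsgLib.Solvable.pCore_quotient_eq_bot P hP).le
          have h4 : (S : Subgroup H).map f = ⊥ := by
            by_contra h4
            exact inducedFunctor_ne_bot (h𝓦 W hW) hWp h4 (le_bot_iff.1 h3)
          rw [Subgroup.map_eq_bot_iff, hf, QuotientGroup.ker_mk'] at h4
          exact le_antisymm h4 hPS
        have hSL : (S : Subgroup H) ≤ Nb.comap f := Subgroup.map_le_iff_le_comap.1
          ((normalizer_le_functor (isConjugacyFunctor_inducedFunctor (h𝓦 W hW)) hWp).trans'
            Subgroup.le_normalizer)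
        rintro y ⟨hyS, hyN⟩
        rw [← Subgroup.map_comap_eq_self_of_surjective hsurj Nb, ← Subgroup.map_commutator] at hyN
        obtain ⟨l, hl, rfl⟩ := hyN
        exact ⟨l, hover _ hSL hlt ⟨hcomap.le hyS, hl⟩, rfl⟩
      intro x hx
      obtain ⟨k, hk, hkx⟩ := h2 (h1 ⟨⟨x, hx.1, rfl⟩, by
        have := Subgroup.mem_map_of_mem f hx.2
        rw [commutator_def, Subgroup.map_commutator,
          Subgroup.map_top_of_surjective f hsurj] at this
        rwa [commutator_def]⟩)
      have hr : k⁻¹ * x ∈ P := QuotientGroup.eq.1 hkx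
      have hk' := tgt_le (𝓦 := 𝓦) (S : Subgroup H) hk
      have h3 : k⁻¹ * x ∈ K := hPK ⟨hr, Subgroup.mul_mem _ (Subgroup.inv_mem _ hk'.2) hx.2⟩
      simpa using mul_mem hk h3
    by_cases hcon : Constrained p H
    · exact hsplit (hin H hsec hcon S hover)
    set C := Subgroup.centralizer (P : Set H) with hC
    haveI : C.Normal := by rw [hC]; infer_instance
    by_cases hL : C ⊔ (S : Subgroup H) = ⊤
    · -- conjugation on `O_p` is that of `S`
      refine hsplit fun r hr => ?_
      have hStop : (S : Subgroup H) < ⊤ := by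
        refine lt_top_iff_ne_top.2 fun h => hcon ?_
        have : P = ⊤ := by
          rw [hP]
          refine CfsgLib.Solvable.pCore_eq_top_of_isPGroup ?_
          exact (h ▸ S.isPGroup' : IsPGroup p (⊤ : Subgroup H)).of_equiv Subgroup.topEquiv
        intro x _
        rw [← hP, this]; trivial
      refine hover S le_rfl hStop ⟨hPS hr.1, ?_⟩
      haveI : Fintype (H ⧸ (S : Subgroup H)) := Fintype.ofFinite _
      have hconj : ∀ a : H, a⁻¹ * r * a ∈ (S : Subgroup H) := fun a =>
        hPS (by simpa using hPn.conj_mem r hr.1 a⁻¹)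
      let ϕ : ↥(S : Subgroup H) →* Abelianization ↥(S : Subgroup H) := Abelianization.of
      have hV : MonoidHom.transfer ϕ r = 1 :=
        MonoidHom.mem_ker.1 (Abelianization.commutator_subset_ker _ hr.2)
      rw [transfer_eq_prod_conj _ ϕ r hconj] at hV
      have hconst : ∀ q : H ⧸ (S : Subgroup H),
          ϕ ⟨q.out⁻¹ * r * q.out, hconj _⟩ = ϕ ⟨r, hPS hr.1⟩ := by
        intro q
        have hq : q.out ∈ (C ⊔ (S : Subgroup H) : Subgroup H) := by rw [hL]; trivial
        obtain ⟨a, ha, s, hs, he⟩ := Subgroup.mem_sup_of_normal_left.1 hq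
        have e : ((⟨q.out⁻¹ * r * q.out, hconj _⟩ : ↥(S : Subgroup H))) =
            (⟨s, hs⟩ : ↥(S : Subgroup H))⁻¹ * ⟨r, hPS hr.1⟩ * ⟨s, hs⟩ := by
          refine Subtype.ext ?_
          show q.out⁻¹ * r * q.out = s⁻¹ * r * s
          rw [← he, mul_inv_rev]
          calc s⁻¹ * a⁻¹ * r * (a * s) = s⁻¹ * a⁻¹ * (r * a) * s := by group
            _ = s⁻¹ * r * s := by
              rw [Subgroup.mem_centralizer_iff.1 ha r hr.1]; group
        rw [e, map_mul, map_mul, map_inv, mul_comm (ϕ ⟨s, hs⟩)⁻¹, inv_mul_cancel_right]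
      rw [Finset.prod_congr rfl (fun q _ => hconst q), Finset.prod_const, Finset.card_univ,
        ← Nat.card_eq_fintype_card] at hV
      obtain ⟨n, hn⟩ := S.isPGroup' ⟨r, hPS hr.1⟩
      have hcop : (Nat.card (H ⧸ (S : Subgroup H))).Coprime (p ^ n) :=
        (((Fact.out : p.Prime).coprime_iff_not_dvd.2 S.not_dvd_index).symm).pow_right n
      have hone : ϕ ⟨r, hPS hr.1⟩ = 1 := by
        refine orderOf_eq_one_iff.1 (Nat.eq_one_of_dvd_coprimes hcop
          (orderOf_dvd_of_pow_eq_one hV) (orderOf_dvd_of_pow_eq_one ?_))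
        rw [← map_pow, hn, map_one]
      have hmem : (⟨r, hPS hr.1⟩ : ↥(S : Subgroup H)) ∈ commutator ↥(S : Subgroup H) :=
        (QuotientGroup.eq_one_iff _).1 hone
      have := Subgroup.mem_map_of_mem (S : Subgroup H).subtype hmem
      rwa [commutator_def, Subgroup.map_commutator, ← MonoidHom.range_eq_map,
        Subgroup.range_subtype] at this
    by_cases hD : Subgroup.normalizer (((S : Subgroup H) ⊓ C : Subgroup H) : Set H) = ⊤
    · -- a nontrivial `O_{p'}`
      have hQ0 := pPrimeCore_ne_bot_of_inf_le S hcon (inf_le_pCore_of_normal S C hD)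
      set Q := Cfsg.pPrimeCore p H with hQ
      haveI := CfsgLib.Solvable.pPrimeCore_normal p H
      set f := QuotientGroup.mk' Q with hf
      have hsurj : Function.Surjective f := QuotientGroup.mk'_surjective Q
      have hker : (Nat.card ↥f.ker).Coprime p := by
        rw [hf, QuotientGroup.ker_mk']; exact CfsgLib.Solvable.pPrimeCore_card_coprime p H
      have hcard : Nat.card (H ⧸ Q) ≤ c := by
        have h1 := Subgroup.card_eq_card_quotient_mul_card_subgroup Q
        have h2 : 1 < Nat.card ↥Q := (Subgroup.one_lt_card_iff_ne_bot Q).2 hQ0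
        have h3 : 0 < Nat.card (H ⧸ Q) := Nat.card_pos
        have : Nat.card (H ⧸ Q) < Nat.card H := by rw [h1]; exact lt_mul_of_one_lt_right h3 h2
        omega
      have h1 := ih (H ⧸ Q) hcard (hsec.of_surjective hsurj) (S.mapSurjective hsurj)
      rw [Sylow.coe_mapSurjective] at h1
      have hinj : ∀ a ∈ (S : Subgroup H), ∀ b ∈ (S : Subgroup H), f a = f b → a = b := by
        intro a ha b hb hab
        have hm : a⁻¹ * b ∈ Q := QuotientGroup.eq.1 hab
        have h0 : (S : Subgroup H) ⊓ Q = ⊥ := by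
          obtain ⟨n, hn⟩ := S.isPGroup'.exists_card_eq
          refine Subgroup.inf_eq_bot_of_coprime ?_
          rw [hn]
          exact ((CfsgLib.Solvable.pPrimeCore_card_coprime p H).symm).pow_left n
        have h5 : a⁻¹ * b ∈ (S : Subgroup H) ⊓ Q := ⟨Subgroup.mul_mem _ (Subgroup.inv_mem _ ha) hb, hm⟩
        rw [h0, Subgroup.mem_bot, inv_mul_eq_one] at h5
        exact h5
      have h2 : tgt 𝓦 ((S : Subgroup H).map f) ≤ K.map f := by
        refine iSup₂_le fun W hW => ?_
        have hWf : Cfsg.inducedFunctor W ((S : Subgroup H).map f) =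
            (Cfsg.inducedFunctor W (S : Subgroup H)).map f :=
          inducedFunctor_map (h𝓦 W hW) f _ S.isPGroup' (fun a ha b hb => hinj a ha b hb)
        rw [hWf, ← map_normalizer_pPrime hsurj hker (S.isPGroup'.to_le (inducedFunctor_le _)),
          ← Subgroup.map_commutator]
        rintro _ ⟨⟨s, hs, rfl⟩, n, hn, hns⟩
        refine ⟨s, ?_, rfl⟩
        refine (le_iSup₂_of_le W hW le_rfl : _ ≤ K) ⟨hs, ?_⟩
        set N := Subgroup.normalizer
          ((Cfsg.inducedFunctor W (S : Subgroup H) : Subgroup H) : Set H) with hN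
        have hsN : s ∈ N := normalizer_le_functor
          (isConjugacyFunctor_inducedFunctor (h𝓦 W hW)) S.isPGroup' (Subgroup.le_normalizer hs)
        have hnN : n ∈ N := Subgroup.commutator_le_self N hn
        have hqQ : n⁻¹ * s ∈ Q := QuotientGroup.eq.1 hns
        have hNc : ⁅N, N⁆ = (commutator ↥N).map N.subtype := by
          rw [commutator_def, Subgroup.map_commutator, ← MonoidHom.range_eq_map,
            Subgroup.range_subtype]
        have hn1 : Abelianization.of (⟨n, hnN⟩ : ↥N) = 1 := by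
          refine (QuotientGroup.eq_one_iff _).2 ?_
          rw [hNc] at hn
          obtain ⟨n', hn', he⟩ := hn
          rwa [show (⟨n, hnN⟩ : ↥N) = n' from Subtype.ext he.symm]
        have hsq : Abelianization.of (⟨s, hsN⟩ : ↥N) =
            Abelianization.of (⟨n⁻¹ * s, mul_mem (inv_mem hnN) hsN⟩ : ↥N) := by
          rw [show (⟨n⁻¹ * s, mul_mem (inv_mem hnN) hsN⟩ : ↥N) =
            (⟨n, hnN⟩ : ↥N)⁻¹ * ⟨s, hsN⟩ from rfl, map_mul, map_inv, hn1, inv_one, one_mul]
        obtain ⟨k, hk⟩ := S.isPGroup' ⟨s, hs⟩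
        have hone : Abelianization.of (⟨s, hsN⟩ : ↥N) = 1 := by
          refine orderOf_eq_one_iff.1 (Nat.eq_one_of_dvd_coprimes
            ((CfsgLib.Solvable.pPrimeCore_card_coprime p H).symm.pow_left k) ?_ ?_)
          · refine orderOf_dvd_of_pow_eq_one ?_
            have e : (⟨s, hsN⟩ : ↥N) ^ p ^ k = 1 :=
              Subtype.ext (by simpa using congrArg Subtype.val hk)
            rw [← map_pow, e, map_one]
          · refine orderOf_dvd_of_pow_eq_one ?_
            have e : (⟨n⁻¹ * s, mul_mem (inv_mem hnN) hsN⟩ : ↥N) ^ Nat.card ↥Q = 1 := by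
              refine Subtype.ext ?_
              have h6 : (⟨n⁻¹ * s, hqQ⟩ : ↥Q) ^ Nat.card ↥Q = 1 := pow_card_eq_one'
              exact (SubmonoidClass.coe_pow (⟨n⁻¹ * s, hqQ⟩ : ↥Q) (Nat.card ↥Q)).symm.trans (congrArg Subtype.val h6)
            rw [hsq, ← map_pow, e, map_one]
        rw [hNc]
        exact ⟨⟨s, hsN⟩, (QuotientGroup.eq_one_iff _).1 hone, rfl⟩
      intro x hx
      obtain ⟨k, hk, hkx⟩ := h2 (h1 ⟨⟨x, hx.1, rfl⟩, by
        have := Subgroup.mem_map_of_mem f hx.2
        rw [commutator_def, Subgroup.map_commutator,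
          Subgroup.map_top_of_surjective f hsurj] at this
        rwa [commutator_def]⟩)
      rwa [← hinj k (tgt_le (𝓦 := 𝓦) (S : Subgroup H) hk).1 x hx.1 hkx]
    -- two proper overgroups of `S`
    rw [commutator_def]
    refine inf_commutator_le S K fun D g hDS hg => ?_
    obtain ⟨y, z, hy, hz, rfl, hyD⟩ := move_split S C hDS hg
    have hmove : ∀ (L : Subgroup H) (E : Subgroup H) (w : H), (S : Subgroup H) ≤ L → L < ⊤ →
        E ≤ (S : Subgroup H) → cj w E ≤ (S : Subgroup H) → w ∈ L → DiffIn K E w := by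
      intro L E w hSL hL' hE hwE hw a ha
      refine hover L hSL hL' ⟨Subgroup.mul_mem _ (Subgroup.inv_mem _ (hE ha)) (hwE (conj_mem_cj ha)), ?_⟩
      have := Subgroup.commutator_mem_commutator (inv_mem (hSL (hE ha))) hw
      simpa [commutatorElement_def, mul_assoc] using this
    refine DiffIn.comp (hmove _ D y le_sup_right (lt_top_iff_ne_top.2 hL) hDS hyD hy) ?_
    refine hmove _ (cj y D) z (le_normalizer_inf_normal _ C) (lt_top_iff_ne_top.2 hD) hyD ?_ hz
    rw [← cj_mul]; exact hg

end CfsgLib.ConjFunctor
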